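import Cfsg.Agent.Lib.Recog.AEight.Model
import Mathlib

/-!
Group-theoretic odds and ends for the three-local recognition of the alternating group of degree eight.
-/

set_option autoImplicit false

namespace Cfsg.Agent.Recog.AEight

variable {G : Type*} [Group G]

/-- The four group on two commuting involutions. -/
def four (x y : G) (hx : x * x = 1) (hy : y * y = 1) (hc : x * y = y * x) : Subgroup G where
  carrier := {1, x, y, x * y}
  one_mem' := by simp
  inv_mem' := by
    have hxi : x⁻¹ = x := inv_eq_of_mul_eq_one_right hx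
    have hyi : y⁻¹ = y := inv_eq_of_mul_eq_one_right hy
    rintro a (rfl | rfl | rfl | rfl) <;> simp [hxi, hyi, hc]
  mul_mem' := by
    have h1 : x * (x * y) = y := by rw [← mul_assoc, hx, one_mul]
    have h2 : y * (x * y) = x := by rw [hc, ← mul_assoc, hy, one_mul]
    have h3 : x * y * x = y := by rw [mul_assoc, ← hc, h1]
    have h4 : x * y * y = x := by rw [mul_assoc, hy, mul_one]
    have h5 : x * y * (x * y) = 1 := by rw [← mul_assoc, h3, hy]
    rintro a b (rfl | rfl | rfl | rfl) (rfl | rfl | rfl | rfl) <;> simp [hx, hy, hc.symm, h1, h2, h3, h4, h5]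

theorem mem_four {x y : G} {hx : x * x = 1} {hy : y * y = 1} {hc : x * y = y * x} {a : G} :
    a ∈ four x y hx hy hc ↔ a = 1 ∨ a = x ∨ a = y ∨ a = x * y := Iff.rfl

theorem four_sq {x y : G} {hx : x * x = 1} {hy : y * y = 1} {hc : x * y = y * x} {a : G}
    (h : a ∈ four x y hx hy hc) : a * a = 1 := by
  rcases mem_four.1 h with rfl | rfl | rfl | rfl
  · simp
  · exact hx
  · exact hy
  · rw [← mul_assoc, mul_assoc x y x, ← hc, ← mul_assoc, hx, one_mul, hy]

theorem card_four {x y : G} {hx : x * x = 1} {hy : y * y = 1} {hc : x * y = y * x}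
    (h1 : x ≠ 1) (h2 : y ≠ 1) (h3 : x ≠ y) : Nat.card (four x y hx hy hc) = 4 := by
  classical
  have h4 : x * y ≠ 1 := fun h => h3 ((eq_inv_of_mul_eq_one_left h).trans (inv_eq_of_mul_eq_one_right hy))
  rw [Nat.card_eq_of_bijective
    (fun i : Fin 4 => (⟨![1, x, y, x * y] i, by fin_cases i <;> simp [mem_four]⟩ : four x y hx hy hc)) ?_ |>.symm,
    Nat.card_eq_fintype_card, Fintype.card_fin]
  constructor
  · intro i j h
    have h' : ![1, x, y, x * y] i = ![1, x, y, x * y] j := congrArg Subtype.val h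
    fin_cases i <;> fin_cases j <;>
      first
        | rfl
        | exact absurd h' (by simp [h1, h2, h3, h4, Ne.symm h1, Ne.symm h2, Ne.symm h3, Ne.symm h4])
  · rintro ⟨a, ha⟩
    rcases mem_four.1 ha with h | h | h | h
    · exact ⟨0, Subtype.ext h.symm⟩
    · exact ⟨1, Subtype.ext h.symm⟩
    · exact ⟨2, Subtype.ext h.symm⟩
    · exact ⟨3, Subtype.ext h.symm⟩

/-- Conjugation preserves commutation. -/
theorem conj_comm {a b : G} (g : G) (h : a * b = b * a) :
    g * a * g⁻¹ * (g * b * g⁻¹) = g * b * g⁻¹ * (g * a * g⁻¹) := by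
  simp only [← MulAut.conj_apply, ← map_mul, h]

theorem conj_comm_iff {a b : G} (g : G) :
    g * a * g⁻¹ * (g * b * g⁻¹) = g * b * g⁻¹ * (g * a * g⁻¹) ↔ a * b = b * a := by
  simp only [← MulAut.conj_apply, ← map_mul, (MulAut.conj g).injective.eq_iff]

/-- The centraliser of a conjugate has the same order. -/
theorem card_cent_conj (g x : G) :
    Nat.card (Subgroup.centralizer ({g * x * g⁻¹} : Set G)) = Nat.card (Subgroup.centralizer ({x} : Set G)) := by
  refine (Nat.card_congr ((MulAut.conj g).toEquiv.subtypeEquiv fun a => ?_)).symm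
  rw [Subgroup.mem_centralizer_singleton_iff, Subgroup.mem_centralizer_singleton_iff]
  exact (conj_comm_iff g).symm

theorem inv_eq_self {x : G} (h : x * x = 1) : x⁻¹ = x := inv_eq_of_mul_eq_one_right h

theorem order_two {x : G} (h : x * x = 1) (h1 : x ≠ 1) : orderOf x = 2 :=
  orderOf_eq_prime (by rw [sq, h]) h1

theorem order_three {x : G} (h : x * x * x = 1) (h1 : x ≠ 1) : orderOf x = 3 :=
  orderOf_eq_prime (by rw [pow_succ, sq, h]) h1

theorem mem_zpowers_three {x a : G} (h : x * x * x = 1) (ha : a ∈ Subgroup.zpowers x) :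
    a = 1 ∨ a = x ∨ a = x * x := by
  obtain ⟨i, rfl⟩ := Subgroup.mem_zpowers_iff.1 ha
  have h3 : x ^ (3 : ℤ) = 1 := by
    rw [show (3 : ℤ) = ((3 : ℕ) : ℤ) from rfl, zpow_natCast, pow_succ, sq, h]
  rw [← Int.emod_add_ediv_mul i 3, zpow_add, mul_comm (i / 3) 3, zpow_mul, h3, one_zpow, mul_one]
  have h0 := Int.emod_nonneg i (show (3 : ℤ) ≠ 0 by norm_num)
  have h3' := Int.emod_lt_of_pos i (show (0 : ℤ) < 3 by norm_num)
  generalize i % 3 = r at h0 h3' ⊢
  interval_cases r
  · exact Or.inl (zpow_zero x)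
  · exact Or.inr (Or.inl (zpow_one x))
  · exact Or.inr (Or.inr (zpow_two x))

end Cfsg.Agent.Recog.AEight
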