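import Cfsg.Agent.Lib.Recog.AEight.CopyV
import Cfsg.Agent.Lib.Invol.ZStar

/-!
The centraliser of a double transposition lies in the copy.
-/

set_option autoImplicit false
set_option maxRecDepth 100000

namespace Cfsg.Agent.Recog.AEight

open Equiv

attribute [local instance 2000] List.decidableBAll List.decidableBEx

variable {G : Type*} [Group G]

theorem orderOf_not_two {x : G} (h : x * x = 1) (h1 : x ≠ 1) {n : ℕ} (hn : Odd n) : x ^ n ≠ 1 := by
  intro e
  have := orderOf_dvd_of_pow_eq_one e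
  rw [order_two h h1] at this
  exact Nat.not_even_iff_odd.2 hn (even_iff_two_dvd.2 this)

/-- A fixed-point-free involution on a subgroup without involutions inverts it. -/
theorem inverted [Finite G] (O : Subgroup G) {v : G} (hv : v * v = 1) (hO : ∀ x ∈ O, v * x * v ∈ O)
    (hfix : ∀ x ∈ O, v * x = x * v → x = 1) : ∀ x ∈ O, v * x * v = x⁻¹ := by
  have hinj : Function.Injective (fun x : O => (⟨(x : G)⁻¹ * (v * x * v), O.mul_mem (O.inv_mem x.2) (hO x x.2)⟩ : O)) := by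
    intro x y e
    have e' : (x : G)⁻¹ * (v * x * v) = (y : G)⁻¹ * (v * y * v) := congrArg Subtype.val e
    have h1 := hfix ((y : G) * (x : G)⁻¹) (O.mul_mem y.2 (O.inv_mem x.2)) (by
      calc v * ((y : G) * (x : G)⁻¹) = (y : G) * ((y : G)⁻¹ * (v * y * v)) * v⁻¹ * (x : G)⁻¹ := by group
        _ = (y : G) * ((x : G)⁻¹ * (v * x * v)) * v⁻¹ * (x : G)⁻¹ := by rw [e']
        _ = (y : G) * (x : G)⁻¹ * v := by group)
    exact Subtype.ext (mul_inv_eq_one.1 h1).symm
  intro x hx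
  obtain ⟨w, hw⟩ := (Finite.surjective_of_injective hinj) ⟨x, hx⟩
  have hw' : (w : G)⁻¹ * (v * w * v) = x := congrArg Subtype.val hw
  rw [← hw']
  have hvv : v⁻¹ = v := inv_eq_self hv
  simp only [mul_inv_rev, inv_inv, hvv, ← mul_assoc]
  rw [mul_assoc _ v v, hv, mul_one]

/-- The packed commutator check, unpacked. -/
theorem of_centChk {a j σ : P8} (hchk : centChk (code a) (code j) = true) (hσ : Perm.sign σ = 1)
    (ha : a * σ = σ * a) (hodd : Odd (orderOf σ)) (h1 : σ ≠ 1) :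
    σ⁻¹ * (j * (σ * j)) ≠ 1 ∧ σ⁻¹ * (j * (σ * j)) * (σ⁻¹ * (j * (σ * j))) = 1 := by
  have h := of_allPerm hchk σ (okComm_of ha)
  simp only [cmtN, ← code_mul, Bool.or_eq_true, Bool.and_eq_true, Bool.not_eq_true', Bool.eq_false_iff, ne_eq,
    beq_one, evenN_iff] at h
  rcases h with h | ⟨h12, h⟩
  · exact absurd hσ h
  have h3 : σ * σ * σ = 1 := by
    have hd : orderOf σ ∣ 12 := orderOf_dvd_of_pow_eq_one (by rw [← h12]; simp only [pow_succ, pow_zero, one_mul, mul_assoc])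
    have hco : (orderOf σ).Coprime (2 ^ 2) := hodd.coprime_two_right.pow_right 2
    have h' : orderOf σ ∣ 3 := hco.dvd_of_dvd_mul_left (show orderOf σ ∣ 2 ^ 2 * 3 from hd)
    simpa [pow_succ] using orderOf_dvd_iff_pow_eq_one.1 h'
  have hinv : σ * σ = σ⁻¹ := eq_inv_of_mul_eq_one_left h3
  rcases h with (h | h) | h
  · exact absurd (by rw [← mul_assoc]; exact h3) h
  · exact absurd h h1
  · rw [← hinv]; exact h

namespace Cp

variable [Finite G] (C : Cp G)

omit [Finite G] in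
theorem sign_gen : ∀ σ ∈ [i1, i2, dt 0 1 2 7, dt 5 6 2 7, dt 0 1 5 6, dt 0 3 1 4, dt 2 3 4 7, z0], Perm.sign σ = 1 := by
  decide +kernel

/-- Involutions of the copy without fixed points centralise a conjugate of `(012)(345)`. -/
theorem YT_of_fpf {σ : P8} (hσ : Perm.sign σ = 1) (h2 : σ * σ = 1) (h1 : σ ≠ 1) (hf : fpfN (code σ) = true) :
    YT C.toEmb (C.F σ) := by
  obtain ⟨h, hh, rfl | rfl⟩ := two_classes hσ h2 h1
  · rw [not_fpf_tt] at hf
    exact absurd hf (by simp)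
  · rw [C.F_conj hh even_data.1]
    refine C.toSt.YT_conj _ ⟨1, ?_⟩
    simp only [one_mul, inv_one, mul_one]
    rw [C.Y_eq']
    exact (C.F_comm even_data.1 even_data.2.2.2.2.2).2 w0_data.1

theorem not_fpf_of_ZT {σ : P8} (hσ : Perm.sign σ = 1) (h2 : σ * σ = 1) (h1 : σ ≠ 1) (hz : ZT C.toEmb (C.F σ)) :
    fpfN (code σ) = false := by
  rw [Bool.eq_false_iff]
  intro hf
  exact C.toSt.excl (C.F_sq hσ h2) (C.F_ne_one hσ h1) hz (C.YT_of_fpf hσ h2 h1 hf)

omit [Finite G] in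
theorem kl_moved : ∀ κ ∈ kl 3 4 5 6, κ ≠ 1 → ∀ i : Fin 8, κ i ≠ i ↔ inB i.val = true := by decide +kernel

set_option maxHeartbeats 4000000 in
/-- The centraliser of a double transposition. -/
theorem cent_tt {g : G} (hg : g * C.F tt = C.F tt * g) : g ∈ C.G0 := by
  classical
  haveI : Fact (Nat.Prime 2) := ⟨Nat.prime_two⟩
  obtain ⟨hw0, ht, hv, hz, -⟩ := even_data
  obtain ⟨htv, ht2, hv2, hcomm, ht1, hv1, htne⟩ := mul_tt_vv
  have hFt : C.F tt = C.e tt := C.F_eq mem_data.2.2.2.2.1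
  have hFv : C.F vv = C.e vv := C.F_eq mem_data.2.2.2.2.2
  set t := C.F tt with htdef
  set v := C.F vv with hvdef
  have htt : t * t = 1 := C.F_sq ht ht2
  have hvv : v * v = 1 := C.F_sq hv hv2
  have htn : t ≠ 1 := C.F_ne_one ht ht1
  have hvn : v ≠ 1 := C.F_ne_one hv hv1
  have hvt : v * t = t * v := (C.F_comm hv ht).2 hcomm.symm
  have hvne : v ≠ t := fun e => htne ((C.F_inj hv ht).1 e).symm
  have hVmem : ∀ x, x ∈ C.V ↔ x = 1 ∨ x = t ∨ x = v ∨ x = t * v := fun x => by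
    rw [hFt, hFv]; exact mem_four
  have hVnorm : ∀ a : G, a * t * a⁻¹ = t → (a * v * a⁻¹ = v ∨ a * v * a⁻¹ = v * t) → a ∈ C.G0 := by
    intro a hat hav
    refine C.norm_V fun x hx => ?_
    rcases (hVmem x).1 hx with rfl | rfl | rfl | rfl
    · simp [C.V.one_mem]
    · rw [hat]; exact (hVmem _).2 (Or.inr (Or.inl rfl))
    · rcases hav with e | e <;> rw [e] <;> refine (hVmem _).2 ?_
      · exact Or.inr (Or.inr (Or.inl rfl))
      · exact Or.inr (Or.inr (Or.inr hvt))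
    · rw [show a * (t * v) * a⁻¹ = (a * t * a⁻¹) * (a * v * a⁻¹) by group, hat]
      rcases hav with e | e <;> rw [e] <;> refine (hVmem _).2 ?_
      · exact Or.inr (Or.inr (Or.inr rfl))
      · rw [hvt, ← mul_assoc, htt, one_mul]; exact Or.inr (Or.inr (Or.inl rfl))
  have hZt : ZT C.toEmb t := ⟨1, by simpa using C.V_comm_Z ((hVmem t).2 (Or.inr (Or.inl rfl)))⟩
  have hZv : ZT C.toEmb v := ⟨1, by simpa using C.V_comm_Z ((hVmem v).2 (Or.inr (Or.inr (Or.inl rfl))))⟩
  have hZvt : ZT C.toEmb (v * t) := ⟨1, by simpa using C.V_comm_Z ((hVmem (v * t)).2 (Or.inr (Or.inr (Or.inr hvt))))⟩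
  set CT := Subgroup.centralizer ({t} : Set G) with hCT
  have hCTmem : ∀ x, x ∈ CT ↔ x * t = t * x := fun x => Subgroup.mem_centralizer_singleton_iff
  let t' : CT := ⟨t, (hCTmem t).2 rfl⟩
  let v' : CT := ⟨v, (hCTmem v).2 hvt⟩
  have ht'c : ∀ x : CT, x * t' = t' * x := fun x => Subtype.ext ((hCTmem _).1 x.2)
  haveI hn2 : (Subgroup.zpowers t').Normal := ⟨fun n hn a => by
    obtain ⟨i, rfl⟩ := Subgroup.mem_zpowers_iff.1 hn
    rw [(Commute.zpow_right (ht'c a) i).eq, mul_inv_cancel_right]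
    exact Subgroup.zpow_mem_zpowers _ _⟩
  have hmemT : ∀ x : CT, x ∈ Subgroup.zpowers t' ↔ (x : G) = 1 ∨ (x : G) = t := by
    intro x
    constructor
    · intro hx
      obtain ⟨i, rfl⟩ := Subgroup.mem_zpowers_iff.1 hx
      rcases Int.even_or_odd i with ⟨j, rfl⟩ | ⟨j, rfl⟩
      · left
        show (((t' ^ (j + j) : CT)) : G) = 1
        rw [← two_mul, zpow_mul, zpow_two, show t' * t' = 1 from Subtype.ext htt, one_zpow]; rfl
      · right
        show (((t' ^ (2 * j + 1) : CT)) : G) = t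
        rw [zpow_add, zpow_mul, zpow_two, show t' * t' = 1 from Subtype.ext htt, one_zpow, one_mul, zpow_one]
    · rintro (h | h)
      · rw [show x = 1 from Subtype.ext h]; exact one_mem _
      · rw [show x = t' from Subtype.ext h]; exact Subgroup.mem_zpowers _
  let π := QuotientGroup.mk' (Subgroup.zpowers t')
  have hπ : ∀ x y : CT, π x = π y ↔ (y : G) = x ∨ (y : G) = x * t := by
    intro x y
    show (x : CT ⧸ Subgroup.zpowers t') = y ↔ _
    rw [QuotientGroup.eq, hmemT]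
    simp [inv_mul_eq_iff_eq_mul]
  have hord : orderOf (π v') = 2 := by
    refine orderOf_eq_prime ?_ ?_
    · rw [sq, ← map_mul, show v' * v' = 1 from Subtype.ext hvv, map_one]
    · intro e
      rcases (hπ 1 v').1 (e.symm.trans rfl) with h | h
      · exact hvn h
      · exact hvne (by simpa using h)
  have hiso : Cfsg.IsIsolatedInvolution (π v') := by
    refine ⟨hord, fun q hq => ?_⟩
    obtain ⟨a, rfl⟩ := QuotientGroup.mk'_surjective _ q
    change Commute (π v') (π a * π v' * (π a)⁻¹) at hq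
    change π a * π v' * (π a)⁻¹ = π v'
    rw [← map_inv, ← map_mul, ← map_mul] at hq ⊢
    rw [eq_comm, hπ]
    have hat := (hCTmem _).1 a.2
    set w : G := (a : G) * v * (a : G)⁻¹ with hw
    have hat' : (a : G) * t * (a : G)⁻¹ = t := by rw [hat, mul_inv_cancel_right]
    have hww : w * w = 1 := by
      rw [hw, show (a : G) * v * (a : G)⁻¹ * ((a : G) * v * (a : G)⁻¹) = a * (v * v) * (a : G)⁻¹ by group, hvv]; group
    have hwt : w * t * w⁻¹ = t := by
      refine mul_inv_eq_iff_eq_mul.2 ?_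
      have := conj_comm (a : G) hvt
      rw [hat'] at this
      exact this
    have hwv : w * v * w⁻¹ = v ∨ w * v * w⁻¹ = v * t := by
      have hq' : π (v' * (a * v' * a⁻¹)) = π (a * v' * a⁻¹ * v') := by rw [map_mul, map_mul π _ v']; exact hq
      rcases (hπ _ _).1 hq' with h | h
      · left
        exact mul_inv_eq_iff_eq_mul.2 h
      · right
        refine mul_inv_eq_iff_eq_mul.2 ?_
        rw [show w * v = v * w * t from h, mul_assoc, (mul_inv_eq_iff_eq_mul.1 hwt), ← mul_assoc]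
    obtain ⟨σ, hσ, hσw⟩ := C.mem_G0 (hVnorm w hwt hwv)
    have hwne : w ≠ 1 := fun e => hvn (conj_eq_one_iff.1 e)
    have hσ2 : σ * σ = 1 := (C.F_inj (by rw [map_mul, hσ, mul_one]) (map_one _)).1
      (by rw [C.F_mul hσ hσ, hσw, hww, C.F_one])
    have hσ1 : σ ≠ 1 := fun e => hwne (by rw [← hσw, e, C.F_one])
    have hσt : tt * σ = σ * tt := (C.F_comm ht hσ).1 (by rw [hσw, (mul_inv_eq_iff_eq_mul.1 hwt)])
    have hsv : σ * (vv * σ) = vv ∨ σ * (vv * σ) = vv * tt := by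
      have hsv' : Perm.sign (σ * (vv * σ)) = 1 := by rw [map_mul, map_mul, hσ, hv, mul_one, mul_one]
      have e : C.F (σ * (vv * σ)) = w * v * w⁻¹ := by
        rw [C.F_mul hσ (by rw [map_mul, hσ, hv, mul_one]), C.F_mul hv hσ, hσw, inv_eq_self hww, ← mul_assoc]
      rcases hwv with h | h
      · exact Or.inl ((C.F_inj hsv' hv).1 (by rw [e, h]))
      · exact Or.inr ((C.F_inj hsv' (by rw [map_mul, hv, ht, mul_one])).1 (by rw [e, h, C.F_mul hv ht]))
    have hne_t : σ ≠ tt := by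
      rintro rfl
      refine hvne ?_
      have hav : (a : G) * v * (a : G)⁻¹ = (a : G) * t * (a : G)⁻¹ := by rw [hat', ← hw, ← hσw]
      exact mul_left_cancel (mul_right_cancel hav)
    have hσtt : Perm.sign (σ * tt) = 1 := by rw [map_mul, hσ, ht, mul_one]
    have hf1 : fpfN (code σ) = false := C.not_fpf_of_ZT hσ hσ2 hσ1 (hσw.symm ▸ C.toSt.ZT_conj _ hZv)
    have hst2 : σ * tt * (σ * tt) = 1 := by
      rw [mul_assoc, ← mul_assoc tt, hσt, mul_assoc, ht2, mul_one, hσ2]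
    have hst1 : σ * tt ≠ 1 := fun e => hne_t ((eq_inv_of_mul_eq_one_left e).trans (inv_eq_self ht2))
    have hf2 : fpfN (code (σ * tt)) = false := by
      refine C.not_fpf_of_ZT hσtt hst2 hst1 ?_
      rw [C.F_mul hσ ht, hσw, show w * t = (a : G) * (v * t) * (a : G)⁻¹ by
        conv_lhs => rw [hw, ← hat']
        group]
      exact C.toSt.ZT_conj _ hZvt
    show ((a * v' * a⁻¹ : CT) : G) = (v' : G) ∨ ((a * v' * a⁻¹ : CT) : G) = (v' : G) * t
    change w = v ∨ w = v * t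
    rw [← hσw]
    have hc := of_allPerm cand_chk σ (okComm_of hσt)
    simp only [← code_mul, Bool.or_eq_true, Bool.not_eq_true', Bool.eq_false_iff, ne_eq, beq_one, evenN_iff,
      beq_code, anyL_iff, List.mem_map] at hc
    rcases hc with (((((((((hc | hc) | hc) | hc) | hc) | hc) | hc) | hc) | hc)) | ⟨_, ⟨r, hr, rfl⟩, hc⟩
    · exact absurd hσ hc
    · exact absurd hσ2 hc
    · rw [hf1] at hc; exact absurd hc (by simp)
    · rw [hf2] at hc; exact absurd hc (by simp)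
    · refine absurd ?_ hc
      simp only [memN, anyL_iff, List.mem_cons, List.not_mem_nil, or_false, exists_eq_or_imp, exists_eq_left, beq_code]
      exact hsv
    · exact Or.inl (by rw [hc])
    · exact Or.inr (by rw [hc, C.F_mul hv ht])
    · exact absurd hc hσ1
    · exact absurd hc hne_t
    exfalso
    simp only [← code_mul, beq_code] at hc
    obtain ⟨hre, hr2, hr1, hrf, hrt⟩ := rhos_mem r hr
    set R := C.F r with hR
    have hRR := C.F_sq hre hr2
    have hRw : R * w * R⁻¹ = w * t := by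
      rw [hR, ← hσw, ← C.F_conj hre hσ, inv_eq_self hr2, ← C.F_mul hσ ht, mul_assoc, hc]
    have hRt : R * t * R⁻¹ = t := mul_inv_eq_iff_eq_mul.2 ((C.F_comm hre ht).2 hrt)
    have haS : (a : G)⁻¹ * t * a = t := by
      calc (a : G)⁻¹ * t * a = (a : G)⁻¹ * ((a : G) * t * (a : G)⁻¹) * a := by rw [hat']
        _ = t := by group
    have hT : (a : G)⁻¹ * R * a * t * ((a : G)⁻¹ * R * a)⁻¹ = t := by
      rw [show (a : G)⁻¹ * R * a * t * ((a : G)⁻¹ * R * a)⁻¹ = (a : G)⁻¹ * (R * ((a : G) * t * (a : G)⁻¹) * R⁻¹) * a by group,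
        hat', hRt, haS]
    have hV' : (a : G)⁻¹ * R * a * v * ((a : G)⁻¹ * R * a)⁻¹ = v * t := by
      rw [show (a : G)⁻¹ * R * a * v * ((a : G)⁻¹ * R * a)⁻¹ = (a : G)⁻¹ * (R * w * R⁻¹) * a by rw [hw]; group, hRw,
        show (a : G)⁻¹ * (w * t) * a = ((a : G)⁻¹ * w * a) * ((a : G)⁻¹ * t * a) by group, haS, hw]
      group
    obtain ⟨p, hp, hpe⟩ := C.mem_G0 (hVnorm _ hT (Or.inr hV'))
    have hp2 : p * p = 1 := (C.F_inj (by rw [map_mul, hp, mul_one]) (map_one _)).1 (by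
      rw [C.F_mul hp hp, hpe, C.F_one,
        show (a : G)⁻¹ * R * a * ((a : G)⁻¹ * R * a) = (a : G)⁻¹ * (R * R) * a by group, hRR]
      group)
    have hp1 : p ≠ 1 := by
      rintro rfl
      rw [C.F_one] at hpe
      refine C.F_ne_one hre hr1 ?_
      have := congrArg (fun x => (a : G) * x * (a : G)⁻¹) hpe
      simpa [mul_assoc] using this.symm
    have hpf : fpfN (code p) = true := by
      by_contra hpf
      obtain ⟨h, hh, e | e⟩ := two_classes hp hp2 hp1
      · refine C.toSt.excl hRR (C.F_ne_one hre hr1) ?_ (C.YT_of_fpf hre hr2 hr1 hrf)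
        show ZT C.toEmb R
        rw [show R = (a : G) * ((a : G)⁻¹ * R * a) * (a : G)⁻¹ by group, ← hpe, ← e, C.F_conj hh ht]
        exact C.toSt.ZT_conj _ (C.toSt.ZT_conj _ hZt)
      · exact hpf (e ▸ fpf_w0)
    have hpt : p * (tt * p) = tt := (C.F_inj (by rw [map_mul, map_mul, hp, ht, mul_one, mul_one]) ht).1 (by
      rw [C.F_mul hp (by rw [map_mul, ht, hp, mul_one]), C.F_mul ht hp]
      nth_rw 2 [show C.F p = (C.F p)⁻¹ from (inv_eq_self (C.F_sq hp hp2)).symm]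
      rw [hpe, ← mul_assoc]
      exact hT)
    have hpv : p * (vv * p) = vv * tt :=
      (C.F_inj (by rw [map_mul, map_mul, hp, hv, mul_one, mul_one]) (by rw [map_mul, hv, ht, mul_one])).1 (by
      rw [C.F_mul hp (by rw [map_mul, hv, hp, mul_one]), C.F_mul hv hp, C.F_mul hv ht]
      nth_rw 2 [show C.F p = (C.F p)⁻¹ from (inv_eq_self (C.F_sq hp hp2)).symm]
      rw [hpe, ← mul_assoc]
      exact hV')
    have hk1 : tt ∈ kl 3 4 5 6 ∧ vv * tt ∈ kl 3 4 5 6 := by decide +kernel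
    have hok : ∀ i j : Fin 8, okStab inB i.val (p i).val j.val (p j).val = true := by
      intro i j
      rw [okStab, beq_iff_eq]
      have h1 := kl_moved tt hk1.1 ht1
      rw [Bool.eq_iff_iff, ← h1, ← h1]
      have hc' : tt * p = p * tt := by
        calc tt * p = p * p * (tt * p) := by rw [hp2, one_mul]
          _ = p * (p * (tt * p)) := by rw [mul_assoc]
          _ = p * tt := by rw [hpt]
      rw [show tt (p i) = p (tt i) from DFunLike.congr_fun hc' i]
      exact p.injective.ne_iff.symm.trans Iff.rfl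
    have hn := of_allPerm norm_chk p hok
    simp only [← code_mul, Bool.or_eq_true, Bool.not_eq_true', Bool.eq_false_iff, ne_eq, beq_one, evenN_iff,
      beq_code, Bool.and_eq_true, memN_iff] at hn
    rcases hn with ((((hn | hn) | hn) | hn) | hn) | ⟨-, hn⟩
    · exact hn hp
    · exact hn hp2
    · exact hn hpf
    · exact hn (by rw [hpt]; exact hk1.1)
    · exact hn (by rw [hpv]; exact hk1.2)
    · refine ht1 ?_
      rw [← mul_assoc, hn, mul_assoc, hp2, mul_one] at hpv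
      exact left_eq_mul.1 hpv
  obtain ⟨N, hNn, hNodd, hNc⟩ := Cfsg.Agent.ZStar.exists_odd_normal hiso
  set P := N.comap π with hP
  have htP : t' ∈ P := by
    show π t' ∈ N
    rw [(hπ 1 t').2 (Or.inr (by simp [t']))|>.symm, map_one]
    exact N.one_mem
  let tP : P := ⟨t', htP⟩
  have hsyl : ∀ Q : Subgroup P, IsPGroup 2 Q → Q ≤ Subgroup.zpowers tP := by
    intro Q hQ x hx
    obtain ⟨k, hk⟩ := IsPGroup.iff_orderOf.1 hQ ⟨x, hx⟩
    rw [Subgroup.orderOf_mk] at hk
    have h1 : orderOf (π (x : CT)) ∣ 2 ^ k := by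
      rw [← hk]
      exact orderOf_map_dvd (π.comp P.subtype) x
    have h2 : orderOf (π (x : CT)) ∣ Nat.card N := Subgroup.orderOf_dvd_natCard _ x.2
    have h3 : π (x : CT) = 1 := orderOf_eq_one_iff.1
      (Nat.eq_one_of_dvd_coprimes (Nat.Coprime.pow_left k (Nat.Coprime.symm hNodd.coprime_two_right)) h1 h2)
    rcases (hπ 1 x).1 (h3.symm ▸ map_one π) with h | h
    · rw [show x = 1 from Subtype.ext (Subtype.ext h)]; exact one_mem _
    · rw [show x = tP from Subtype.ext (Subtype.ext (by simpa [tP, t'] using h))]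
      exact Subgroup.mem_zpowers _
  have hcard2 : Nat.card (Subgroup.zpowers tP) = 2 := by
    rw [Nat.card_zpowers]
    exact order_two (Subtype.ext (Subtype.ext htt)) (fun e => htn (congrArg (fun x : P => ((x : CT) : G)) e))
  obtain ⟨S, hS⟩ := (IsPGroup.of_card (n := 1) (by rw [hcard2]; rfl) : IsPGroup 2 (Subgroup.zpowers tP)).exists_le_sylow
  have hSe : (S : Subgroup P) = Subgroup.zpowers tP := le_antisymm (hsyl _ S.2) hS
  have hcen : Subgroup.normalizer ((S : Subgroup P) : Set P) ≤ Subgroup.centralizer ((S : Subgroup P) : Set P) := by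
    intro a _
    rw [Subgroup.mem_centralizer_iff, hSe]
    intro b hb
    obtain ⟨i, rfl⟩ := Subgroup.mem_zpowers_iff.1 hb
    exact (Commute.zpow_left (show Commute tP a from Subtype.ext (ht'c a).symm) i).eq
  set K := (MonoidHom.transferSylow S hcen).ker with hK
  have hcompl := MonoidHom.ker_transferSylow_isComplement' S hcen
  have hKodd : ¬ 2 ∣ Nat.card K := MonoidHom.not_dvd_card_ker_transferSylow S hcen
  set O := K.map ((CT.subtype).comp P.subtype) with hO
  have hinjP : Function.Injective ((CT.subtype).comp P.subtype) := CT.subtype_injective.comp P.subtype_injective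
  have hOodd : ∀ x ∈ O, Odd (orderOf x) := by
    rintro _ ⟨k, hk, rfl⟩
    rw [orderOf_injective _ hinjP, Nat.odd_iff, ← Nat.two_dvd_ne_zero]
    exact fun h => hKodd (h.trans (Subgroup.orderOf_dvd_natCard _ hk))
  have hsplit : ∀ x : P, ∃ o ∈ O, ∃ c, (c = 1 ∨ c = t) ∧ ((x : CT) : G) = o * c := by
    intro x
    obtain ⟨⟨k, c⟩, hkc⟩ := hcompl.2 x
    refine ⟨_, ⟨k, k.2, rfl⟩, (((c : P) : CT) : G), ?_, (congrArg (fun y : P => ((y : CT) : G)) hkc).symm⟩
    have hc : (c : P) ∈ Subgroup.zpowers tP := hSe ▸ c.2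
    refine (hmemT _).1 ?_
    have := Subgroup.mem_map_of_mem P.subtype hc
    rwa [MonoidHom.map_zpowers] at this
  have hOC : ∀ x ∈ O, x * t = t * x := by
    rintro _ ⟨k, -, rfl⟩
    exact (hCTmem _).1 (k : CT).2
  have hOconj : ∀ a : G, a * t = t * a → ∀ x ∈ O, a * x * a⁻¹ ∈ O := by
    intro a ha x hx
    have hxodd := hOodd x hx
    obtain ⟨k, -, rfl⟩ := hx
    have hmem : (⟨a, (hCTmem a).2 ha⟩ : CT) * (k : CT) * (⟨a, (hCTmem a).2 ha⟩ : CT)⁻¹ ∈ P :=
      (hNn.comap π).conj_mem _ k.2 _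
    obtain ⟨o, ho, c, hc, he⟩ := hsplit ⟨_, hmem⟩
    change a * ((k : CT) : G) * a⁻¹ = o * c at he
    show a * ((k : CT) : G) * a⁻¹ ∈ O
    rcases hc with rfl | rfl
    · rw [he, mul_one]; exact ho
    · exfalso
      have hcm : Commute o t := hOC o ho
      change Odd (orderOf ((k : CT) : G)) at hxodd
      rw [← orderOf_injective (MulAut.conj a).toMonoidHom (MulAut.conj a).injective] at hxodd
      change Odd (orderOf (a * ((k : CT) : G) * a⁻¹)) at hxodd
      rw [he, hcm.orderOf_mul_eq_mul_orderOf_of_coprime (by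
        rw [order_two htt htn]; exact (hOodd o ho).coprime_two_right), order_two htt htn] at hxodd
      exact Nat.not_even_iff_odd.2 hxodd (even_two.mul_left _)
  have hOfree : ∀ x ∈ O, x ∈ C.G0 → x = 1 := by
    intro x hx hxG
    obtain ⟨σ, hσ, rfl⟩ := C.mem_G0 hxG
    by_contra hne
    have hσ1 : σ ≠ 1 := fun e => hne (by rw [e, C.F_one])
    have hoσ : Odd (orderOf σ) := by
      have hd : C.F σ ^ orderOf (C.F σ) = 1 := pow_orderOf_eq_one _
      have hsa : (⟨σ, Perm.mem_alternatingGroup.2 hσ⟩ : alternatingGroup (Fin 8)).1 = σ := rfl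
      rw [← hsa, Subgroup.orderOf_coe, ← orderOf_injective C.f C.f_inj, ← C.F_val, hsa]
      exact hOodd _ hx
    have hj : Perm.sign (dt 0 1 2 7) = 1 := sign_gen _ (by simp)
    have hj2 : dt 0 1 2 7 * dt 0 1 2 7 = 1 ∧ dt 0 1 2 7 * tt = tt * dt 0 1 2 7 := by decide +kernel
    obtain ⟨h1, h2⟩ := of_centChk centT_chk.1 hσ ((C.F_comm ht hσ).1 (hOC _ hx).symm) hoσ hσ1
    have hm := O.mul_mem (O.inv_mem hx) (hOconj _ ((C.F_comm hj ht).2 hj2.2) _ hx)
    rw [← C.F_inv hσ, ← C.F_conj hj hσ, ← C.F_mul (by rw [map_inv, hσ, inv_one])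
      (by simp [map_mul, map_inv, hσ, hj]), inv_eq_self hj2.1, mul_assoc] at hm
    have hs' : Perm.sign (σ⁻¹ * (dt 0 1 2 7 * (σ * dt 0 1 2 7))) = 1 := by
      simp [map_mul, map_inv, hσ, hj]
    exact orderOf_not_two (C.F_sq hs' h2) (C.F_ne_one hs' h1) (hOodd _ hm) (pow_orderOf_eq_one _)
  have hOv : ∀ x ∈ O, v * x = x * v → x = 1 := by
    intro x hx hxv
    refine hOfree x hx (C.cent_V ?_)
    rw [Subgroup.mem_centralizer_iff]
    intro y hy
    rcases (hVmem y).1 hy with rfl | rfl | rfl | rfl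
    · simp
    · exact (hOC x hx).symm
    · exact hxv
    · exact ((show Commute t x from (hOC x hx).symm).mul_left hxv).eq
  have hinv : ∀ x ∈ O, v * x * v = x⁻¹ := inverted O hvv (fun x hx => by
    have := hOconj v hvt x hx
    rwa [inv_eq_self hvv] at this) hOv
  have hfact : ∀ a : G, a * t = t * a → ∃ o ∈ O, o⁻¹ * a ∈ C.G0 := by
    intro a ha
    let a' : CT := ⟨a, (hCTmem a).2 ha⟩
    obtain ⟨k, -, -, hk, hkmem⟩ := Invol.exists_odd_inverted hiso (π a')
    have hvN : π v' * (π a' * π v' * (π a')⁻¹) ∈ N := by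
      have := hNc (π a')
      rw [inv_eq_self (by rw [← sq, ← hord, pow_orderOf_eq_one])] at this
      convert hNn.conj_mem _ this 1 using 1
      group
    have hkN : k ∈ N := Subgroup.zpowers_le.2 hvN hkmem
    obtain ⟨k', rfl⟩ := QuotientGroup.mk'_surjective _ k
    obtain ⟨o, ho, c, hc, he⟩ := hsplit ⟨k', hkN⟩
    refine ⟨o, ho, ?_⟩
    change π k' * π v' * (π k')⁻¹ = π a' * π v' * (π a')⁻¹ at hk
    rw [← map_inv, ← map_mul, ← map_mul, ← map_inv, ← map_mul, ← map_mul, eq_comm, hπ] at hk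
    change ((k' : CT) : G) * v * ((k' : CT) : G)⁻¹ = a * v * a⁻¹ ∨ ((k' : CT) : G) * v * ((k' : CT) : G)⁻¹ = a * v * a⁻¹ * t at hk
    change ((k' : CT) : G) = o * c at he
    rw [he] at hk
    have hcv : c * v * c⁻¹ = v := by
      rcases hc with rfl | rfl
      · group
      · rw [← hvt, mul_inv_cancel_right]
    rw [show o * c * v * (o * c)⁻¹ = o * (c * v * c⁻¹) * o⁻¹ by group, hcv] at hk
    have hot : (o⁻¹ * a) * t * (o⁻¹ * a)⁻¹ = t :=
      mul_inv_eq_iff_eq_mul.2 ((show Commute o t from hOC o ho).inv_left.mul_left ha).eq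
    refine hVnorm _ hot ?_
    rcases hk with hk | hk
    · left
      rw [show o⁻¹ * a * v * (o⁻¹ * a)⁻¹ = o⁻¹ * (a * v * a⁻¹) * o by group, ← hk]; group
    · right
      have ho't : o⁻¹ * t * o = t := by rw [mul_assoc, ← hOC o ho, ← mul_assoc, inv_mul_cancel, one_mul]
      rw [show o⁻¹ * a * v * (o⁻¹ * a)⁻¹ = o⁻¹ * (a * v * a⁻¹ * t * t) * o by rw [mul_assoc _ t t, htt]; group, ← hk,
        show o⁻¹ * (o * v * o⁻¹ * t) * o = v * (o⁻¹ * t * o) by group, ho't]
  have hfix : ∀ (i j h : P8), centChk (code i) (code j) = true → Perm.sign j = 1 → j * j = 1 → j * tt = tt * j →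
      j * i = i * j → Perm.sign h = 1 → h * tt * h⁻¹ = i →
      (vv * (h * vv * h⁻¹)) * (vv * (h * vv * h⁻¹)) * (vv * (h * vv * h⁻¹)) = 1 → vv * (h * vv * h⁻¹) ≠ 1 →
      ∀ x ∈ O, C.F i * x = x * C.F i → x = 1 := by
    intro i j h hchk hj hj2 hjt hji hh hi h3 hne x hx hxi
    have hisgn : Perm.sign i = 1 := by rw [← hi, map_mul, map_mul, map_inv, hh, ht]; rfl
    have hFi : C.F i = C.F h * t * (C.F h)⁻¹ := by rw [← hi, C.F_conj hh ht]
    obtain ⟨o, ho, hoG⟩ := hfact ((C.F h)⁻¹ * x * C.F h) (by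
      have := conj_comm (C.F h)⁻¹ hxi
      rw [hFi] at this
      simpa [mul_assoc] using this.symm)
    let Oi := O.map (MulAut.conj (C.F h)).toMonoidHom
    have hOi : ∀ y, y ∈ Oi ↔ (C.F h)⁻¹ * y * C.F h ∈ O := by
      intro y
      constructor
      · rintro ⟨z, hz, rfl⟩
        show (C.F h)⁻¹ * (C.F h * z * (C.F h)⁻¹) * C.F h ∈ O
        simpa [mul_assoc] using hz
      · intro hy
        exact ⟨_, hy, by show C.F h * ((C.F h)⁻¹ * y * C.F h) * (C.F h)⁻¹ = y; group⟩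
    have hOiG : ∀ y ∈ Oi, y ∈ C.G0 → y = 1 := by
      intro y hy hyG
      have := hOfree _ ((hOi y).1 hy) (C.G0.mul_mem (C.G0.mul_mem (C.G0.inv_mem (C.F_mem h)) hyG) (C.F_mem h))
      calc y = C.F h * ((C.F h)⁻¹ * y * C.F h) * (C.F h)⁻¹ := by group
        _ = 1 := by rw [this]; group
    have hOinorm : ∀ b, b * C.F i = C.F i * b → ∀ y ∈ Oi, b * y * b⁻¹ ∈ Oi := by
      intro b hb y hy
      refine (hOi _).2 ?_
      have := hOconj ((C.F h)⁻¹ * b * C.F h) (by
        have := conj_comm (C.F h)⁻¹ hb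
        rw [hFi] at this
        simpa [mul_assoc] using this) _ ((hOi y).1 hy)
      convert this using 1
      group
    set a := C.F h * o * (C.F h)⁻¹ with hadef
    have haOi : a ∈ Oi := (hOi a).2 (by rw [hadef]; simpa [mul_assoc] using ho)
    obtain ⟨β, hβ, hβe⟩ := C.mem_G0 (C.G0.mul_mem (C.G0.mul_mem (C.F_mem h) hoG) (C.G0.inv_mem (C.F_mem h)))
    have hxab : x = a * C.F β := by rw [hβe, hadef]; group
    have hbi : C.F β * C.F i = C.F i * C.F β := by
      have hai : Commute a (C.F i) := by rw [hFi]; exact conj_comm _ (hOC o ho)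
      have : C.F β = a⁻¹ * x := by rw [hxab]; group
      rw [this]
      exact (hai.inv_left.mul_left (show Commute x (C.F i) from hxi.symm)).eq
    have hpow : ∀ (p q : G), p ∈ Oi → q * C.F i = C.F i * q → ∀ n : ℕ, (p * q) ^ n * (q ^ n)⁻¹ ∈ Oi := by
      intro p q hp hq n
      induction n with
      | zero => simp [Oi.one_mem]
      | succ n ih =>
        have hqn : q ^ n * C.F i = C.F i * q ^ n := ((show Commute q (C.F i) from hq).pow_left n).eq
        convert Oi.mul_mem ih (hOinorm _ hqn p hp) using 1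
        rw [pow_succ, pow_succ]; group
    have hβodd : Odd (orderOf β) := by
      have hn := hpow a (C.F β) haOi hbi (orderOf x)
      rw [← hxab, pow_orderOf_eq_one, one_mul] at hn
      have h1 := hOiG _ hn (C.G0.inv_mem (pow_mem (C.F_mem β) _))
      rw [inv_eq_one] at h1
      have hsa : ((⟨β, Perm.mem_alternatingGroup.2 hβ⟩ : alternatingGroup (Fin 8))).1 = β := rfl
      rw [← hsa, Subgroup.orderOf_coe, ← orderOf_injective C.f C.f_inj, ← C.F_val, hsa]
      exact (hOodd x hx).of_dvd_nat (orderOf_dvd_of_pow_eq_one h1)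
    have hβ1 : β = 1 := by
      by_contra hb1
      obtain ⟨hc1, hc2⟩ := of_centChk hchk hβ ((C.F_comm hisgn hβ).1 hbi.symm) hβodd hb1
      set c := β⁻¹ * (j * (β * j)) with hc
      have hcs : Perm.sign c = 1 := by rw [hc, map_mul, map_mul, map_mul, map_inv, hβ, hj]; decide
      set y := x⁻¹ * (C.F j * x * (C.F j)⁻¹) with hy
      have hyO : y ∈ O := O.mul_mem (O.inv_mem hx) (hOconj _ ((C.F_comm hj ht).2 hjt) x hx)
      have hFj : (C.F j)⁻¹ = C.F j := inv_eq_self (C.F_sq hj hj2)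
      have hcF : C.F c = (C.F β)⁻¹ * (C.F j * C.F β * (C.F j)⁻¹) := by
        rw [hc, C.F_mul (by rw [map_inv, hβ, inv_one]) (by rw [map_mul, map_mul, hj, hβ, mul_one, mul_one]), C.F_inv hβ,
          C.F_mul hj (by rw [map_mul, hj, hβ, mul_one]), C.F_mul hβ hj, hFj, mul_assoc]
      have hp : (C.F β)⁻¹ * (a⁻¹ * (C.F j * a * (C.F j)⁻¹)) * (C.F β)⁻¹⁻¹ ∈ Oi :=
        hOinorm _ (show Commute _ _ from hbi).inv_left.eq _
          (Oi.mul_mem (Oi.inv_mem haOi) (hOinorm _ ((C.F_comm hj hisgn).2 hji) _ haOi))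
      have hyeq : y = (C.F β)⁻¹ * (a⁻¹ * (C.F j * a * (C.F j)⁻¹)) * (C.F β)⁻¹⁻¹ * C.F c := by
        rw [hy, hxab, hcF]; group
      have hci : C.F c * C.F i = C.F i * C.F c := by
        rw [hcF]
        have hjb : Commute (C.F j) (C.F i) := (C.F_comm hj hisgn).2 hji
        exact ((show Commute _ _ from hbi).inv_left.mul_left
          ((hjb.mul_left (show Commute _ _ from hbi)).mul_left hjb.inv_left)).eq
      have hn := hpow _ _ hp hci (orderOf y)
      rw [← hyeq, pow_orderOf_eq_one, one_mul] at hn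
      exact orderOf_not_two (C.F_sq hcs hc2) (C.F_ne_one hcs hc1) (hOodd y hyO)
        (inv_eq_one.1 (hOiG _ hn (C.G0.inv_mem (pow_mem (C.F_mem c) _))))
    rw [hβ1, C.F_one, mul_one] at hxab
    refine hOfree x hx ?_
    have hvh : Perm.sign (h * vv * h⁻¹) = 1 := by rw [map_mul, map_mul, map_inv, hh, hv]; rfl
    have hps : Perm.sign (vv * (h * vv * h⁻¹)) = 1 := by rw [map_mul, hv, hvh, mul_one]
    refine C.cent_three hps h3 hne ?_
    rw [C.F_mul hv hvh, C.F_conj hh hv]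
    have e1 : C.F h * v * (C.F h)⁻¹ * x * (C.F h * v * (C.F h)⁻¹)⁻¹ = x⁻¹ := by
      rw [hxab, hadef, show C.F h * v * (C.F h)⁻¹ * (C.F h * o * (C.F h)⁻¹) * (C.F h * v * (C.F h)⁻¹)⁻¹
        = C.F h * (v * o * v⁻¹) * (C.F h)⁻¹ by group, inv_eq_self hvv, hinv o ho]
      group
    have e2 : v * x⁻¹ * v⁻¹ = x := by
      rw [inv_eq_self hvv, hinv _ (O.inv_mem hx), inv_inv]
    refine (mul_inv_eq_iff_eq_mul.1 ?_).symm
    calc v * (C.F h * v * (C.F h)⁻¹) * x * (v * (C.F h * v * (C.F h)⁻¹))⁻¹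
        = v * (C.F h * v * (C.F h)⁻¹ * x * (C.F h * v * (C.F h)⁻¹)⁻¹) * v⁻¹ := by group
      _ = x := by rw [e1, e2]
  have d1 : let h := vv * dt 0 3 1 4; Perm.sign h = 1 ∧ h * tt * h⁻¹ = i1 ∧
      (vv * (h * vv * h⁻¹)) * (vv * (h * vv * h⁻¹)) * (vv * (h * vv * h⁻¹)) = 1 ∧ vv * (h * vv * h⁻¹) ≠ 1 := by
    decide +kernel
  have d2 : let h := swap (5 : Fin 8) 2 * swap 6 7; Perm.sign h = 1 ∧ h * tt * h⁻¹ = i2 ∧
      (vv * (h * vv * h⁻¹)) * (vv * (h * vv * h⁻¹)) * (vv * (h * vv * h⁻¹)) = 1 ∧ vv * (h * vv * h⁻¹) ≠ 1 := by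
    decide +kernel
  have dj : (dt 5 6 2 7 * dt 5 6 2 7 = 1 ∧ dt 5 6 2 7 * tt = tt * dt 5 6 2 7 ∧ dt 5 6 2 7 * i1 = i1 * dt 5 6 2 7) ∧
      (dt 0 1 5 6 * dt 0 1 5 6 = 1 ∧ dt 0 1 5 6 * tt = tt * dt 0 1 5 6 ∧ dt 0 1 5 6 * i2 = i2 * dt 0 1 5 6) ∧
      i1 * tt = tt * i1 ∧ i2 * tt = tt * i2 ∧ i1 * i1 = 1 ∧ i2 * i2 = 1 ∧ i1 * i2 = dt 0 1 2 7 ∧
      z0 * tt = tt * z0 ∧ w0 * dt 0 1 2 7 * w0⁻¹ = tt ∧ w0 * (z0 * dt 0 1 2 7 * z0⁻¹) * w0⁻¹ = tt * vv ∧
      w0 * tt = dt 0 1 2 7 * w0 := by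
    decide +kernel
  obtain ⟨dja, djb, hi1t, hi2t, hi1, hi2, hi12, hzt, hw1, hw2, -⟩ := dj
  have hi1s : Perm.sign i1 = 1 := sign_gen _ (by simp)
  have hi2s : Perm.sign i2 = 1 := sign_gen _ (by simp)
  have hjs : Perm.sign (dt 0 1 2 7) = 1 := sign_gen _ (by simp)
  have inv_i : ∀ i, Perm.sign i = 1 → i * i = 1 → i * tt = tt * i → (∀ x ∈ O, C.F i * x = x * C.F i → x = 1) →
      ∀ x ∈ O, C.F i * x * C.F i = x⁻¹ := fun i his hi' hit hfx => inverted O (C.F_sq his hi') (fun x hx => by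
    have := hOconj _ ((C.F_comm his ht).2 hit) x hx
    rwa [inv_eq_self (C.F_sq his hi')] at this) hfx
  have hI1 := inv_i i1 hi1s hi1 hi1t (hfix i1 _ _ centT_chk.2.1 (sign_gen _ (by simp)) dja.1 dja.2.1 dja.2.2
    d1.1 d1.2.1 d1.2.2.1 d1.2.2.2)
  have hI2 := inv_i i2 hi2s hi2 hi2t (hfix i2 _ _ centT_chk.2.2 (sign_gen _ (by simp)) djb.1 djb.2.1 djb.2.2
    d2.1 d2.2.1 d2.2.2.1 d2.2.2.2)
  have hJ : ∀ x ∈ O, C.F (dt 0 1 2 7) * x = x * C.F (dt 0 1 2 7) := by
    intro x hx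
    rw [← hi12, C.F_mul hi1s hi2s]
    calc C.F i1 * C.F i2 * x = C.F i1 * (C.F i2 * x * C.F i2) * (C.F i1 * C.F i1) * C.F i2 := by
          rw [C.F_sq hi1s hi1, mul_one, mul_assoc, mul_assoc, mul_assoc, mul_assoc, C.F_sq hi2s hi2, mul_one]
      _ = (C.F i1 * x⁻¹ * C.F i1) * (C.F i1 * C.F i2) := by rw [hI2 x hx]; group
      _ = x * (C.F i1 * C.F i2) := by rw [hI1 _ (O.inv_mem hx), inv_inv]
  have hO1 : ∀ x ∈ O, x = 1 := by
    intro x hx
    refine hOfree x hx ?_
    have hJ' : C.F (z0 * dt 0 1 2 7 * z0⁻¹) * x = x * C.F (z0 * dt 0 1 2 7 * z0⁻¹) := by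
      have hzc : Commute (C.F z0) t := (C.F_comm hz ht).2 hzt
      have := conj_comm (C.F z0) (hJ _ (hOconj _ hzc.inv_left.eq _ hx))
      rw [← C.F_conj hz hjs] at this
      simpa [mul_assoc] using this
    have h1 := conj_comm (C.F w0) (hJ x hx)
    have h2 := conj_comm (C.F w0) hJ'
    have hzj : Perm.sign (z0 * dt 0 1 2 7 * z0⁻¹) = 1 := by rw [map_mul, map_mul, map_inv, hjs, hz]; rfl
    rw [← C.F_conj hw0 hjs, hw1] at h1
    rw [← C.F_conj hw0 hzj, hw2, C.F_mul ht hv] at h2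
    have hmem : C.F w0 * x * (C.F w0)⁻¹ ∈ C.G0 := C.cent_V (by
      rw [Subgroup.mem_centralizer_iff]
      intro y hy
      have hv' : v * (C.F w0 * x * (C.F w0)⁻¹) = C.F w0 * x * (C.F w0)⁻¹ * v := by
        rw [show v = t⁻¹ * (t * v) by group]
        exact ((show Commute t _ from h1).inv_left.mul_left h2).eq
      rcases (hVmem y).1 hy with rfl | rfl | rfl | rfl
      · simp
      · exact h1
      · exact hv'
      · exact h2)
    have := C.G0.mul_mem (C.G0.mul_mem (C.G0.inv_mem (C.F_mem w0)) hmem) (C.F_mem w0)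
    simpa [mul_assoc] using this
  obtain ⟨o, ho, hoG⟩ := hfact g hg
  rwa [hO1 o ho, inv_one, one_mul] at hoG

end Cp

end Cfsg.Agent.Recog.AEight
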