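import Mathlib
import Cfsg.Agent.Lib.Transfer.MaxClass

/-!
A 2-group with a self-centralizing four group has at most two classes of four groups.
-/

set_option autoImplicit false

namespace Cfsg.Agent.Recog.AEight

open Cfsg.Agent.Transfer

variable {S : Type*} [Group S] [Finite S]

/-- Two four groups with generators of the same parity over a cyclic maximal subgroup are conjugate. -/
theorem two_fours (hS : IsPGroup 2 S) (A : Subgroup S) (hA : Nat.card A = 4)
    (hC : Subgroup.centralizer (A : Set S) = A) (F : Fin 3 → Subgroup S) (hF : ∀ i, Nat.card (F i) = 4)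
    (hF2 : ∀ i, ∀ f ∈ F i, f * f = 1) :
    ∃ i j, i ≠ j ∧ ∃ g : S, ∀ f ∈ F i, g * f * g⁻¹ ∈ F j := by
  obtain ⟨n, hn⟩ := hS.exists_card_eq
  have hcl := MaxClass.class_of_selfCentralizing (p := 2) n hn A (by rw [hA]; rfl) hC
  have hn2 : 2 ≤ n := by
    have h4 : 4 ≤ 2 ^ n := by rw [← hn, ← hA]; exact Subgroup.card_le_card_group _
    by_contra h
    interval_cases n <;> norm_num at h4
  by_cases hcomm : commutator S = ⊥
  · have hab : ∀ a b : S, a * b = b * a := fun a b => by
      have h := Subgroup.commutator_mem_commutator (Subgroup.mem_top a) (Subgroup.mem_top b)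
      rw [← commutator_def, hcomm, Subgroup.mem_bot, commutatorElement_eq_one_iff_mul_comm] at h
      exact h
    have hAt : A = ⊤ := by
      rw [← hC, eq_top_iff]
      exact fun s _ => Subgroup.mem_centralizer_iff.2 fun a _ => hab a s
    refine ⟨0, 1, by decide, 1, fun f _ => ?_⟩
    have h1 : F 1 = ⊤ := Subgroup.eq_top_of_card_eq _ (by rw [hF 1, ← hA, hAt, Subgroup.card_top])
    rw [h1]; exact Subgroup.mem_top _
  have h4 : (commutator S).index = 4 := MaxClass.commutator_index_of_class hn hn2 hcl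
  obtain ⟨k, a, x, ha, hidx, hx, -, hshape⟩ := MaxClass.shape hS h4 hcomm
  obtain ⟨e, he, hxa⟩ : ∃ e : ℤ, Odd e ∧ x⁻¹ * a * x = a ^ (2 * e + 1) := by
    have hsq : x * x * a = a * (x * x) := by
      have hxx : x * x ∈ Subgroup.zpowers a := Subgroup.mul_self_mem_of_index_two hidx x
      obtain ⟨i, hi⟩ := Subgroup.mem_zpowers_iff.1 hxx
      rw [← hi]; exact (Commute.zpow_self a i).eq
    have hinv : x⁻¹ * a * x = x * a * x⁻¹ := by
      calc x⁻¹ * a * x = x⁻¹ * (a * (x * x)) * x⁻¹ := by group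
        _ = x⁻¹ * (x * x * a) * x⁻¹ := by rw [hsq]
        _ = x * a * x⁻¹ := by group
    rcases hshape with ⟨h, -⟩ | ⟨h, -⟩ | ⟨hk, h, -⟩
    · exact ⟨-1, by decide, by rw [hinv, h]; simp⟩
    · exact ⟨-1, by decide, by rw [hinv, h]; simp⟩
    · refine ⟨2 ^ k - 1, ?_, ?_⟩
      · exact Even.sub_odd ((Int.even_pow).2 ⟨by decide, by omega⟩) odd_one
      · rw [hinv, h, ← zpow_natCast]
        congr 1
        rw [Nat.cast_sub (Nat.one_le_two_pow)]
        push_cast
        ring
  set c := a ^ 2 ^ (k + 1) with hc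
  have hunique : ∀ u ∈ Subgroup.zpowers a, u * u = 1 → u = 1 ∨ u = c := by
    intro u hu hu2
    obtain ⟨i, rfl⟩ := Subgroup.mem_zpowers_iff.1 hu
    rw [← zpow_add, ← orderOf_dvd_iff_zpow_eq_one, ha] at hu2
    have hpow : ((2 ^ (k + 2) : ℕ) : ℤ) = 2 * 2 ^ (k + 1) := by push_cast; ring
    obtain ⟨m, hm⟩ := hu2
    rw [hpow, ← two_mul, mul_assoc] at hm
    have hi : i = 2 ^ (k + 1) * m := mul_left_cancel₀ two_ne_zero hm
    rcases Int.even_or_odd m with ⟨j, rfl⟩ | ⟨j, rfl⟩
    · left
      rw [← orderOf_dvd_iff_zpow_eq_one, ha, hi, hpow]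
      exact ⟨j, by ring⟩
    · right
      rw [hc, ← zpow_natCast, ← orderOf_dvd_sub_iff_zpow_eq_zpow, ha, hi, hpow]
      exact ⟨j, by push_cast; ring⟩
  have hout : ∀ i, ∃ j : ℤ, ∀ f ∈ F i, f = 1 ∨ f = c ∨ f = x * a ^ j ∨ f = c * (x * a ^ j) := by
    intro i
    obtain ⟨g, hg, hga⟩ : ∃ g ∈ F i, g ∉ Subgroup.zpowers a := by
      by_contra h
      push Not at h
      have hsub : ∀ f : F i, (f : S) = 1 ∨ (f : S) = c := fun f => hunique _ (h f f.2) (hF2 i f f.2)
      have hcard : Nat.card (F i) ≤ 2 := by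
        classical
        refine le_trans (Nat.card_le_card_of_injective (fun f : F i => decide ((f : S) = 1)) ?_)
          (by simp [Nat.card_eq_fintype_card])
        intro f f' h
        simp only [decide_eq_decide] at h
        refine Subtype.ext ?_
        rcases hsub f with h1 | h1
        · rw [h1, h.1 h1]
        · rcases hsub f' with h2 | h2
          · rw [h.2 h2, h2]
          · rw [h1, h2]
      rw [hF i] at hcard
      omega
    have hxg : x⁻¹ * g ∈ Subgroup.zpowers a :=
      (Subgroup.mul_mem_iff_of_index_two hidx).2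
        ⟨fun h => absurd ((Subgroup.inv_mem_iff _).1 h) hx, fun h => absurd h hga⟩
    obtain ⟨j, hj⟩ := Subgroup.mem_zpowers_iff.1 hxg
    refine ⟨j, fun f hf => ?_⟩
    have hgj : x * a ^ j = g := by rw [hj, mul_inv_cancel_left]
    rw [hgj]
    by_cases hfa : f ∈ Subgroup.zpowers a
    · rcases hunique f hfa (hF2 i f hf) with h | h
      · exact Or.inl h
      · exact Or.inr (Or.inl h)
    · have hfg : f * g ∈ Subgroup.zpowers a :=
        (Subgroup.mul_mem_iff_of_index_two hidx).2 ⟨fun h => absurd h hfa, fun h => absurd h hga⟩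
      have hgg := hF2 i g hg
      rcases hunique (f * g) hfg (hF2 i _ ((F i).mul_mem hf hg)) with h | h
      · refine Or.inr (Or.inr (Or.inl ?_))
        exact (mul_eq_one_iff_eq_inv.1 h).trans (inv_eq_of_mul_eq_one_right hgg)
      · refine Or.inr (Or.inr (Or.inr ?_))
        rw [← h, mul_assoc, hgg, mul_one]
  choose j hj using hout
  have hfull : ∀ i, ∀ f, f = 1 ∨ f = c ∨ f = x * a ^ j i ∨ f = c * (x * a ^ j i) → f ∈ F i := by
    intro i
    classical
    let T : Finset S := {1, c, x * a ^ j i, c * (x * a ^ j i)}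
    have hfin : Fintype (F i) := Fintype.ofFinite _
    have hsub : (F i : Set S).toFinite.toFinset ⊆ T := fun f hf => by
      have := hj i f (by simpa using hf)
      simpa [T] using this
    have hT : T.card ≤ 4 := (Finset.card_insert_le _ _).trans
      (Nat.succ_le_succ ((Finset.card_insert_le _ _).trans (Nat.succ_le_succ Finset.card_le_two)))
    have heq := Finset.eq_of_subset_of_card_le hsub (by
      rw [← Set.ncard_eq_toFinset_card _ _]
      exact hT.trans (hF i).ge)
    intro f hf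
    have : f ∈ T := by simpa [T] using hf
    rw [← heq] at this
    simpa using this
  obtain ⟨i, l, hil, hpar⟩ : ∃ i l, i ≠ l ∧ Even (j l - j i) := by
    obtain ⟨i, l, hil, h⟩ := Fintype.exists_ne_map_eq_of_card_lt (fun i => decide (Even (j i))) (by simp)
    exact ⟨i, l, hil, Int.even_sub.2 (decide_eq_decide.1 h).symm⟩
  obtain ⟨m, hm⟩ := hpar
  have hcop : IsCoprime e ((2 : ℤ) ^ (k + 1)) := by
    refine IsCoprime.pow_right ?_
    obtain ⟨q, rfl⟩ := he
    exact ⟨1, -q, by ring⟩
  obtain ⟨u, w, huw⟩ := hcop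
  refine ⟨i, l, hil, a ^ (m * u), fun f hf => hfull l _ ?_⟩
  have hac : ∀ r : ℤ, a ^ r * c * (a ^ r)⁻¹ = c := fun r => by
    rw [hc, (((Commute.refl a).zpow_left r).pow_right _).eq, mul_inv_cancel_right]
  have hconjx : a ^ (m * u) * (x * a ^ j i) * (a ^ (m * u))⁻¹ = x * a ^ j l := by
    have h1 : x⁻¹ * a ^ (m * u) * x = a ^ ((2 * e + 1) * (m * u)) := by
      conv_rhs => rw [zpow_mul, ← hxa]
      have h := conj_zpow (i := m * u) (a := x⁻¹) (b := a)
      rw [inv_inv] at h
      exact h.symm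
    calc a ^ (m * u) * (x * a ^ j i) * (a ^ (m * u))⁻¹
        = x * ((x⁻¹ * a ^ (m * u) * x) * a ^ j i * (a ^ (m * u))⁻¹) := by group
      _ = x * a ^ ((2 * e + 1) * (m * u) + j i - m * u) := by rw [h1, ← zpow_add, ← zpow_sub]
      _ = x * a ^ j l := by
        congr 1
        rw [← orderOf_dvd_sub_iff_zpow_eq_zpow, ha]
        push_cast
        exact ⟨-(m * w), by linear_combination (2 * m) * huw - hm⟩
  rcases hj i f hf with rfl | rfl | rfl | rfl
  · simp
  · exact Or.inr (Or.inl (hac _))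
  · exact Or.inr (Or.inr (Or.inl hconjx))
  · refine Or.inr (Or.inr (Or.inr ?_))
    rw [← hconjx]
    have := hac (m * u)
    calc a ^ (m * u) * (c * (x * a ^ j i)) * (a ^ (m * u))⁻¹
        = (a ^ (m * u) * c * (a ^ (m * u))⁻¹) * (a ^ (m * u) * (x * a ^ j i) * (a ^ (m * u))⁻¹) := by group
      _ = _ := by rw [this]

end Cfsg.Agent.Recog.AEight
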