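import Cfsg.Agent.Lib.Recog.AEight.Types
import Cfsg.Agent.Lib.Recog.AEight.Fours
import Cfsg.Agent.Lib.Grp.CoprimeAbelian

/-!
The centraliser of the four group, and the two commuting four groups.
-/

set_option autoImplicit false
set_option maxRecDepth 100000

namespace Cfsg.Agent.Recog.AEight

open Equiv

attribute [local instance 2000] List.decidableBAll List.decidableBEx

variable {G : Type*} [Group G]

theorem data_V : zp ∈ L ∧ (∀ σ ∈ kl 3 4 5 6, zp * σ * zp⁻¹ ∈ kl 3 4 5 6) ∧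
    (∀ σ ∈ kl 3 4 5 6, z0 * σ * z0⁻¹ ∈ kl 3 4 5 6) ∧ tt ∈ kl 3 4 5 6 ∧ vv ∈ kl 3 4 5 6 ∧
    (∀ σ ∈ kl 3 4 5 6, i0 * σ * i0⁻¹ ∈ kl 3 4 5 6) := by
  decide +kernel

theorem orbit_kl : ∀ k ∈ [kl 3 4 5 6, kl 3 4 5 7], ∀ σ ∈ k, σ ≠ 1 → ∀ τ ∈ k,
    τ ∈ L ∧ τ * z0 = z0 * τ ∧
      (τ = 1 ∨ τ = σ ∨ τ = zp * σ * zp⁻¹ ∨ τ = zp * (zp * σ * zp⁻¹) * zp⁻¹) := by
  decide +kernel

/-- A four group conjugated into another is conjugated onto it. -/
theorem conj_back [Finite G] {A B : Subgroup G} (h : Nat.card A = Nat.card B) {g : G}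
    (hg : ∀ a ∈ A, g * a * g⁻¹ ∈ B) : ∀ b ∈ B, g⁻¹ * b * g ∈ A := by
  intro b hb
  have : A.map (MulAut.conj g).toMonoidHom = B := Subgroup.eq_of_le_of_card_ge
    (by rintro _ ⟨a, ha, rfl⟩; exact hg a ha)
    (by rw [Subgroup.card_map_of_injective (MulAut.conj g).injective, h])
  rw [← this] at hb
  obtain ⟨a, ha, rfl⟩ := hb
  have : g⁻¹ * (g * a * g⁻¹) * g = a := by group
  simpa [this] using ha

namespace St

variable [Finite G] (S : St G)

/-- Membership in the centraliser of `V`. -/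
theorem mem_CV {x : G} : x ∈ Subgroup.centralizer (S.V : Set G) ↔ ∀ v ∈ S.V, v * x = x * v :=
  Subgroup.mem_centralizer_iff

/-- The normal three-complement of the centraliser of `V`. -/
theorem exists_W : ∃ W : Subgroup G,
    (∀ x, x ∈ W ↔ x ∈ Subgroup.centralizer (S.V : Set G) ∧ ¬ 3 ∣ orderOf x) ∧
    ¬ 3 ∣ Nat.card W ∧
    (∀ g : G, (∀ v ∈ S.V, g⁻¹ * v * g ∈ S.V) → ∀ x ∈ W, g * x * g⁻¹ ∈ W) ∧
    (∀ d ∈ S.D, ∀ v ∈ S.V, d⁻¹ * v * d ∈ S.V) ∧
    (∀ x ∈ Subgroup.centralizer (S.V : Set G), ∃ w ∈ W, ∃ c ∈ Subgroup.zpowers S.Z, x = w * c) ∧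
    (⨆ d ∈ {d : G | d ∈ S.D ∧ d ≠ 1}, W ⊓ Subgroup.centralizer {d}) = W := by
  haveI : Fact (Nat.Prime 3) := ⟨Nat.prime_three⟩
  set CV := Subgroup.centralizer (S.V : Set G) with hCV
  have htt : S.e tt ∈ S.V := S.mem_V.2 ⟨tt, data_V.2.2.2.1, rfl⟩
  have hvv : S.e vv ∈ S.V := S.mem_V.2 ⟨vv, data_V.2.2.2.2.1, rfl⟩
  have hK : ∀ σ ∈ L, S.e σ ∈ CV → z0 * σ = σ * z0 := fun σ hσ h =>
    (centK hσ ((S.comm_iff mem_data.2.2.2.2.1 hσ).1 (S.mem_CV.1 h _ htt))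
      ((S.comm_iff mem_data.2.2.2.2.2 hσ).1 (S.mem_CV.1 h _ hvv))).1
  have hZCV : S.Z ∈ CV := S.mem_CV.2 fun v hv => S.V_comm_Z hv
  have hZ1 : S.Z ≠ 1 := S.ne_one mem_data.1 data_s.2.2.2.2.2.2.2.2.2.2.2.2.1
  have hZ3 : S.Z * S.Z * S.Z = 1 := S.D_cube S.Z_mem
  have hP1 : Nat.card (Subgroup.zpowers (⟨S.Z, hZCV⟩ : CV)) = 3 := by
    rw [Nat.card_zpowers, Subgroup.orderOf_mk, order_three hZ3 hZ1]
  obtain ⟨P, hP⟩ := (IsPGroup.of_card (n := 1) (by rw [hP1]; rfl) :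
    IsPGroup 3 (Subgroup.zpowers (⟨S.Z, hZCV⟩ : CV))).exists_le_sylow
  have htt1 : S.e tt ≠ 1 := S.ne_one mem_data.2.2.2.2.1 mul_tt_vv.2.2.2.2.1
  have hPe : (P : Subgroup CV) = Subgroup.zpowers (⟨S.Z, hZCV⟩ : CV) := by
    refine (Subgroup.eq_of_le_of_card_ge hP ?_).symm
    rw [hP1, ← Subgroup.card_map_of_injective CV.subtype_injective]
    refine S.le_three (S.e_sq mem_data.2.2.2.2.1 mul_tt_vv.2.1) htt1 _ (P.2.map CV.subtype) ?_
    rintro _ ⟨c, -, rfl⟩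
    exact (S.mem_CV.1 c.2 _ htt).symm
  have hcen : Subgroup.normalizer ((P : Subgroup CV) : Set CV) ≤ Subgroup.centralizer ((P : Subgroup CV) : Set CV) := by
    intro a ha
    rw [hPe] at ha ⊢
    rw [Subgroup.mem_normalizer_iff] at ha
    have hm := Subgroup.mem_map_of_mem CV.subtype ((ha _).1 (Subgroup.mem_zpowers _))
    rw [MonoidHom.map_zpowers] at hm
    change (a : G) * S.Z * (a : G)⁻¹ ∈ Subgroup.zpowers S.Z at hm
    obtain ⟨σ, hσ, hσa⟩ := S.range _ hm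
    have hc := (S.comm_iff mem_data.1 hσ).2 (hK σ hσ (hσa ▸ a.2))
    rw [hσa] at hc
    rw [Subgroup.mem_centralizer_iff]
    intro b hb
    obtain ⟨i, rfl⟩ := Subgroup.mem_zpowers_iff.1 hb
    exact (Commute.zpow_left (show Commute (⟨S.Z, hZCV⟩ : CV) a from Subtype.ext hc) i).eq
  set W₀ := (MonoidHom.transferSylow P hcen).ker with hW₀
  have hcompl := MonoidHom.ker_transferSylow_isComplement' P hcen
  have h3W : ¬ 3 ∣ Nat.card W₀ := MonoidHom.not_dvd_card_ker_transferSylow P hcen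
  have hidx : W₀.index = 3 := by rw [hcompl.symm.index_eq_card, hPe, hP1]
  set W := W₀.map CV.subtype with hWdef
  have h3W' : ¬ 3 ∣ Nat.card W := by rwa [hWdef, Subgroup.card_map_of_injective CV.subtype_injective]
  have hWmem : ∀ x, x ∈ W ↔ x ∈ CV ∧ ¬ 3 ∣ orderOf x := by
    intro x
    constructor
    · intro hx
      refine ⟨?_, fun h => h3W' (h.trans ((Subgroup.orderOf_mk x hx).symm ▸ orderOf_dvd_natCard _))⟩
      obtain ⟨c, -, rfl⟩ := Subgroup.mem_map.1 hx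
      exact c.2
    · rintro ⟨hx, h3⟩
      refine ⟨⟨x, hx⟩, ?_, rfl⟩
      rw [SetLike.mem_coe, ← QuotientGroup.eq_one_iff, ← orderOf_eq_one_iff]
      have hq : Nat.card (CV ⧸ W₀) = 3 := (Subgroup.index_eq_card W₀).symm.trans hidx
      have h1 : orderOf (QuotientGroup.mk (s := W₀) (⟨x, hx⟩ : CV)) ∣ 3 := (orderOf_dvd_natCard _).trans hq.dvd
      have h2 := orderOf_map_dvd (QuotientGroup.mk' W₀) (⟨x, hx⟩ : CV)
      rw [Subgroup.orderOf_mk] at h2
      rcases (Nat.dvd_prime Nat.prime_three).1 h1 with h | h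
      · exact h
      · exact absurd (h ▸ h2) h3
  have hWconj : ∀ g : G, (∀ v ∈ S.V, g⁻¹ * v * g ∈ S.V) → ∀ x ∈ W, g * x * g⁻¹ ∈ W := by
    intro g hg x hx
    obtain ⟨hxC, hx3⟩ := (hWmem x).1 hx
    refine (hWmem _).2 ⟨S.mem_CV.2 fun v hv => ?_, ?_⟩
    · have := conj_comm g (S.mem_CV.1 hxC _ (hg v hv))
      simpa [mul_assoc] using this
    · rw [← MulAut.conj_apply, ← MulEquiv.coe_toMonoidHom,
        orderOf_injective _ (MulAut.conj g).injective]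
      exact hx3
  have hDV : ∀ d ∈ S.D, ∀ v ∈ S.V, d⁻¹ * v * d ∈ S.V := by
    have key : ∀ d ∈ S.D, ∀ v ∈ S.V, d * v * d⁻¹ ∈ S.V := by
      rintro _ ⟨a, b, rfl⟩ v hv
      obtain ⟨σ, hσ, rfl⟩ := S.mem_V.1 hv
      rw [← S.e_conj (dd_mem a b) (kl_data σ hσ).1]
      refine S.mem_V.2 ⟨_, ?_, rfl⟩
      have hpow : ∀ g : P8, (∀ τ ∈ kl 3 4 5 6, g * τ * g⁻¹ ∈ kl 3 4 5 6) → ∀ n : ℕ, ∀ τ ∈ kl 3 4 5 6,
          g ^ n * τ * (g ^ n)⁻¹ ∈ kl 3 4 5 6 := by
        intro g hg n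
        induction n with
        | zero => simp
        | succ n ih =>
          intro τ hτ
          have := hg _ (ih τ hτ)
          rw [pow_succ']
          simpa [mul_assoc] using this
      have := hpow _ data_V.2.2.1 a.val _ (hpow _ data_V.2.1 b.val σ hσ)
      simpa [dd, mul_assoc] using this
    intro d hd v hv
    simpa using key d⁻¹ (S.D.inv_mem hd) v hv
  have hDW : S.D ≤ Subgroup.normalizer (W : Set G) := fun d hd =>
    Subgroup.mem_normalizer_fintype (hWconj d (hDV d hd))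
  haveI : IsMulCommutative S.D := ⟨⟨fun a b => Subtype.ext (S.D_comm a.2 b.2)⟩⟩
  have hnc : ¬ IsCyclic S.D := by
    intro h
    obtain ⟨g, hg⟩ := h.exists_ofOrder_eq_natCard
    have hdvd : orderOf g ∣ 3 := by
      refine orderOf_dvd_of_pow_eq_one (Subtype.ext ?_)
      rw [pow_succ, sq]
      exact S.D_cube g.2
    rw [hg, S.card_D] at hdvd
    norm_num at hdvd
  have hcop : (Nat.card S.D).Coprime (Nat.card W) := by
    rw [S.card_D, show (9 : ℕ) = 3 ^ 2 by norm_num]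
    exact Nat.Coprime.pow_left 2 ((Nat.Prime.coprime_iff_not_dvd Nat.prime_three).2 h3W')
  have hgen := Cfsg.Agent.Grp.generated_by_centralizers S.D W hnc hDW hcop
  refine ⟨W, hWmem, h3W', hWconj, hDV, fun x hx => ?_, hgen⟩
  obtain ⟨⟨w, c⟩, hwc⟩ := hcompl.2 (⟨x, hx⟩ : CV)
  refine ⟨((w : CV) : G), ⟨_, w.2, rfl⟩, ((c : CV) : G), ?_, (congrArg Subtype.val hwc).symm⟩
  have hm := Subgroup.mem_map_of_mem CV.subtype (hPe ▸ c.2 : (c : CV) ∈ Subgroup.zpowers (⟨S.Z, hZCV⟩ : CV))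
  rwa [MonoidHom.map_zpowers] at hm

/-- The two commuting four groups. -/
theorem exists_pair {s : G} (hs : s * s = 1) (hs1 : s ≠ 1) (hsZ : s * S.Z * s⁻¹ = S.Z')
    (hsZ' : s * S.Z' * s⁻¹ = S.Z) (hsY : s * S.Y = S.Y * s) (hsi : s * S.e i0 = S.e i0 * s)
    (hst : s * S.e t0 * s⁻¹ = S.e (i0 * t0)) :
    ∃ k ∈ [kl 3 4 5 6, kl 3 4 5 7], ∀ σ ∈ kl 3 4 5 6, ∀ τ ∈ k,
      S.e σ * (s * S.e τ * s⁻¹) = s * S.e τ * s⁻¹ * S.e σ := by
  haveI : Fact (Nat.Prime 3) := ⟨Nat.prime_three⟩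
  haveI : Fact (Nat.Prime 2) := ⟨Nat.prime_two⟩
  set CV := Subgroup.centralizer (S.V : Set G) with hCV
  have htt : S.e tt ∈ S.V := S.mem_V.2 ⟨tt, data_V.2.2.2.1, rfl⟩
  have hvv : S.e vv ∈ S.V := S.mem_V.2 ⟨vv, data_V.2.2.2.2.1, rfl⟩
  have hK : ∀ σ ∈ L, S.e σ ∈ CV → z0 * σ = σ * z0 ∧
      (σ ∈ kl 3 4 5 6 ∨ (σ * σ ≠ 1 ∧ (σ * σ) * ((σ * σ) * (σ * σ)) = 1)) := fun σ hσ h =>
    centK hσ ((S.comm_iff mem_data.2.2.2.2.1 hσ).1 (S.mem_CV.1 h _ htt))
      ((S.comm_iff mem_data.2.2.2.2.2 hσ).1 (S.mem_CV.1 h _ hvv))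
  have hZCV : S.Z ∈ CV := S.mem_CV.2 fun v hv => S.V_comm_Z hv
  have hZ1 : S.Z ≠ 1 := S.ne_one mem_data.1 data_s.2.2.2.2.2.2.2.2.2.2.2.2.1
  have hZ3 : S.Z * S.Z * S.Z = 1 := S.D_cube S.Z_mem
  obtain ⟨W, hWmem, h3W', hWconj, hDV, hsplit0, hgen⟩ := S.exists_W
  have hWZ : ∀ x ∈ W, x * S.Z = S.Z * x → x ∈ S.V := by
    intro x hx hc
    obtain ⟨σ, hσ, rfl⟩ := S.range x (by rw [hc, mul_inv_cancel_right]; exact Subgroup.mem_zpowers _)
    obtain ⟨hxC, hx3⟩ := (hWmem _).1 hx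
    rcases (hK σ hσ hxC).2 with h | ⟨hne, h3⟩
    · exact S.mem_V.2 ⟨σ, h, rfl⟩
    · refine absurd ?_ hx3
      have hss := L.mul_mem hσ hσ
      have ho : orderOf (S.e σ * S.e σ) = 3 := by
        refine order_three ?_ ?_
        · rw [← S.mul hσ hσ, mul_assoc, ← S.mul hss hss, ← S.mul hss (L.mul_mem hss hss), h3, S.e_one]
        · rw [← S.mul hσ hσ]; exact S.ne_one hss hne
      rw [← ho, ← sq]
      exact orderOf_pow_dvd 2
  have hWd : ∀ a b : Fin 3, a ≠ 0 → b ≠ 0 → ∀ x ∈ W, x * S.e (dd a b) = S.e (dd a b) * x → x = 1 := by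
    intro a b ha hb x hx hxc
    set d := S.e (dd a b)
    have hd : d ∈ S.D := ⟨a, b, rfl⟩
    set E := W ⊓ Subgroup.centralizer ({d} : Set G) with hE
    have hcard : Nat.card (Subgroup.centralizer ({d} : Set G)) = 18 := by
      obtain ⟨u, hu, he⟩ := dd_table.2.2.1 a b ha hb
      rw [show d = S.e u * S.Y * (S.e u)⁻¹ by
        show S.e (dd a b) = _
        rw [← he, S.e_conj (us_mem u hu) (dd_mem 1 1), dd_table.2.2.2.2.2.2.1]; rfl,
        card_cent_conj, S.card_y]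
    have hE2 : Nat.card E ∣ 2 := by
      have h1 := Subgroup.card_dvd_of_le (inf_le_right : E ≤ Subgroup.centralizer ({d} : Set G))
      have h2 := Subgroup.card_dvd_of_le (inf_le_left : E ≤ W)
      rw [hcard] at h1
      have hco : (Nat.card E).Coprime 9 := by
        refine Nat.Coprime.pow_right 2 (Nat.Coprime.symm ((Nat.Prime.coprime_iff_not_dvd Nat.prime_three).2 ?_))
        exact fun h => h3W' (h.trans h2)
      exact hco.dvd_of_dvd_mul_right (by norm_num; exact h1)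
    have hxE : x ∈ E := ⟨hx, Subgroup.mem_centralizer_singleton_iff.2 hxc⟩
    by_contra hne
    have hE2' : Nat.card E = 2 := by
      rcases (Nat.dvd_prime Nat.prime_two).1 hE2 with h | h
      · exact absurd (Subgroup.mem_bot.1 (Subgroup.card_eq_one.1 h ▸ hxE)) hne
      · exact h
    have huniq : ∀ w ∈ E, w = 1 ∨ w = x := by
      intro w hw
      by_contra hcon
      push Not at hcon
      obtain ⟨p, q, hpq, hset⟩ := Nat.card_eq_two_iff.1 hE2'
      have key : ∀ r : E, r = p ∨ r = q := fun r => by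
        have := hset.symm ▸ Set.mem_univ r
        simpa using this
      rcases key ⟨w, hw⟩ with e1 | e1 <;> rcases key ⟨x, hxE⟩ with e2 | e2 <;> rcases key 1 with e3 | e3 <;>
        first
          | exact hcon.2 (congrArg Subtype.val (e1.trans e2.symm))
          | exact hcon.1 (congrArg Subtype.val (e1.trans e3.symm))
          | exact hne (congrArg Subtype.val (e2.trans e3.symm))
    have hx2 : x * x = 1 := by
      rcases huniq _ (E.mul_mem hxE hxE) with h | h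
      · exact h
      · exact absurd (mul_eq_left.1 h) hne
    refine hne (S.eq_one_of_cent (fun c hc => ?_) hx2)
    have hcE : c * x * c⁻¹ ∈ E := by
      refine ⟨hWconj c (hDV c hc) x hx, Subgroup.mem_centralizer_singleton_iff.2 ?_⟩
      have := conj_comm c hxc
      rwa [S.D_comm hc hd, mul_inv_cancel_right] at this
    rcases huniq _ hcE with h | h
    · exact absurd (conj_eq_one_iff.1 h) hne
    · exact (mul_inv_eq_iff_eq_mul.1 h).symm
  have hsi' : s⁻¹ = s := inv_eq_self hs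
  let X0 : Subgroup P8 :=
    { carrier := {σ | σ ∈ L ∧ σ * z0 = z0 * σ ∧ s * S.e σ * s⁻¹ ∈ W}
      one_mem' := ⟨L.one_mem, by simp, by simp [S.e_one, W.one_mem]⟩
      mul_mem' := fun {a b} ha hb => ⟨L.mul_mem ha.1 hb.1,
        (Commute.mul_left (show Commute a z0 from ha.2.1) hb.2.1).eq, by
        have := W.mul_mem ha.2.2 hb.2.2
        rw [S.mul ha.1 hb.1]
        simpa [mul_assoc] using this⟩
      inv_mem' := fun {a} ha => ⟨L.inv_mem ha.1, (Commute.inv_left (show Commute a z0 from ha.2.1)).eq, by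
        have := W.inv_mem ha.2.2
        rw [S.e_inv ha.1]
        simpa [mul_assoc] using this⟩ }
  have hX0zp : ∀ σ ∈ X0, zp * σ * zp⁻¹ ∈ X0 := by
    rintro σ ⟨hσ, hc, hW⟩
    refine ⟨L.mul_mem (L.mul_mem data_V.1 hσ) (L.inv_mem data_V.1), ?_, ?_⟩
    · exact ((Commute.mul_left (Commute.mul_left (show Commute zp z0 from data_s.2.2.2.2.2.2.2.2.2.2.2.2.2.2.1.symm)
        (show Commute σ z0 from hc)) (Commute.inv_left data_s.2.2.2.2.2.2.2.2.2.2.2.2.2.2.1.symm))).eq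
    · rw [S.e_conj data_V.1 hσ]
      have := hWconj S.Z (hDV _ S.Z_mem) _ hW
      rw [← hsZ'] at this
      simpa [Emb.Z', mul_assoc] using this
  have hX3 : ∀ σ ∈ X0, σ * σ * σ = 1 → σ = 1 := by
    rintro σ ⟨hσ, -, hW⟩ h3
    by_contra hne
    refine ((hWmem _).1 hW).2 ?_
    rw [← MulAut.conj_apply, ← MulEquiv.coe_toMonoidHom, orderOf_injective _ (MulAut.conj s).injective,
      order_three (by rw [← S.mul hσ hσ, ← S.mul (L.mul_mem hσ hσ) hσ, h3, S.e_one]) (S.ne_one hσ hne)]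
  by_cases hX : ∃ σ ∈ X0, σ ≠ 1
  · obtain ⟨σ, hσ, hne⟩ := hX
    obtain ⟨k, hk, hσk⟩ : ∃ k ∈ [kl 3 4 5 6, kl 3 4 5 7], σ ∈ k := by
      rcases threeFree hσ.1 hσ.2.1.symm X0 hσ hX0zp hX3 with h | h
      · exact ⟨_, by simp, h⟩
      · exact ⟨_, by simp, h⟩
    refine ⟨k, hk, fun ρ hρ τ hτ => ?_⟩
    have hτX : τ ∈ X0 := by
      rcases (orbit_kl k hk σ hσk hne τ hτ).2.2 with rfl | rfl | rfl | rfl
      exacts [X0.one_mem, hσ, hX0zp _ hσ, hX0zp _ (hX0zp _ hσ)]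
    exact S.mem_CV.1 ((hWmem _).1 hτX.2.2).1 _ (S.mem_V.2 ⟨ρ, hρ, rfl⟩)
  exfalso
  push Not at hX
  have hWV : W ≤ S.V := by
    rw [← hgen]
    refine iSup₂_le fun d hd x hx => ?_
    obtain ⟨hxW, hxd⟩ := hx
    have hxd' : x * d = d * x := Subgroup.mem_centralizer_singleton_iff.1 hxd
    obtain ⟨a, b, rfl⟩ := hd.1
    rcases eq_or_ne a 0 with rfl | ha
    · have hb : b ≠ 0 := by
        rintro rfl
        exact hd.2 (by rw [dd_table.2.2.2.2.2.2.2, S.e_one])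
      have hc : Commute x S.Z' := by
        rcases dd_small' b hb with h | h <;> rw [h] at hxd'
        · exact hxd'
        · rw [S.e_inv mem_data.2.1] at hxd'
          exact Commute.inv_right_iff.1 hxd'
      have h1 := conj_comm s hc.eq
      rw [hsZ'] at h1
      obtain ⟨σ, hσ, hσx⟩ := S.range _ (by rw [h1, mul_inv_cancel_right]; exact Subgroup.mem_zpowers _)
      have hx' : s * S.e σ * s⁻¹ = x := by
        rw [hσx, hsi', ← mul_assoc, ← mul_assoc, hs, one_mul, mul_assoc, hs, mul_one]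
      have hσc : σ * z0 = z0 * σ := (S.comm_iff hσ mem_data.1).1 (by rw [hσx]; exact h1)
      have := hX σ ⟨hσ, hσc, hx'.symm ▸ hxW⟩
      rw [← hx', this, S.e_one, mul_one, mul_inv_cancel]
      exact S.V.one_mem
    · rcases eq_or_ne b 0 with rfl | hb
      · refine hWZ x hxW ?_
        rcases dd_small a ha with h | h <;> rw [h] at hxd'
        · exact hxd'
        · rw [S.e_inv mem_data.1] at hxd'
          exact (Commute.inv_right_iff.1 hxd' : Commute x S.Z).eq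
      · rw [hWd a b ha hb x hxW hxd']; exact S.V.one_mem
  have hsplit : ∀ x ∈ CV, ∃ v ∈ S.V, ∃ c ∈ Subgroup.zpowers S.Z, x = v * c := fun x hx =>
    let ⟨w, hw, c, hc, he⟩ := hsplit0 x hx
    ⟨w, hWV hw, c, hc, he⟩
  have hVc : Nat.card S.V = 4 := S.card_V
  obtain ⟨Q, hQ⟩ := (IsPGroup.of_card (n := 2) (by rw [hVc]; rfl) : IsPGroup 2 S.V).exists_le_sylow
  have hC : Subgroup.centralizer ((S.V.subgroupOf Q : Subgroup Q) : Set Q) = S.V.subgroupOf Q := by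
    refine le_antisymm (fun x hx => ?_) (fun x hx => ?_)
    · have hxC : (x : G) ∈ CV := S.mem_CV.2 fun v hv =>
        congrArg Subtype.val (Subgroup.mem_centralizer_iff.1 hx ⟨v, hQ hv⟩ hv)
      obtain ⟨v, hv, c, hc, hxe⟩ := hsplit _ hxC
      have hcQ : c ∈ (Q : Subgroup G) := by
        have := Q.1.mul_mem (Q.1.inv_mem (hQ hv)) x.2
        rwa [hxe, inv_mul_cancel_left] at this
      have h1 : orderOf c ∣ 3 :=
        (Subgroup.orderOf_dvd_natCard _ hc).trans (by rw [Nat.card_zpowers, order_three hZ3 hZ1])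
      have hc1 : c = 1 := by
        rw [← orderOf_eq_one_iff]
        rcases (Nat.dvd_prime Nat.prime_three).1 h1 with h | h
        · exact h
        · exfalso
          obtain ⟨m, hm⟩ := IsPGroup.iff_orderOf.1 Q.2 ⟨c, hcQ⟩
          rw [Subgroup.orderOf_mk, h] at hm
          rcases m with _ | m
          · norm_num at hm
          · rw [pow_succ] at hm; omega
      rw [Subgroup.mem_subgroupOf, hxe, hc1, mul_one]
      exact hv
    · rw [Subgroup.mem_centralizer_iff]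
      intro y hy
      rw [Subgroup.mem_subgroupOf] at hx
      refine Subtype.ext ?_
      show (y : G) * (x : G) = (x : G) * (y : G)
      obtain ⟨σ, hσ, hσe⟩ := S.mem_V.1 hx
      obtain ⟨τ, hτ, hτe⟩ := S.mem_V.1 (show (y : G) ∈ S.V from hy)
      have : ∀ a ∈ kl 3 4 5 6, ∀ b ∈ kl 3 4 5 6, a * b = b * a := by decide +kernel
      rw [hσe, hτe]
      exact (S.comm_iff (kl_data τ hτ).1 (kl_data σ hσ).1).2 (this τ hτ σ hσ)
  have hit : S.e i0 * S.e t0 = S.e t0 * S.e i0 := (S.comm_iff mem_data.2.2.1 mem_data.2.2.2.1).2 data_s.2.2.1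
  have hii := S.e_sq mem_data.2.2.1 data_s.1
  have htt2 := S.e_sq mem_data.2.2.2.1 data_s.2.1
  let U : Subgroup G := four (S.e i0) (S.e t0) hii htt2 hit
  let V0 : Subgroup G := four s (S.e i0) hs hii hsi
  have hU4 : Nat.card U = 4 := card_four (S.ne_one mem_data.2.2.1 data_s.2.2.2.1)
    (S.ne_one mem_data.2.2.2.1 data_s.2.2.2.2.1)
    fun h => data_s.2.2.2.2.2.1 ((S.eq_iff mem_data.2.2.1 mem_data.2.2.2.1).1 h)
  have hV04 : Nat.card V0 = 4 := card_four hs1 (S.ne_one mem_data.2.2.1 data_s.2.2.2.1) (by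
    rintro rfl
    obtain ⟨-, -, -, -, -, -, -, -, -, -, hne, -⟩ := data_s
    rw [Emb.Z, Emb.Z', ← S.e_conj mem_data.2.2.1 mem_data.1,
      S.eq_iff (L.mul_mem (L.mul_mem mem_data.2.2.1 mem_data.1) (L.inv_mem mem_data.2.2.1)) mem_data.2.1] at hsZ
    exact absurd hsZ (by decide +kernel))
  have hYs : YT S.toEmb s := ⟨1, by simpa using hsY⟩
  have hZV : ∀ v ∈ S.V, v * v = 1 ∧ ZT S.toEmb v := fun v hv =>
    ⟨four_sq hv, 1, by simpa using S.V_comm_Z hv⟩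
  have hZU : ∀ v ∈ U, v * v = 1 ∧ ZT S.toEmb v := by
    intro v hv
    refine ⟨four_sq hv, ?_⟩
    rcases mem_four.1 hv with rfl | rfl | rfl | rfl
    · exact ⟨1, by simp⟩
    · exact S.ZT_of_mem mem_data.2.2.1 data_s.1
    · exact S.ZT_of_mem mem_data.2.2.2.1 data_s.2.1
    · rw [← S.mul mem_data.2.2.1 mem_data.2.2.2.1]
      exact S.ZT_of_mem (L.mul_mem mem_data.2.2.1 mem_data.2.2.2.1) (by decide +kernel)
  have hsV0 : s ∈ V0 := mem_four.2 (Or.inr (Or.inl rfl))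
  have noV0 : ∀ F : Subgroup G, (∀ v ∈ F, v * v = 1 ∧ ZT S.toEmb v) → ∀ g, (∀ f ∈ V0, g * f * g⁻¹ ∈ F) → False := by
    intro F hF g hg
    obtain ⟨h2, hz⟩ := hF _ (hg s hsV0)
    exact S.excl h2 (fun h => hs1 (conj_eq_one_iff.1 h)) hz (S.YT_conj g hYs)
  have noUV : ∀ g, (∀ f ∈ U, g * f * g⁻¹ ∈ S.V) → False := by
    intro g hg
    have hsU : ∀ f ∈ U, s * f * s⁻¹ ∈ U := by
      intro f hf
      have h1 : s * S.e i0 * s⁻¹ = S.e i0 := by rw [hsi, mul_inv_cancel_right]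
      rcases mem_four.1 hf with rfl | rfl | rfl | rfl
      · simp [U.one_mem]
      · rw [h1]; exact mem_four.2 (Or.inr (Or.inl rfl))
      · rw [hst, S.mul mem_data.2.2.1 mem_data.2.2.2.1]; exact mem_four.2 (Or.inr (Or.inr (Or.inr rfl)))
      · rw [show s * (S.e i0 * S.e t0) * s⁻¹ = (s * S.e i0 * s⁻¹) * (s * S.e t0 * s⁻¹) by group, h1, hst,
          S.mul mem_data.2.2.1 mem_data.2.2.2.1, ← mul_assoc, hii, one_mul]
        exact mem_four.2 (Or.inr (Or.inr (Or.inl rfl)))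
    have hback := conj_back (hU4.trans hVc.symm) hg
    have hnorm : ∀ v ∈ S.V, (g * s * g⁻¹)⁻¹ * v * (g * s * g⁻¹) ∈ S.V := by
      intro v hv
      have := hg _ (hsU _ (hback v hv))
      rw [hsi'] at this
      convert this using 1
      rw [mul_inv_rev, mul_inv_rev, inv_inv, hsi']
      group
    have hZ' : g * s * g⁻¹ * S.Z * (g * s * g⁻¹)⁻¹ ∈ CV := S.mem_CV.2 fun v hv => by
      have := conj_comm (g * s * g⁻¹) (S.mem_CV.1 hZCV _ (hnorm v hv))
      simpa [mul_assoc] using this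
    obtain ⟨v, hv, c, hc, hwc⟩ := hsplit _ hZ'
    have hvc : Commute v c := by
      obtain ⟨i, rfl⟩ := Subgroup.mem_zpowers_iff.1 hc
      exact Commute.zpow_right (S.V_comm_Z hv) i
    have h3 : v ^ 3 = 1 := by
      have hx3 : (g * s * g⁻¹ * S.Z * (g * s * g⁻¹)⁻¹) ^ 3 = 1 := by
        rw [conj_pow, pow_succ, sq, hZ3]; group
      have hc3 : c ^ 3 = 1 := by
        obtain ⟨i, rfl⟩ := Subgroup.mem_zpowers_iff.1 hc
        rw [← zpow_natCast, ← zpow_mul, mul_comm, zpow_mul, zpow_natCast, pow_succ, sq, hZ3, one_zpow]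
      rw [hwc, hvc.mul_pow, hc3, mul_one] at hx3
      exact hx3
    rw [pow_succ, sq, four_sq hv, one_mul] at h3
    rw [h3, one_mul] at hwc
    obtain ⟨σ, hσ, hσe⟩ := S.range _ (hwc ▸ hc)
    have h2 : σ * σ = 1 := S.inj (L.mul_mem hσ hσ) (by
      rw [S.mul hσ hσ, hσe, show g * s * g⁻¹ * (g * s * g⁻¹) = g * (s * s) * g⁻¹ by group, hs]; group)
    exact S.excl (hσe ▸ S.e_sq hσ h2) (fun h => hs1 (conj_eq_one_iff.1 h)) (hσe ▸ S.ZT_of_mem hσ h2) (S.YT_conj g hYs)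
  let F : Fin 3 → Subgroup G := ![S.V, U, V0]
  have hF4 : ∀ i, Nat.card (F i) = 4 := by intro i; fin_cases i <;> [exact hVc; exact hU4; exact hV04]
  have hF2 : ∀ i, ∀ f ∈ F i, f * f = 1 := by
    intro i f hf
    fin_cases i
    · exact (hZV f hf).1
    · exact (hZU f hf).1
    · exact four_sq (show f ∈ four s (S.e i0) hs hii hsi from hf)
  have hmove : ∀ i, ∃ g : G, ∀ f ∈ F i, g * f * g⁻¹ ∈ (Q : Subgroup G) := by
    intro i
    obtain ⟨R, hR⟩ := (IsPGroup.of_card (n := 2) (by rw [hF4 i]; rfl) : IsPGroup 2 (F i)).exists_le_sylow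
    obtain ⟨w, hw⟩ := MulAction.exists_smul_eq G R Q
    refine ⟨w, fun f hf => ?_⟩
    rw [← hw, Sylow.coe_subgroup_smul]
    exact Subgroup.mem_map.2 ⟨f, hR hf, rfl⟩
  choose w hw using hmove
  let F' : Fin 3 → Subgroup Q := fun i => ((F i).map (MulAut.conj (w i)).toMonoidHom).subgroupOf Q
  have hle : ∀ i, (F i).map (MulAut.conj (w i)).toMonoidHom ≤ (Q : Subgroup G) := fun i => by
    rintro _ ⟨f, hf, rfl⟩; exact hw i f hf
  obtain ⟨i, j, hij, g, hg⟩ := two_fours Q.2 (S.V.subgroupOf Q)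
    (by rw [Nat.card_congr (Subgroup.subgroupOfEquivOfLe hQ).toEquiv, hVc]) hC F'
    (fun i => by rw [Nat.card_congr (Subgroup.subgroupOfEquivOfLe (hle i)).toEquiv,
      Subgroup.card_map_of_injective (MulAut.conj (w i)).injective, hF4])
    (fun i f hf => by
      obtain ⟨a, ha, he⟩ := Subgroup.mem_map.1 (Subgroup.mem_subgroupOf.1 hf)
      refine Subtype.ext ?_
      rw [Subgroup.coe_mul, ← he, ← map_mul, hF2 i a ha, map_one]
      rfl)
  have hfus : ∀ f ∈ F i, (w j)⁻¹ * g * w i * f * ((w j)⁻¹ * g * w i)⁻¹ ∈ F j := by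
    intro f hf
    have := hg ⟨_, hw i f hf⟩ (Subgroup.mem_subgroupOf.2 ⟨f, hf, rfl⟩)
    obtain ⟨a, ha, he⟩ := Subgroup.mem_map.1 (Subgroup.mem_subgroupOf.1 this)
    convert ha using 1
    have h' : a = (w j)⁻¹ * ((g : G) * (w i * f * (w i)⁻¹) * (g : G)⁻¹) * w j := by
      have he' : w j * a * (w j)⁻¹ = (g : G) * (w i * f * (w i)⁻¹) * (g : G)⁻¹ := he
      rw [← he']; group
    rw [h']; group
  generalize (w j)⁻¹ * g * w i = h at hfus
  have hrev : ∀ f ∈ F j, h⁻¹ * f * h⁻¹⁻¹ ∈ F i := fun f hf => by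
    simpa using conj_back ((hF4 i).trans (hF4 j).symm) hfus f hf
  fin_cases i <;> fin_cases j
  · exact hij rfl
  · exact noUV _ hrev
  · exact noV0 _ hZV _ hrev
  · exact noUV _ hfus
  · exact hij rfl
  · exact noV0 _ hZU _ hrev
  · exact noV0 _ hZV _ hfus
  · exact noV0 _ hZU _ hfus
  · exact hij rfl

end St

end Cfsg.Agent.Recog.AEight
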