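import Cfsg.Agent.Lib.Recog.AEight.CopyData

/-!
A two-subgroup of order sixty-four centralising a fixed-point-free involution.
-/

set_option autoImplicit false
set_option maxRecDepth 100000

namespace Cfsg.Agent.Recog.AEight

open Equiv

attribute [local instance 2000] List.decidableBAll List.decidableBEx

/-- The even flips of the four pairs. -/
def flips : List P8 :=
  [1, dt 0 3 1 4, dt 0 3 2 5, dt 0 3 6 7, dt 1 4 2 5, dt 1 4 6 7, dt 2 5 6 7, w0]

/-- A dihedral group permuting the pairs. -/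
def blocks : List P8 :=
  let p : P8 := dt 0 1 3 4
  let q : P8 := dt 2 6 5 7
  let r : P8 := dt 0 2 3 5 * dt 1 6 4 7
  [1, p, q, p * q, r, p * r, q * r, p * q * r]

/-- The sixty-four elements. -/
def s64 : List P8 := flips.flatMap fun a => blocks.map fun b => a * b

theorem s64_codes : (allL (fun c => evenN c && Nat.beq (cmp (code w0) c) (cmp c (code w0))) (s64.map code) &&
    allL (fun a => allL (fun b => memN (s64.map code) (cmp a b)) (s64.map code)) (s64.map code)) = true := by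
  decide +kernel

theorem s64_nodup : (s64.map code).Nodup ∧ s64.length = 64 ∧ 1 ∈ s64 := by decide +kernel

theorem s64_mem : ∀ σ ∈ s64, Perm.sign σ = 1 ∧ w0 * σ = σ * w0 := by
  intro σ hσ
  have h := s64_codes
  rw [Bool.and_eq_true, allL_iff] at h
  have := h.1 _ (List.mem_map_of_mem hσ)
  rw [Bool.and_eq_true, evenN_iff, ← code_mul, ← code_mul, beq_code] at this
  exact this

theorem s64_mul : ∀ σ ∈ s64, ∀ τ ∈ s64, σ * τ ∈ s64 := by
  intro σ hσ τ hτ
  have h := s64_codes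
  rw [Bool.and_eq_true, allL_iff, allL_iff] at h
  have := allL_iff.1 (h.2 _ (List.mem_map_of_mem hσ)) _ (List.mem_map_of_mem hτ)
  rwa [← code_mul, memN_iff] at this

theorem centW0_chk : centChk (code w0) (code (dt 0 3 1 4)) = true := by decide +kernel

theorem cent_wy_chk : allPerm (okAnd (okComm (code w0)) (okComm 16373777))
    (fun f => memN ([dd 0 0, dd 1 1, dd 2 2, w0, dd 1 1 * w0, dd 2 2 * w0].map code) f || !evenN f) = true := by
  decide +kernel

theorem wy_data : dt 0 3 1 4 * dt 0 3 2 5 = dt 0 3 2 5 * dt 0 3 1 4 ∧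
    dt 0 3 1 4 * dt 0 3 1 4 = 1 ∧ dt 0 3 2 5 * dt 0 3 2 5 = 1 ∧ dt 0 3 1 4 ≠ 1 ∧ dt 0 3 2 5 ≠ 1 ∧
    dt 0 3 1 4 ≠ dt 0 3 2 5 ∧ (∀ a ∈ [dt 0 3 1 4, dt 0 3 2 5, dt 1 4 2 5], Perm.sign a = 1 ∧ a * w0 = w0 * a ∧
      fpfN (code a) = false ∧ a * a = 1 ∧ a ≠ 1) ∧
    dt 0 3 1 4 * dt 0 3 2 5 = dt 1 4 2 5 ∧ z0 * zp * w0 ≠ 1 := by
  decide +kernel

end Cfsg.Agent.Recog.AEight
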