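import Cfsg.Agent.Lib.Recog.AEight.CentT
import Cfsg.Agent.Lib.Recog.AEight.CentWData
import Cfsg.Agent.Lib.Fus.SelfCentThree.Main
import Cfsg.Agent.Lib.Classical.DicksonSmallQ
import Cfsg.Agent.Lib.Grp.CoprimeAbelian

/-!
The centraliser of a fixed-point-free involution lies in the copy.
-/

set_option autoImplicit false
set_option maxRecDepth 100000

namespace Cfsg.Agent.Recog.AEight

open Equiv

attribute [local instance 2000] List.decidableBAll List.decidableBEx

/-- A normal subgroup of odd order modulo a central involution lifts. -/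
theorem exists_lift {Γ : Type*} [Group Γ] [Finite Γ] (w : Γ) [(Subgroup.zpowers w).Normal]
    (hw : orderOf w = 2) (N : Subgroup (Γ ⧸ Subgroup.zpowers w)) [N.Normal] (hN : Odd (Nat.card N)) :
    ∃ O : Subgroup Γ, O.Normal ∧ Odd (Nat.card O) ∧ ∀ q ∈ N, ∃ x ∈ O, QuotientGroup.mk' _ x = q := by
  set π := QuotientGroup.mk' (Subgroup.zpowers w) with hπ
  set M := N.comap π with hM
  have hwM : Subgroup.zpowers w ≤ M := fun x hx => by
    show π x ∈ N
    rw [show π x = 1 from (QuotientGroup.eq_one_iff x).2 hx]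
    exact N.one_mem
  set W := (Subgroup.zpowers w).subgroupOf M with hW
  haveI : W.Normal := Subgroup.Normal.subgroupOf inferInstance M
  have hWc : Nat.card W = 2 := by
    rw [hW, Nat.card_congr (Subgroup.subgroupOfEquivOfLe hwM).toEquiv, Nat.card_zpowers, hw]
  let f : M →* N := (π.comp M.subtype).codRestrict N fun x => x.2
  have hfs : Function.Surjective f := by
    rintro ⟨q, hq⟩
    obtain ⟨x, rfl⟩ := QuotientGroup.mk'_surjective _ q
    exact ⟨⟨x, hq⟩, rfl⟩
  have hker : f.ker = W := by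
    ext x
    rw [MonoidHom.mem_ker, hW, Subgroup.mem_subgroupOf]
    exact (Subtype.ext_iff).trans (QuotientGroup.eq_one_iff (x : Γ))
  have hidx : W.index = Nat.card N := by
    rw [← hker, Subgroup.index_ker, MonoidHom.range_eq_top.2 hfs, Subgroup.card_top]
  obtain ⟨K, hK⟩ := Subgroup.exists_right_complement'_of_coprime (N := W)
    (by rw [hWc, hidx]; exact hN.coprime_two_left)
  have hKi : K.index = 2 := by rw [hK.index_eq_card, hWc]
  have hKodd : Odd (Nat.card K) := by rw [← hK.symm.index_eq_card, hidx]; exact hN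
  refine ⟨K.map M.subtype, ⟨fun x hx a => ?_⟩, by rwa [Subgroup.card_map_of_injective M.subtype_injective], ?_⟩
  · obtain ⟨k, hk, rfl⟩ := hx
    have hmem : a * (k : Γ) * a⁻¹ ∈ M := (Subgroup.Normal.comap ‹N.Normal› π).conj_mem _ k.2 a
    refine ⟨⟨_, hmem⟩, ?_, rfl⟩
    have ho : Odd (orderOf (⟨_, hmem⟩ : M)) := by
      rw [Subgroup.orderOf_mk, ← MulAut.conj_apply, ← MulEquiv.coe_toMonoidHom,
        orderOf_injective _ (MulAut.conj a).injective, Subgroup.orderOf_coe]
      exact hKodd.of_dvd_nat (Subgroup.orderOf_dvd_natCard _ hk)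
    exact Invol.mem_of_sq_mem ho (Subgroup.mul_self_mem_of_index_two hKi _)
  · intro q hq
    obtain ⟨x, rfl⟩ := QuotientGroup.mk'_surjective _ q
    obtain ⟨⟨c, k⟩, hck⟩ := hK.2 (⟨x, hq⟩ : M)
    refine ⟨((k : M) : Γ), ⟨k, k.2, rfl⟩, ?_⟩
    have h1 : (((c : M)) : Γ) * ((k : M) : Γ) = x := congrArg Subtype.val hck
    rw [← h1, map_mul, show π (((c : M)) : Γ) = 1 from (QuotientGroup.eq_one_iff _).2 c.2, one_mul]

variable {G : Type*} [Group G] [Finite G]

namespace Cp

variable (C : Cp G)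

theorem ZT_tt : ZT C.toEmb (C.F tt) := by
  refine ⟨1, ?_⟩
  simp only [one_mul, inv_one, mul_one]
  exact C.V_comm_Z (C.mem_V.2 ⟨tt, data_V.2.2.2.1, C.F_eq mem_data.2.2.2.2.1⟩)

theorem cent_conj_tt {h : P8} (hh : Perm.sign h = 1) {g : G}
    (hg : g * C.F (h * tt * h⁻¹) = C.F (h * tt * h⁻¹) * g) : g ∈ C.G0 := by
  rw [C.F_conj hh even_data.2.1] at hg
  have h' := conj_comm (C.F h)⁻¹ hg
  have := C.cent_tt (g := (C.F h)⁻¹ * g * C.F h) (by simpa [mul_assoc] using h')
  have hm := C.G0.mul_mem (C.G0.mul_mem (C.F_mem h) this) (C.G0.inv_mem (C.F_mem h))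
  simpa [mul_assoc] using hm

/-- An element conjugating a double transposition into the copy lies in it. -/
theorem mem_of_conj_tt {g : G} (hg : g * C.F tt * g⁻¹ ∈ C.G0) : g ∈ C.G0 := by
  obtain ⟨σ, hσ, hσe⟩ := C.mem_G0 hg
  obtain ⟨-, ht2, -, -, ht1, -⟩ := mul_tt_vv
  have hne : C.F σ ≠ 1 := fun e => C.F_ne_one even_data.2.1 ht1 (conj_eq_one_iff.1 (hσe ▸ e))
  have hσ1 : σ ≠ 1 := fun e => hne (by rw [e, C.F_one])
  have hσ2 : σ * σ = 1 := (C.F_inj (by rw [map_mul, hσ, mul_one]) (map_one _)).1 (by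
    rw [C.F_mul hσ hσ, hσe, C.F_one, show g * C.F tt * g⁻¹ * (g * C.F tt * g⁻¹) = g * (C.F tt * C.F tt) * g⁻¹ by
      group, C.F_sq even_data.2.1 ht2]
    group)
  obtain ⟨h, hh, rfl | rfl⟩ := two_classes hσ hσ2 hσ1
  · rw [C.F_conj hh even_data.2.1] at hσe
    have : (C.F h)⁻¹ * g ∈ C.G0 := C.cent_tt (mul_inv_eq_iff_eq_mul.1 (by
      rw [show (C.F h)⁻¹ * g * C.F tt * ((C.F h)⁻¹ * g)⁻¹ = (C.F h)⁻¹ * (g * C.F tt * g⁻¹) * C.F h by group, ← hσe]
      group))
    exact C.of_conj (C.G0.inv_mem (C.F_mem h)) this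
  · exact (C.toSt.excl (C.F_sq hσ hσ2) hne (hσe ▸ C.toSt.ZT_conj g C.ZT_tt) (C.YT_of_fpf hσ hσ2 hσ1 fpf_w0)).elim

/-- Two-subgroups have order at most sixty-four. -/
theorem two_bound (Q : Subgroup G) (hQ : IsPGroup 2 Q) : ∃ P : Sylow 2 G, (P : Subgroup G) ≤ C.G0 ∧
    Nat.card Q ≤ 64 := by
  haveI : Fact (Nat.Prime 2) := ⟨Nat.prime_two⟩
  obtain ⟨-, ht2, -, -, ht1, -⟩ := mul_tt_vv
  set t := C.F tt with ht
  have htt : t * t = 1 := C.F_sq even_data.2.1 ht2
  have htG : t ∈ C.G0 := C.F_mem tt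
  let t' : C.G0 := ⟨t, htG⟩
  have ht'c : Nat.card (Subgroup.zpowers t') = 2 ^ 1 := by
    rw [Nat.card_zpowers, Subgroup.orderOf_mk, order_two htt (C.F_ne_one even_data.2.1 ht1), pow_one]
  obtain ⟨P0, hP0⟩ := (IsPGroup.of_card ht'c : IsPGroup 2 (Subgroup.zpowers t')).exists_le_sylow
  have hP0c : Nat.card P0 = 64 := by
    rw [P0.card_eq_multiplicity, C.card_G0]
    have : (20160 : ℕ).factorization 2 = 6 := by
      rw [show (20160 : ℕ) = 2 ^ 6 * 315 by norm_num, Nat.factorization_mul (by norm_num) (by norm_num),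
        Nat.Prime.factorization_pow Nat.prime_two, Finsupp.add_apply, Finsupp.single_eq_same,
        Nat.factorization_eq_zero_of_not_dvd (show ¬ 2 ∣ 315 by norm_num)]
    rw [this]; rfl
  set P1 := (P0 : Subgroup C.G0).map C.G0.subtype with hP1
  have hP1G : P1 ≤ C.G0 := Subgroup.map_subtype_le _
  have htP1 : t ∈ P1 := ⟨t', hP0 (Subgroup.mem_zpowers _), rfl⟩
  obtain ⟨P, hP⟩ := (P0.2.map C.G0.subtype).exists_le_sylow
  have hPG : (P : Subgroup G) ⊓ C.G0 = P1 := by
    refine le_antisymm ?_ (le_inf hP hP1G)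
    have hp : IsPGroup 2 (((P : Subgroup G) ⊓ C.G0).subgroupOf C.G0) :=
      (P.2.to_le inf_le_left).comap_of_injective C.G0.subtype C.G0.subtype_injective
    have hle : (P0 : Subgroup C.G0) ≤ ((P : Subgroup G) ⊓ C.G0).subgroupOf C.G0 := fun x hx =>
      ⟨hP ⟨x, hx, rfl⟩, x.2⟩
    intro x hx
    have := P0.3 hp hle
    exact ⟨⟨x, hx.2⟩, by rw [← this]; exact hx, rfl⟩
  have heq : (P : Subgroup G) = P1 := by
    by_contra hne
    haveI : Group.IsNilpotent (P : Subgroup G) := P.2.isNilpotent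
    have hlt : P1.subgroupOf (P : Subgroup G) < ⊤ := lt_top_iff_ne_top.2 fun h =>
      hne (le_antisymm (Subgroup.subgroupOf_eq_top.1 h) hP)
    obtain ⟨q, hq, hq'⟩ := SetLike.exists_of_lt (Group.normalizerCondition_of_isNilpotent _ hlt)
    refine hq' ?_
    have hm : (q : G) * t * (q : G)⁻¹ ∈ P1 :=
      ((Subgroup.mem_normalizer_iff.1 hq) ⟨t, hP htP1⟩).1 htP1
    rw [Subgroup.mem_subgroupOf, ← hPG]
    exact ⟨q.2, C.mem_of_conj_tt (hP1G hm)⟩
  refine ⟨P, heq ▸ hP1G, ?_⟩
  obtain ⟨R, hR⟩ := hQ.exists_le_sylow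
  refine (Subgroup.card_le_of_le hR).trans ?_
  rw [Nat.card_congr (Sylow.equiv R P).toEquiv]
  show Nat.card (P : Subgroup G) ≤ 64
  rw [heq, hP1, Subgroup.card_map_of_injective C.G0.subtype_injective, hP0c]

/-- A two-subgroup containing a double transposition lies in the copy. -/
theorem two_le (Q : Subgroup G) (hQ : IsPGroup 2 Q) {h : P8} (hh : Perm.sign h = 1)
    (hmem : C.F (h * tt * h⁻¹) ∈ Q) : Q ≤ C.G0 := by
  haveI : Fact (Nat.Prime 2) := ⟨Nat.prime_two⟩
  obtain ⟨P, hP, -⟩ := C.two_bound Q hQ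
  obtain ⟨R, hR⟩ := hQ.exists_le_sylow
  obtain ⟨g, hg⟩ := MulAction.exists_smul_eq G R P
  have key : ∀ x ∈ Q, g * x * g⁻¹ ∈ C.G0 := fun x hx => hP (by
    rw [← hg, Sylow.coe_subgroup_smul]
    exact Subgroup.mem_map.2 ⟨x, hR hx, rfl⟩)
  have hgG : g ∈ C.G0 := by
    have h1 := key _ hmem
    rw [C.F_conj hh even_data.2.1] at h1
    have := C.mem_of_conj_tt (g := g * C.F h) (by
      rw [show g * C.F h * C.F tt * (g * C.F h)⁻¹ = g * (C.F h * C.F tt * (C.F h)⁻¹) * g⁻¹ by group]; exact h1)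
    simpa [mul_assoc] using C.G0.mul_mem this (C.G0.inv_mem (C.F_mem h))
  intro x hx
  have := C.G0.mul_mem (C.G0.mul_mem (C.G0.inv_mem hgG) (key x hx)) hgG
  simpa [mul_assoc] using this

/-- The centraliser of a fixed-point-free involution. -/
theorem cent_w0 {g : G} (hg : g * C.F w0 = C.F w0 * g) : g ∈ C.G0 := by
  classical
  haveI : Fact (Nat.Prime 2) := ⟨Nat.prime_two⟩
  haveI : Fact (Nat.Prime 3) := ⟨Nat.prime_three⟩
  obtain ⟨hws, -, -, -, -, hys⟩ := even_data
  obtain ⟨hab, ha2, hb2, ha1, hb1, habne, hfour, habc, -⟩ := wy_data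
  set w := C.F w0 with hwdef
  have hww : w * w = 1 := C.F_sq hws w0_data.2.1
  have hw1 : w ≠ 1 := C.F_ne_one hws w0_data.2.2.1
  set CW := Subgroup.centralizer ({w} : Set G) with hCW
  have hmem : ∀ x, x ∈ CW ↔ x * w = w * x := fun x => Subgroup.mem_centralizer_singleton_iff
  set a := dt (0 : Fin 8) 3 1 4 with hadef
  set b := dt (0 : Fin 8) 3 2 5 with hbdef
  obtain ⟨has, haw, -⟩ := hfour a (by simp)
  obtain ⟨hbs, hbw, -⟩ := hfour b (by simp)
  have hfa : ∀ e ∈ [a, b, dt 1 4 2 5], ∀ x : G, x * C.F e = C.F e * x → x ∈ C.G0 := by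
    intro e he x hx
    obtain ⟨hes, -, hef, he2, he1⟩ := hfour e he
    obtain ⟨h, hh, rfl | rfl⟩ := two_classes hes he2 he1
    · exact C.cent_conj_tt hh hx
    · rw [fpf_w0] at hef; exact absurd hef (by simp)
  have hzero : ∀ O : Subgroup G, (∀ x ∈ O, x * w = w * x) → Odd (Nat.card O) →
      (∀ c : G, c * w = w * c → ∀ x ∈ O, c * x * c⁻¹ ∈ O) → ∀ x ∈ O, x = 1 := by
    intro O hOw hOodd hOn
    let A := four (C.F a) (C.F b) (C.F_sq has ha2) (C.F_sq hbs hb2) ((C.F_comm has hbs).2 hab)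
    have hA4 : Nat.card A = 4 := card_four (C.F_ne_one has ha1) (C.F_ne_one hbs hb1)
      fun e => habne ((C.F_inj has hbs).1 e)
    haveI : IsMulCommutative A := ⟨⟨fun p q => Subtype.ext (by
      have := four_sq (A.mul_mem p.2 q.2)
      have hp := four_sq p.2
      have hq := four_sq q.2
      show (p : G) * q = q * p
      rw [← inv_eq_self this, mul_inv_rev, inv_eq_self hp, inv_eq_self hq])⟩⟩
    have hnc : ¬ IsCyclic A := by
      intro h
      obtain ⟨c, hc⟩ := h.exists_ofOrder_eq_natCard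
      have : orderOf c ∣ 2 := orderOf_dvd_of_pow_eq_one (Subtype.ext (by rw [sq]; exact four_sq c.2))
      rw [hc, hA4] at this
      norm_num at this
    have hAn : A ≤ Subgroup.normalizer (O : Set G) := fun c hc => by
      refine Subgroup.mem_normalizer_fintype (hOn c ?_)
      rcases mem_four.1 hc with rfl | rfl | rfl | rfl
      · simp
      · exact (C.F_comm has hws).2 haw
      · exact (C.F_comm hbs hws).2 hbw
      · exact ((show Commute _ w from (C.F_comm has hws).2 haw).mul_left ((C.F_comm hbs hws).2 hbw)).eq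
    have hgen := Cfsg.Agent.Grp.generated_by_centralizers A O hnc hAn (by
      rw [hA4, show (4 : ℕ) = 2 ^ 2 by norm_num]
      exact Nat.Coprime.pow_left 2 hOodd.coprime_two_left)
    have hOG : O ≤ C.G0 := by
      rw [← hgen]
      refine iSup₂_le fun c hc x hx => ?_
      have hxc : x * c = c * x := Subgroup.mem_centralizer_singleton_iff.1 hx.2
      rcases mem_four.1 hc.1 with rfl | rfl | rfl | rfl
      · exact absurd rfl hc.2
      · exact hfa a (by simp) x hxc
      · exact hfa b (by simp) x hxc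
      · rw [← C.F_mul has hbs, habc] at hxc
        exact hfa _ (by simp) x hxc
    intro x hx
    obtain ⟨σ, hσ, rfl⟩ := C.mem_G0 (hOG hx)
    by_contra hne
    have hσ1 : σ ≠ 1 := fun e => hne (by rw [e, C.F_one])
    have hoσ : Odd (orderOf σ) := by
      have hsa : (⟨σ, Perm.mem_alternatingGroup.2 hσ⟩ : alternatingGroup (Fin 8)).1 = σ := rfl
      rw [← hsa, Subgroup.orderOf_coe, ← orderOf_injective C.f C.f_inj, ← C.F_val, hsa]
      exact hOodd.of_dvd_nat (Subgroup.orderOf_dvd_natCard _ hx)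
    obtain ⟨h1, h2⟩ := of_centChk centW0_chk hσ ((C.F_comm hws hσ).1 (hOw _ hx).symm) hoσ hσ1
    have hm := O.mul_mem (O.inv_mem hx) (hOn _ ((C.F_comm has hws).2 haw) _ hx)
    rw [← C.F_inv hσ, ← C.F_conj has hσ, ← C.F_mul (by rw [map_inv, hσ, inv_one])
      (by simp [map_mul, map_inv, hσ, has]), inv_eq_self ha2, mul_assoc] at hm
    have hs' : Perm.sign (σ⁻¹ * (a * (σ * a))) = 1 := by simp [map_mul, map_inv, hσ, has]
    exact orderOf_not_two (C.F_sq hs' h2) (C.F_ne_one hs' h1)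
      (hOodd.of_dvd_nat (Subgroup.orderOf_dvd_natCard _ hm)) (pow_orderOf_eq_one _)
  set C0 := CW ⊓ C.G0 with hC0
  have h64 : 64 ∣ Nat.card C0 := by
    let S : Subgroup G :=
      { carrier := {x | ∃ σ ∈ s64, x = C.F σ}
        one_mem' := ⟨1, s64_nodup.2.2, C.F_one.symm⟩
        mul_mem' := by
          rintro _ _ ⟨σ, hσ, rfl⟩ ⟨τ, hτ, rfl⟩
          exact ⟨σ * τ, s64_mul σ hσ τ hτ, (C.F_mul (s64_mem σ hσ).1 (s64_mem τ hτ).1).symm⟩
        inv_mem' := by
          rintro _ ⟨σ, hσ, rfl⟩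
          have : ∀ n : ℕ, σ ^ n ∈ s64 := fun n => by
            induction n with
            | zero => exact s64_nodup.2.2
            | succ n ih => rw [pow_succ]; exact s64_mul _ ih _ hσ
          refine ⟨σ⁻¹, ?_, (C.F_inv (s64_mem σ hσ).1).symm⟩
          rw [show σ⁻¹ = σ ^ (orderOf σ - 1) from inv_eq_of_mul_eq_one_right (by
            rw [← pow_succ', Nat.sub_add_cancel (orderOf_pos σ), pow_orderOf_eq_one])]
          exact this _ }
    have hS : Nat.card S = 64 := by
      have hnd : s64.Nodup := List.Nodup.of_map code s64_nodup.1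
      rw [← Nat.card_eq_of_bijective (fun i : {σ // σ ∈ s64.toFinset} =>
        (⟨C.F i, i, List.mem_toFinset.1 i.2, rfl⟩ : S)) ?_, Nat.card_eq_fintype_card, Fintype.card_coe,
        List.toFinset_card_of_nodup hnd, s64_nodup.2.1]
      constructor
      · rintro ⟨σ, hσ⟩ ⟨τ, hτ⟩ e
        exact Subtype.ext ((C.F_inj (s64_mem σ (List.mem_toFinset.1 hσ)).1 (s64_mem τ (List.mem_toFinset.1 hτ)).1).1
          (congrArg Subtype.val e))
      · rintro ⟨_, σ, hσ, rfl⟩
        exact ⟨⟨σ, List.mem_toFinset.2 hσ⟩, rfl⟩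
    rw [← hS]
    refine Subgroup.card_dvd_of_le ?_
    rintro _ ⟨σ, hσ, rfl⟩
    exact ⟨(hmem _).2 ((C.F_comm (s64_mem σ hσ).1 hws).2 (s64_mem σ hσ).2.symm), C.F_mem σ⟩
  have hYw : C.Y * w = w * C.Y := by
    rw [C.Y_eq']; exact (C.F_comm hys hws).2 w0_data.1.symm
  have hY1 : C.Y ≠ 1 := C.ne_one (L.mul_mem mem_data.1 mem_data.2.1) (by decide +kernel)
  have hY3 : C.Y * C.Y * C.Y = 1 := C.D_cube C.Y_mem
  have h3 : 3 ∣ Nat.card C0 := by
    rw [← order_three hY3 hY1, ← Subgroup.orderOf_mk C.Y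
      (show C.Y ∈ C0 from ⟨(hmem _).2 hYw, C.D_le C.Y_mem⟩)]
    exact orderOf_dvd_natCard _
  let w' : CW := ⟨w, (hmem w).2 rfl⟩
  let Y' : CW := ⟨C.Y, (hmem _).2 hYw⟩
  have hw'c : ∀ x : CW, x * w' = w' * x := fun x => Subtype.ext ((hmem _).1 x.2)
  haveI hn : (Subgroup.zpowers w').Normal := ⟨fun n hn x => by
    obtain ⟨i, rfl⟩ := Subgroup.mem_zpowers_iff.1 hn
    rw [(Commute.zpow_right (hw'c x) i).eq, mul_inv_cancel_right]
    exact Subgroup.zpow_mem_zpowers _ _⟩
  have hw'2 : orderOf w' = 2 := by rw [Subgroup.orderOf_mk]; exact order_two hww hw1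
  let π := QuotientGroup.mk' (Subgroup.zpowers w')
  have hπ : ∀ x : CW, π x = 1 → (x : G) = 1 ∨ (x : G) = w := by
    intro x hx
    have hx' := (QuotientGroup.eq_one_iff x).1 hx
    have hfin : IsOfFinOrder w' := isOfFinOrder_of_finite w'
    rw [← hfin.mem_powers_iff_mem_zpowers, Submonoid.mem_powers_iff] at hx'
    obtain ⟨n, rfl⟩ := hx'
    rw [← pow_mod_orderOf, hw'2]
    rcases Nat.mod_two_eq_zero_or_one n with h | h <;> rw [h]
    · left; simp
    · right; simp [w']
  have hqY : orderOf (π Y') = 3 := by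
    refine orderOf_eq_prime ?_ ?_
    · rw [← map_pow, show Y' ^ 3 = 1 from Subtype.ext (by simp [Y', pow_succ, hY3]), map_one]
    · intro e
      rcases hπ _ e with h | h
      · exact hY1 h
      · rw [show C.Y = w from h, hww, one_mul] at hY3
        exact hw1 hY3
  have hXc : Nat.card (Subgroup.zpowers (π Y')) = 3 := by rw [Nat.card_zpowers, hqY]
  have hself : Subgroup.centralizer ((Subgroup.zpowers (π Y') : Subgroup _) : Set (CW ⧸ Subgroup.zpowers w')) =
      Subgroup.zpowers (π Y') := by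
    refine le_antisymm (fun q hq => ?_) (Subgroup.le_centralizer _)
    obtain ⟨x, rfl⟩ := QuotientGroup.mk'_surjective _ q
    have hx := Subgroup.mem_centralizer_iff.1 hq _ (Subgroup.mem_zpowers _)
    change π Y' * π x = π x * π Y' at hx
    have h1 : π (Y'⁻¹ * (x * Y' * x⁻¹)) = 1 := by
      rw [map_mul, map_mul, map_mul, map_inv, map_inv, ← hx]; group
    have hxY : (x : G) * C.Y = C.Y * x := by
      rcases hπ _ h1 with h | h
      · change C.Y⁻¹ * ((x : G) * C.Y * (x : G)⁻¹) = 1 at h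
        exact mul_inv_eq_iff_eq_mul.1 (inv_mul_eq_one.1 h).symm
      · exfalso
        change C.Y⁻¹ * ((x : G) * C.Y * (x : G)⁻¹) = w at h
        have hcube : (C.Y * w) ^ 3 = 1 := by
          rw [← h, mul_inv_cancel_left, conj_pow, pow_succ, sq, hY3]; group
        rw [(show Commute C.Y w from hYw).mul_pow, show C.Y ^ 3 = 1 by rw [pow_succ, sq, hY3], one_mul,
          pow_succ, sq, hww, one_mul] at hcube
        exact hw1 hcube
    obtain ⟨σ, hσ, hσx⟩ := C.mem_G0 (C.cent_Y hxY)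
    have hxw := (hmem _).1 x.2
    rw [← hσx] at hxY hxw
    rw [C.Y_eq'] at hxY
    have hc := of_allPerm cent_wy_chk σ (okAnd_of (okComm_of ((C.F_comm hσ hws).1 hxw).symm)
      (code_data.2.2.2.1 ▸ okComm_of ((C.F_comm hσ hys).1 hxY).symm))
    simp only [Bool.or_eq_true, Bool.not_eq_true', Bool.eq_false_iff, ne_eq, evenN_iff, memN_iff] at hc
    have hπw : π w' = 1 := (QuotientGroup.eq_one_iff _).2 (Subgroup.mem_zpowers _)
    have hdd : ∀ n : ℕ, π x = π (Y' ^ n) ∨ π x = π (Y' ^ n * w') → π x ∈ Subgroup.zpowers (π Y') := by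
      rintro n (e | e)
      · rw [e, map_pow]; exact Subgroup.npow_mem_zpowers _ _
      · rw [e, map_mul, hπw, mul_one, map_pow]; exact Subgroup.npow_mem_zpowers _ _
    have hdY : dd 0 0 = (z0 * zp) ^ 0 ∧ dd 1 1 = (z0 * zp) ^ 1 ∧ dd 2 2 = (z0 * zp) ^ 2 := by decide +kernel
    have hFp : ∀ n : ℕ, C.F ((z0 * zp) ^ n) = ((Y' ^ n : CW) : G) := fun n => by
      show _ = C.Y ^ n
      induction n with
      | zero => simp [C.F_one]
      | succ n ih => rw [pow_succ, pow_succ, C.F_mul (by rw [map_pow, hys, one_pow]) hys, ih, C.Y_eq']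
    rcases hc with hc | hc
    · simp only [List.mem_cons, List.not_mem_nil, or_false, hdY.1, hdY.2.1, hdY.2.2] at hc
      have hsp : ∀ n : ℕ, Perm.sign ((z0 * zp) ^ n) = 1 := fun n => by rw [map_pow, hys, one_pow]
      rcases hc with e | e | e | e | e | e
      · exact hdd 0 (Or.inl (congrArg π (Subtype.ext (by rw [← hσx, e, hFp]))))
      · exact hdd 1 (Or.inl (congrArg π (Subtype.ext (by rw [← hσx, e, hFp]))))
      · exact hdd 2 (Or.inl (congrArg π (Subtype.ext (by rw [← hσx, e, hFp]))))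
      · exact hdd 0 (Or.inr (congrArg π (Subtype.ext (by rw [← hσx, e]; simp [w', hwdef]))))
      · exact hdd 1 (Or.inr (congrArg π (Subtype.ext (by rw [← hσx, e, C.F_mul (hsp 1) hws, hFp]; simp [w', hwdef]))))
      · exact hdd 2 (Or.inr (congrArg π (Subtype.ext (by rw [← hσx, e, C.F_mul (hsp 2) hws, hFp]; simp [w', hwdef]))))
    · exact absurd hσ hc
  have hcardCW : Nat.card CW = 2 * Nat.card (CW ⧸ Subgroup.zpowers w') := by
    rw [Subgroup.card_eq_card_quotient_mul_card_subgroup (Subgroup.zpowers w'), Nat.card_zpowers, hw'2, mul_comm]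
  have hdvd : Nat.card C0 ∣ Nat.card CW := Subgroup.card_dvd_of_le inf_le_left
  have hpow : ∀ k : ℕ, 2 ^ k ∣ Nat.card CW → k ≤ 6 := by
    intro k hk
    obtain ⟨Q, hQ⟩ := Sylow.exists_subgroup_card_pow_prime 2 hk
    obtain ⟨-, -, hb⟩ := C.two_bound (Q.map CW.subtype) ((IsPGroup.of_card hQ).map CW.subtype)
    rw [Subgroup.card_map_of_injective CW.subtype_injective, hQ] at hb
    exact (Nat.pow_le_pow_iff_right (by norm_num : 1 < 2)).1 (hb.trans_eq (by norm_num))
  rcases Cfsg.Agent.Fus.SCThree.concl_of_self_centralizing hXc hself with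
    ⟨N, hN, hnil, hcop, hq⟩ | ⟨N, hN, -, hexp, ⟨e⟩⟩ | ⟨⟨e⟩⟩
  · haveI := hN
    have hqc : Nat.card ((CW ⧸ Subgroup.zpowers w') ⧸ N) = 3 ∨ Nat.card ((CW ⧸ Subgroup.zpowers w') ⧸ N) = 6 := by
      rcases hq with h | ⟨⟨e⟩⟩
      · exact Or.inl h
      · exact Or.inr (by rw [Nat.card_congr e.toEquiv, Nat.card_perm, Nat.card_eq_fintype_card, Fintype.card_fin]; rfl)
    have hN2 : ∀ p, p.Prime → p ∣ Nat.card N → p = 2 := by
      intro p hp hpd
      by_contra hp2
      haveI : Fact p.Prime := ⟨hp⟩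
      let P : Sylow p N := default
      haveI : (P : Subgroup N).Normal := inferInstance
      haveI := P.characteristic_of_normal inferInstance
      haveI : ((P : Subgroup N).map N.subtype).Normal := inferInstance
      obtain ⟨O, hOn, hOodd, hOs⟩ := exists_lift w' hw'2 ((P : Subgroup N).map N.subtype) (by
        rw [Subgroup.card_map_of_injective N.subtype_injective]
        obtain ⟨k, hk⟩ := P.2.exists_card_eq
        rw [hk]
        exact (hp.odd_of_ne_two hp2).pow)
      have hz := hzero (O.map CW.subtype) (by rintro _ ⟨x, -, rfl⟩; exact (hmem _).1 x.2)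
        (by rwa [Subgroup.card_map_of_injective CW.subtype_injective]) (by
          rintro c hc _ ⟨x, hx, rfl⟩
          exact ⟨⟨c, (hmem c).2 hc⟩ * x * ⟨c, (hmem c).2 hc⟩⁻¹, hOn.conj_mem x hx _, rfl⟩)
      refine Sylow.ne_bot_of_dvd_card P hpd (eq_bot_iff.2 fun q hq => ?_)
      obtain ⟨x, hx, hxq⟩ := hOs _ ⟨q, hq, rfl⟩
      have : x = 1 := Subtype.ext (hz _ ⟨x, hx, rfl⟩)
      rw [this, map_one] at hxq
      exact Subgroup.mem_bot.2 (Subtype.ext hxq.symm)
    obtain ⟨m, hm⟩ : ∃ m, Nat.card N = 2 ^ m :=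
      ⟨_, Nat.eq_prime_pow_of_unique_prime_dvd Nat.card_pos.ne' fun {p} hp hd => hN2 p hp hd⟩
    have hcard : ∃ k, Nat.card CW = 2 ^ k * 3 := by
      have h1 := Subgroup.card_eq_card_quotient_mul_card_subgroup N
      rcases hqc with h | h <;> rw [h, hm] at h1
      · exact ⟨m + 1, by rw [hcardCW, h1]; ring⟩
      · exact ⟨m + 2, by rw [hcardCW, h1]; ring⟩
    obtain ⟨k, hk⟩ := hcard
    have hk6 := hpow k (hk ▸ dvd_mul_right _ _)
    have hle : Nat.card CW ≤ Nat.card C0 := by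
      rw [hk]
      refine (Nat.mul_le_mul_right 3 (Nat.pow_le_pow_right (by norm_num) hk6)).trans ?_
      exact Nat.le_of_dvd Nat.card_pos (Nat.Coprime.mul_dvd_of_dvd_of_dvd (by norm_num) h64 h3)
    have heq := Subgroup.eq_of_le_of_card_ge (inf_le_left : C0 ≤ CW) hle
    exact (Subgroup.mem_inf.1 (heq.ge ((hmem g).2 hg))).2
  · exfalso
    haveI := hN
    have hp2 : IsPGroup 2 N := fun n => ⟨1, Subtype.ext (by simpa using hexp n n.2)⟩
    obtain ⟨m, hm⟩ := hp2.exists_card_eq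
    have h1 := Subgroup.card_eq_card_quotient_mul_card_subgroup N
    have h60 : Nat.card (alternatingGroup (Fin 5)) = 60 := by
      rw [nat_card_alternatingGroup, Nat.card_fin]; rfl
    rw [Nat.card_congr e.toEquiv, h60, hm] at h1
    have h120 : Nat.card CW = 2 ^ (m + 3) * 15 := by
      rw [hcardCW, h1]; ring
    have hm3 : m + 3 ≤ 6 := hpow _ (h120 ▸ dvd_mul_right _ _)
    have h64' := h64.trans hdvd
    rw [h120] at h64'
    have hm3' : 3 ≤ m := by
      by_contra hlt
      push Not at hlt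
      interval_cases m <;> norm_num at h64'
    obtain rfl : m = 3 := by omega
    have hX3 : IsPGroup 3 (Subgroup.zpowers (π Y')) := IsPGroup.of_card (n := 1) (by rw [hXc]; rfl)
    letI : MulAction (Subgroup.zpowers (π Y')) N :=
      MulAction.compHom N ((MulAut.conjNormal : (CW ⧸ Subgroup.zpowers w') →* MulAut N).comp
        (Subgroup.zpowers (π Y')).subtype)
    have hfix := hX3.card_modEq_card_fixedPoints N
    have hsingle : MulAction.fixedPoints (Subgroup.zpowers (π Y')) N = {1} := by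
      ext n
      simp only [MulAction.mem_fixedPoints, Set.mem_singleton_iff]
      constructor
      · intro hn'
        have hcen : (n : CW ⧸ Subgroup.zpowers w') ∈ Subgroup.zpowers (π Y') := by
          rw [← hself, Subgroup.mem_centralizer_iff]
          intro q hq
          have := congrArg Subtype.val (hn' ⟨q, hq⟩)
          change q * (n : CW ⧸ Subgroup.zpowers w') * q⁻¹ = n at this
          exact mul_inv_eq_iff_eq_mul.1 this
        refine Subtype.ext (orderOf_eq_one_iff.1 (Nat.eq_one_of_dvd_coprimes (show Nat.Coprime 3 8 by norm_num)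
          (hXc ▸ Subgroup.orderOf_dvd_natCard _ hcen) ?_))
        have := Subgroup.orderOf_dvd_natCard N n.2
        rw [hm] at this
        exact this
      · rintro rfl q
        exact map_one (MulAut.conjNormal (q : CW ⧸ Subgroup.zpowers w'))
    rw [hm, hsingle, Nat.card_eq_fintype_card] at hfix
    simp [Nat.ModEq] at hfix
  · exfalso
    have h168 : Nat.card (Matrix.ProjectiveSpecialLinearGroup (Fin 2) (ZMod 7)) = 168 := by
      haveI : Fact (Nat.Prime 7) := ⟨by norm_num⟩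
      have h := Dickson.card_psl_odd (F := ZMod 7) (by rw [ZMod.card]; decide)
      rw [ZMod.card] at h
      omega
    have hc : Nat.card CW = 336 := by rw [hcardCW, Nat.card_congr e.toEquiv, h168]
    have h64' := h64.trans hdvd
    rw [hc] at h64'
    norm_num at h64'

end Cp

end Cfsg.Agent.Recog.AEight
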