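import Cfsg.Agent.Lib.Recog.AEight.HomData

/-!
Classes and centralisers inside the alternating group of degree eight.
-/

set_option autoImplicit false
set_option maxRecDepth 100000

namespace Cfsg.Agent.Recog.AEight

open Equiv

attribute [local instance 2000] List.decidableBAll List.decidableBEx

/-- The eighteen elements centralising `(012)(345)`. -/
def lY : List P8 := [dd 0 0, dd 1 0, dd 0 1, w0]

theorem even_data : Perm.sign w0 = 1 ∧ Perm.sign tt = 1 ∧ Perm.sign vv = 1 ∧ Perm.sign z0 = 1 ∧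
    Perm.sign zp = 1 ∧ Perm.sign (z0 * zp) = 1 := by decide +kernel

theorem w0_data : w0 * (z0 * zp) = z0 * zp * w0 ∧ w0 * w0 = 1 ∧ w0 ≠ 1 ∧ w0 * z0 * w0⁻¹ = zp ∧
    w0 * tt * w0⁻¹ = dt 0 1 2 7 ∧ w0.support.card = 8 ∧ tt.support.card = 4 ∧ z0.support.card = 3 ∧
    (z0 * zp).support.card = 6 := by
  decide +kernel

theorem odd_data : (swap (0 : Fin 8) 1) * tt = tt * swap 0 1 ∧ swap (0 : Fin 8) 3 * w0 = w0 * swap 0 3 ∧
    swap (3 : Fin 8) 4 * z0 = z0 * swap 3 4 ∧ swap (6 : Fin 8) 7 * (z0 * zp) = z0 * zp * swap 6 7 := by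
  decide +kernel

/-- Even permutations of the same prime order and support size are conjugate under even permutations. -/
theorem conj_of_support {σ τ c : P8} {p : ℕ} (hp : p.Prime) (h1 : orderOf σ = p) (h2 : orderOf τ = p)
    (hs : σ.support.card = τ.support.card) (hc : c * τ = τ * c) (hodd : Perm.sign c = -1) :
    ∃ h : P8, Perm.sign h = 1 ∧ h * τ * h⁻¹ = σ := by
  obtain ⟨a, ha⟩ := Perm.cycleType_prime_order (σ := σ) (h1 ▸ hp)
  obtain ⟨b, hb⟩ := Perm.cycleType_prime_order (σ := τ) (h2 ▸ hp)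
  have ea := Perm.sum_cycleType σ
  have eb := Perm.sum_cycleType τ
  rw [ha, Multiset.sum_replicate, h1] at ea
  rw [hb, Multiset.sum_replicate, h2] at eb
  have hab : a + 1 = b + 1 := by
    simp only [smul_eq_mul] at ea eb
    exact Nat.eq_of_mul_eq_mul_right hp.pos (ea.trans (hs.trans eb.symm))
  obtain ⟨π, hπ⟩ := isConj_iff.1 (Perm.isConj_iff_cycleType_eq.2 (show τ.cycleType = σ.cycleType by
    rw [ha, hb, h1, h2, hab]))
  rcases Int.units_eq_one_or (Perm.sign π) with h | h
  · exact ⟨π, h, hπ⟩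
  · refine ⟨π * c, by rw [map_mul, h, hodd]; decide, ?_⟩
    rw [← hπ, show π * c * τ * (π * c)⁻¹ = π * (c * τ * c⁻¹) * π⁻¹ by group, hc, mul_inv_cancel_right]

/-- The two classes of involutions. -/
theorem two_classes {σ : P8} (hs : Perm.sign σ = 1) (h2 : σ * σ = 1) (h1 : σ ≠ 1) :
    ∃ h : P8, Perm.sign h = 1 ∧ (h * tt * h⁻¹ = σ ∨ h * w0 * h⁻¹ = σ) := by
  have ho : orderOf σ = 2 := orderOf_eq_prime (by rw [sq, h2]) h1
  obtain ⟨n, hn⟩ := Perm.cycleType_prime_order (σ := σ) (ho.symm ▸ Nat.prime_two)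
  have hsum := Perm.sum_cycleType σ
  have hsgn := Perm.sign_of_cycleType σ
  have hle := Perm.sum_cycleType_le σ
  rw [hn, ho, Multiset.sum_replicate, smul_eq_mul] at hsum hle
  rw [hs, hn, ho, Multiset.sum_replicate, smul_eq_mul, Multiset.card_replicate] at hsgn
  rw [Fintype.card_fin] at hle
  have hn' : n ≤ 3 := by omega
  have ht : orderOf tt = 2 := orderOf_eq_prime (by rw [sq]; exact mul_tt_vv.2.1) mul_tt_vv.2.2.2.2.1
  have hw : orderOf w0 = 2 := orderOf_eq_prime (by rw [sq]; exact w0_data.2.1) w0_data.2.2.1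
  interval_cases n
  · exact absurd hsgn (by decide)
  · obtain ⟨h, he, hh⟩ := conj_of_support Nat.prime_two ho ht (by rw [← hsum, w0_data.2.2.2.2.2.2.1])
      odd_data.1 (Perm.sign_swap (by decide))
    exact ⟨h, he, Or.inl hh⟩
  · exact absurd hsgn (by decide)
  · obtain ⟨h, he, hh⟩ := conj_of_support Nat.prime_two ho hw (by rw [← hsum, w0_data.2.2.2.2.2.1])
      odd_data.2.1 (Perm.sign_swap (by decide))
    exact ⟨h, he, Or.inr hh⟩

/-- The two classes of elements of order three. -/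
theorem three_classes {σ : P8} (h3 : σ * σ * σ = 1) (h1 : σ ≠ 1) :
    ∃ h : P8, Perm.sign h = 1 ∧ (h * z0 * h⁻¹ = σ ∨ h * (z0 * zp) * h⁻¹ = σ) := by
  have ho : orderOf σ = 3 := orderOf_eq_prime (by rw [pow_succ, sq, h3]) h1
  obtain ⟨n, hn⟩ := Perm.cycleType_prime_order (σ := σ) (ho.symm ▸ Nat.prime_three)
  have hsum := Perm.sum_cycleType σ
  have hle := Perm.sum_cycleType_le σ
  rw [hn, ho, Multiset.sum_replicate, smul_eq_mul] at hsum hle
  rw [Fintype.card_fin] at hle
  have hn' : n ≤ 1 := by omega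
  have hz : orderOf z0 = 3 := orderOf_eq_prime (by decide +kernel) (by decide +kernel)
  have hy : orderOf (z0 * zp) = 3 := orderOf_eq_prime (by decide +kernel) (by decide +kernel)
  interval_cases n
  · obtain ⟨h, he, hh⟩ := conj_of_support Nat.prime_three ho hz (by rw [← hsum, w0_data.2.2.2.2.2.2.2.1])
      odd_data.2.2.1 (Perm.sign_swap (by decide))
    exact ⟨h, he, Or.inl hh⟩
  · obtain ⟨h, he, hh⟩ := conj_of_support Nat.prime_three ho hy (by rw [← hsum, w0_data.2.2.2.2.2.2.2.2])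
      odd_data.2.2.2 (Perm.sign_swap (by decide))
    exact ⟨h, he, Or.inr hh⟩

/-- Fixed-point freeness, packed. -/
noncomputable def fpfN (f : ℕ) : Bool := allL (fun i => !Nat.beq (getN f i) i) pts

theorem fpf_w0 {h : P8} : fpfN (code (h * w0 * h⁻¹)) = true := by
  refine allL_iff.2 fun i hi => ?_
  simp only [pts, List.mem_cons, List.not_mem_nil, or_false] at hi
  obtain ⟨j, rfl⟩ : ∃ j : Fin 8, i = j.val := ⟨⟨i, by omega⟩, rfl⟩
  rw [code_get, Bool.not_eq_true', Bool.eq_false_iff]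
  intro e
  have e' : (h * w0 * h⁻¹) j = j := Fin.ext (Nat.eq_of_beq_eq_true e)
  have hfix : w0 (h⁻¹ j) = h⁻¹ j := by
    have := congrArg (fun x => h⁻¹ x) e'
    simpa using this
  generalize h⁻¹ j = k at hfix
  revert k; decide +kernel

theorem not_fpf_tt {h : P8} : fpfN (code (h * tt * h⁻¹)) = false := by
  rw [Bool.eq_false_iff, ne_eq, fpfN, allL_iff]
  intro H
  have h' := H (h 0).val (by
    have := (h 0).isLt
    simp only [pts, List.mem_cons, List.not_mem_nil, or_false]
    omega)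
  have e : (h * tt * h⁻¹) (h 0) = h 0 := by
    have : tt 0 = 0 := by decide +kernel
    simp [this]
  rw [code_get, e, Bool.not_eq_true', Bool.eq_false_iff] at h'
  exact h' (Nat.beq_refl _)

/-- The first auxiliary involution. -/
def i1 : P8 := dt 0 1 3 4

/-- The second auxiliary involution. -/
def i2 : P8 := dt 2 7 3 4

/-- The commutator check. -/
noncomputable def cmtN (j f : ℕ) : Bool :=
  let c := cmp (cmp f f) (cmp j (cmp f j))
  !Nat.beq c one8 && Nat.beq (cmp c c) one8

/-- Three-elements centralising `a` are moved by `j`, and orders there divide twelve. -/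
noncomputable def centChk (a j : ℕ) : Bool :=
  allPerm (okComm a) fun f => !evenN f ||
    (let q := cmp (cmp f f) (cmp f f); Nat.beq (cmp q (cmp q q)) one8 &&
      (!Nat.beq (cmp f (cmp f f)) one8 || Nat.beq f one8 || cmtN j f))

theorem centT_chk : centChk (code tt) (code (dt 0 1 2 7)) = true ∧ centChk (code i1) (code (dt 5 6 2 7)) = true ∧
    centChk (code i2) (code (dt 0 1 5 6)) = true := by
  decide +kernel

theorem centW_chk : allPerm (okComm (code w0))
    (fun f => !evenN f || !Nat.beq (cmp f (cmp f f)) one8 || Nat.beq f one8 ||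
      cmtN (code (dt 0 3 1 4)) f) = true := by
  decide +kernel

/-- The candidates interchanging two four groups. -/
def rhos : List P8 :=
  [dt 3 4 5 6 * dt 0 1 2 7, dt 3 4 5 6 * dt 0 2 1 7, dt 3 4 5 6 * dt 0 7 1 2, dt 3 5 4 6 * dt 0 1 2 7,
    dt 3 5 4 6 * dt 0 2 1 7, dt 3 5 4 6 * dt 0 7 1 2, dt 3 6 4 5 * dt 0 1 2 7, dt 3 6 4 5 * dt 0 2 1 7,
    dt 3 6 4 5 * dt 0 7 1 2]

theorem rhos_mem : ∀ r ∈ rhos, Perm.sign r = 1 ∧ r * r = 1 ∧ r ≠ 1 ∧ fpfN (code r) = true ∧ r * tt = tt * r := by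
  decide +kernel

theorem cand_chk : allPerm (okComm (code tt))
    (fun f => !evenN f || !Nat.beq (cmp f f) one8 || fpfN f || fpfN (cmp f (code tt)) ||
      !(memN [code vv, code (vv * tt)] (cmp f (cmp (code vv) f))) || Nat.beq f (code vv) || Nat.beq f (code (vv * tt)) ||
      Nat.beq f one8 || Nat.beq f (code tt) ||
      anyL (fun r => Nat.beq (cmp r (cmp f r)) (cmp f (code tt))) (rhos.map code)) = true := by
  decide +kernel

/-- Preservation of the four moved points. -/
def inB (i : ℕ) : Bool := Nat.blt 2 i && Nat.blt i 7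

theorem norm_chk : allPerm (okStab inB)
    (fun f => !evenN f || !Nat.beq (cmp f f) one8 || !fpfN f || !memN ((kl 3 4 5 6).map code) (cmp f (cmp (code tt) f)) ||
      !memN ((kl 3 4 5 6).map code) (cmp f (cmp (code vv) f)) ||
      (Nat.beq (cmp f (code tt)) (cmp (code tt) f) && Nat.beq (cmp f (code vv)) (cmp (code vv) f))) = true := by
  decide +kernel

end Cfsg.Agent.Recog.AEight
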