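import Cfsg.Agent.Lib.Recog.AEight.Hom
import Cfsg.Agent.Lib.Recog.AEight.CopyData

/-!
Control of centralisers by the copy of the alternating group of degree eight.
-/

set_option autoImplicit false
set_option maxRecDepth 100000

namespace Cfsg.Agent.Recog.AEight

open Equiv

attribute [local instance 2000] List.decidableBAll List.decidableBEx

variable (G : Type*) [Group G]

/-- The data together with a copy of the alternating group. -/
structure Cp extends St G where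
  f : alternatingGroup (Fin 8) →* G
  f_inj : Function.Injective f
  f_eq : ∀ {σ : P8} (h : σ ∈ L), f (sg h) = toSt.e σ

variable {G}

theorem St.exists_Cp [Finite G] (S : St G) : Nonempty (Cp G) :=
  let ⟨φ, h1, h2⟩ := S.exists_alt
  ⟨{ toSt := S, f := φ, f_inj := h1, f_eq := h2 }⟩

namespace Cp

variable (C : Cp G)

/-- The copy on permutations. -/
noncomputable def F (σ : P8) : G :=
  if h : Perm.sign σ = 1 then C.f ⟨σ, Perm.mem_alternatingGroup.2 h⟩ else 1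

/-- The copy. -/
def G0 : Subgroup G := C.f.range

theorem F_val (a : alternatingGroup (Fin 8)) : C.F a = C.f a := by
  rw [F, dif_pos (Perm.mem_alternatingGroup.1 a.2)]

theorem F_eq {σ : P8} (h : σ ∈ L) : C.F σ = C.e σ := by
  rw [show σ = ((sg h : alternatingGroup (Fin 8)) : P8) from rfl, C.F_val, C.f_eq h]
  rfl

theorem F_one : C.F 1 = 1 := by
  rw [show (1 : P8) = ((1 : alternatingGroup (Fin 8)) : P8) from rfl, C.F_val, map_one]

theorem F_mul {a b : P8} (ha : Perm.sign a = 1) (hb : Perm.sign b = 1) : C.F (a * b) = C.F a * C.F b := by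
  rw [show a * b = (((⟨a, Perm.mem_alternatingGroup.2 ha⟩ * ⟨b, Perm.mem_alternatingGroup.2 hb⟩ :
    alternatingGroup (Fin 8))) : P8) from rfl, C.F_val, map_mul, ← C.F_val, ← C.F_val]

theorem F_inv {a : P8} (ha : Perm.sign a = 1) : C.F a⁻¹ = (C.F a)⁻¹ := by
  rw [show a⁻¹ = (((⟨a, Perm.mem_alternatingGroup.2 ha⟩⁻¹ : alternatingGroup (Fin 8))) : P8) from rfl,
    C.F_val, map_inv, ← C.F_val]

theorem F_conj {a b : P8} (ha : Perm.sign a = 1) (hb : Perm.sign b = 1) :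
    C.F (a * b * a⁻¹) = C.F a * C.F b * (C.F a)⁻¹ := by
  rw [C.F_mul (by rw [map_mul, ha, hb, mul_one]) (by rw [map_inv, ha, inv_one]), C.F_mul ha hb, C.F_inv ha]

theorem F_inj {a b : P8} (ha : Perm.sign a = 1) (hb : Perm.sign b = 1) : C.F a = C.F b ↔ a = b := by
  refine ⟨fun h => ?_, fun h => h ▸ rfl⟩
  rw [F, F, dif_pos ha, dif_pos hb] at h
  exact congrArg Subtype.val (C.f_inj h)

theorem F_ne_one {a : P8} (ha : Perm.sign a = 1) (h : a ≠ 1) : C.F a ≠ 1 := fun e =>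
  h ((C.F_inj ha (map_one _)).1 (by rw [e, C.F_one]))

theorem F_comm {a b : P8} (ha : Perm.sign a = 1) (hb : Perm.sign b = 1) :
    C.F a * C.F b = C.F b * C.F a ↔ a * b = b * a := by
  rw [← C.F_mul ha hb, ← C.F_mul hb ha,
    C.F_inj (by rw [map_mul, ha, hb, mul_one]) (by rw [map_mul, ha, hb, mul_one])]

theorem F_sq {a : P8} (ha : Perm.sign a = 1) (h : a * a = 1) : C.F a * C.F a = 1 := by
  rw [← C.F_mul ha ha, h, C.F_one]

theorem F_mem (σ : P8) : C.F σ ∈ C.G0 := by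
  unfold F
  split_ifs with h
  · exact ⟨_, rfl⟩
  · exact one_mem _

theorem mem_G0 {x : G} (h : x ∈ C.G0) : ∃ σ : P8, Perm.sign σ = 1 ∧ C.F σ = x :=
  let ⟨a, ha⟩ := h
  ⟨a, Perm.mem_alternatingGroup.1 a.2, (C.F_val a).trans ha⟩

theorem card_G0 : Nat.card C.G0 = 20160 := by
  show Nat.card C.f.range = 20160
  rw [← Nat.card_congr (MonoidHom.ofInjective C.f_inj).toEquiv, nat_card_alternatingGroup, Nat.card_eq_fintype_card,
    Fintype.card_fin]
  rfl

theorem Z_eq : C.Z = C.F z0 := (C.F_eq mem_data.1).symm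

theorem Y_eq' : C.Y = C.F (z0 * zp) := (C.F_eq (L.mul_mem mem_data.1 mem_data.2.1)).symm

theorem D_le : C.D ≤ C.G0 := by
  rintro _ ⟨a, b, rfl⟩
  rw [← C.F_eq (dd_mem a b)]
  exact C.F_mem _

variable [Finite G]

omit [Finite G] in
theorem mem_of_norm_Z {g : G} (h : g * C.Z * g⁻¹ ∈ Subgroup.zpowers C.Z) : g ∈ C.G0 := by
  obtain ⟨l, hl, rfl⟩ := C.range g h
  rw [← C.F_eq hl]
  exact C.F_mem _

omit [Finite G] in
theorem cent_Z {g : G} (h : g * C.Z = C.Z * g) : g ∈ C.G0 :=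
  C.mem_of_norm_Z (by rw [h, mul_inv_cancel_right]; exact Subgroup.mem_zpowers _)

theorem cent_Y {g : G} (h : g * C.Y = C.Y * g) : g ∈ C.G0 := by
  set K := Subgroup.centralizer ({C.Y} : Set G) ⊓ C.G0 with hK
  have hD : C.D ≤ K := fun d hd => ⟨Subgroup.mem_centralizer_singleton_iff.2 (C.D_comm hd C.Y_mem), C.D_le hd⟩
  have hw : C.F w0 ∈ K := by
    refine ⟨Subgroup.mem_centralizer_singleton_iff.2 ?_, C.F_mem _⟩
    rw [C.Y_eq']
    exact (C.F_comm even_data.1 even_data.2.2.2.2.2).2 w0_data.1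
  have h9 : 9 ∣ Nat.card K := C.card_D ▸ Subgroup.card_dvd_of_le hD
  have h2 : 2 ∣ Nat.card K := by
    rw [← order_two (C.F_sq even_data.1 w0_data.2.1) (C.F_ne_one even_data.1 w0_data.2.2.1),
      ← Subgroup.orderOf_mk _ hw]
    exact orderOf_dvd_natCard _
  have h18 : 18 ∣ Nat.card K := Nat.Coprime.mul_dvd_of_dvd_of_dvd (by norm_num) h2 h9
  have : K = Subgroup.centralizer ({C.Y} : Set G) := Subgroup.eq_of_le_of_card_ge inf_le_left
    (by rw [C.card_y]; exact Nat.le_of_dvd Nat.card_pos h18)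
  exact (this.symm ▸ Subgroup.mem_centralizer_singleton_iff.2 h : g ∈ K).2

theorem of_conj {g h : G} (hh : h ∈ C.G0) (hg : h * g ∈ C.G0) : g ∈ C.G0 :=
  (Subgroup.mul_mem_cancel_left _ hh).1 hg

theorem cent_conj_Z {τ : P8} (hτ : Perm.sign τ = 1) {g : G} (h : g * C.F (τ * z0 * τ⁻¹) = C.F (τ * z0 * τ⁻¹) * g) :
    g ∈ C.G0 := by
  rw [C.F_conj hτ even_data.2.2.2.1, ← C.Z_eq] at h
  have h' := conj_comm (C.F τ)⁻¹ h
  simp only [inv_inv, ← mul_assoc, inv_mul_cancel, one_mul, inv_mul_cancel_right] at h'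
  have := C.cent_Z (g := (C.F τ)⁻¹ * g * C.F τ) (by simpa [mul_assoc] using h')
  have hm := C.G0.mul_mem (C.G0.mul_mem (C.F_mem τ) this) (C.G0.inv_mem (C.F_mem τ))
  simpa [mul_assoc] using hm

theorem cent_conj_Y {τ : P8} (hτ : Perm.sign τ = 1) {g : G}
    (h : g * C.F (τ * (z0 * zp) * τ⁻¹) = C.F (τ * (z0 * zp) * τ⁻¹) * g) : g ∈ C.G0 := by
  rw [C.F_conj hτ even_data.2.2.2.2.2, ← C.Y_eq'] at h
  have h' := conj_comm (C.F τ)⁻¹ h
  have := C.cent_Y (g := (C.F τ)⁻¹ * g * C.F τ) (by simpa [mul_assoc] using h')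
  have hm := C.G0.mul_mem (C.G0.mul_mem (C.F_mem τ) this) (C.G0.inv_mem (C.F_mem τ))
  simpa [mul_assoc] using hm

/-- Centralisers of elements of order three lie in the copy. -/
theorem cent_three {σ : P8} (hσ : Perm.sign σ = 1) (h3 : σ * σ * σ = 1) (h1 : σ ≠ 1) {g : G}
    (h : g * C.F σ = C.F σ * g) : g ∈ C.G0 := by
  obtain ⟨τ, hτ, rfl | rfl⟩ := three_classes h3 h1
  · exact C.cent_conj_Z hτ h
  · exact C.cent_conj_Y hτ h

omit [Finite G] in
theorem dd_sign : ∀ a b : Fin 3, Perm.sign (dd a b) = 1 ∧ dd a b * dd a b * dd a b = 1 := by decide +kernel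

theorem cent_D_elem {d : G} (hd : d ∈ C.D) (h1 : d ≠ 1) {g : G} (h : g * d = d * g) : g ∈ C.G0 := by
  obtain ⟨a, b, rfl⟩ := hd
  rw [← C.F_eq (dd_mem a b)] at h h1
  exact C.cent_three (dd_sign a b).1 (dd_sign a b).2 (fun e => h1 (by rw [e, C.F_one])) h

/-- An element conjugating `Z` into the copy lies in it. -/
theorem mem_of_conj_Z {g : G} (h : g * C.Z * g⁻¹ ∈ C.G0) : g ∈ C.G0 := by
  obtain ⟨σ, hσ, hσe⟩ := C.mem_G0 h
  have hne : σ ≠ 1 := by
    rintro rfl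
    rw [C.F_one, eq_comm, conj_eq_one_iff] at hσe
    exact C.ne_one mem_data.1 (by decide +kernel) hσe
  have hs2 : Perm.sign (σ * σ) = 1 := by rw [map_mul, hσ, mul_one]
  have h3 : σ * σ * σ = 1 := (C.F_inj (by rw [map_mul, hs2, hσ, mul_one]) (map_one _)).1 (by
    rw [C.F_mul hs2 hσ, C.F_mul hσ hσ, hσe, C.F_one]
    calc g * C.Z * g⁻¹ * (g * C.Z * g⁻¹) * (g * C.Z * g⁻¹) = g * (C.Z * C.Z * C.Z) * g⁻¹ := by group
      _ = 1 := by rw [C.D_cube C.Z_mem]; group)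
  obtain ⟨τ, hτ, rfl | rfl⟩ := three_classes h3 hne
  · rw [C.F_conj hτ even_data.2.2.2.1, ← C.Z_eq] at hσe
    have hm : (C.F τ)⁻¹ * g ∈ C.G0 := C.mem_of_norm_Z (by
      rw [show (C.F τ)⁻¹ * g * C.Z * ((C.F τ)⁻¹ * g)⁻¹ = (C.F τ)⁻¹ * (g * C.Z * g⁻¹) * C.F τ by group, ← hσe]
      simp [mul_assoc])
    exact C.of_conj (C.G0.inv_mem (C.F_mem τ)) hm
  · exfalso
    rw [C.F_conj hτ even_data.2.2.2.2.2, ← C.Y_eq'] at hσe
    have h4 := C.four_dvd_cent_Z
    rw [← card_cent_conj g, ← hσe, card_cent_conj, C.card_y] at h4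
    norm_num at h4

end Cp

end Cfsg.Agent.Recog.AEight
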