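import Cfsg.Agent.Lib.Recog.AEight.Copy

/-!
The normaliser of the four group lies in the copy.
-/

set_option autoImplicit false

namespace Cfsg.Agent.Recog.AEight

open Equiv

variable {G : Type*} [Group G] [Finite G]

namespace Cp

variable (C : Cp G)

theorem cent_V : Subgroup.centralizer (C.V : Set G) ≤ C.G0 := by
  obtain ⟨W, -, -, -, -, hsplit, hgen⟩ := C.toSt.exists_W
  have hW : W ≤ C.G0 := by
    rw [← hgen]
    exact iSup₂_le fun d hd x hx => C.cent_D_elem hd.1 hd.2 (Subgroup.mem_centralizer_singleton_iff.1 hx.2)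
  intro x hx
  obtain ⟨w, hw, c, hc, rfl⟩ := hsplit x hx
  refine C.G0.mul_mem (hW hw) ?_
  exact (Subgroup.zpowers_le.2 (C.D_le C.Z_mem)) hc

theorem norm_V {g : G} (h : ∀ v ∈ C.V, g * v * g⁻¹ ∈ C.V) : g ∈ C.G0 := by
  refine C.mem_of_conj_Z (C.cent_V ?_)
  rw [Subgroup.mem_centralizer_iff]
  intro v hv
  have hb := conj_back (A := C.V) (B := C.V) rfl h v hv
  have := conj_comm g (C.V_comm_Z hb)
  simpa [mul_assoc] using this

end Cp

end Cfsg.Agent.Recog.AEight
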