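import Cfsg.Agent.Lib.Recog.AEight.Basic

/-!
Copies of the stabiliser of three points inside a group, and the elementary abelian group of order nine in them.
-/

set_option autoImplicit false
set_option maxRecDepth 100000

namespace Cfsg.Agent.Recog.AEight

open Equiv

attribute [local instance 2000] List.decidableBAll List.decidableBEx

/-- The elements of the group generated by the two three-cycles. -/
def dd (a b : Fin 3) : P8 := z0 ^ a.val * zp ^ b.val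

theorem mem_data : z0 ∈ L ∧ zp ∈ L ∧ i0 ∈ L ∧ t0 ∈ L ∧ tt ∈ L ∧ vv ∈ L := by decide +kernel

theorem dd_mem (a b : Fin 3) : dd a b ∈ L :=
  L.mul_mem (L.pow_mem mem_data.1 _) (L.pow_mem mem_data.2.1 _)

theorem dd_table : (∀ a b c d : Fin 3, dd a b * dd c d = dd (a + c) (b + d)) ∧
    (∀ a b c d : Fin 3, dd a b = dd c d → a = c ∧ b = d) ∧
    (∀ a b : Fin 3, a ≠ 0 → b ≠ 0 → ∃ u ∈ [1, i0, t0, i0 * t0], u * dd 1 1 * u⁻¹ = dd a b) ∧
    (∀ a b : Fin 3, ∀ u ∈ [1, i0, t0, i0 * t0], ∃ c d : Fin 3, u * dd a b * u⁻¹ = dd c d) ∧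
    dd 1 0 = z0 ∧ dd 0 1 = zp ∧ dd 1 1 = z0 * zp ∧ dd 0 0 = 1 := by
  decide +kernel

variable (G : Type*) [Group G]

/-- An embedding of the stabiliser. -/
structure Emb where
  e : P8 → G
  mul : ∀ {a b : P8}, a ∈ L → b ∈ L → e (a * b) = e a * e b
  inj : ∀ {a : P8}, a ∈ L → e a = 1 → a = 1

variable {G}

namespace Emb

variable (E : Emb G)

theorem e_one : E.e 1 = 1 := by
  have h := E.mul L.one_mem L.one_mem
  rw [mul_one] at h
  exact left_eq_mul.1 h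

/-- The embedding as a homomorphism. -/
def eh : L →* G where
  toFun a := E.e a
  map_one' := E.e_one
  map_mul' a b := E.mul a.2 b.2

theorem e_inv {a : P8} (ha : a ∈ L) : E.e a⁻¹ = (E.e a)⁻¹ := map_inv E.eh ⟨a, ha⟩

theorem e_pow {a : P8} (ha : a ∈ L) (n : ℕ) : E.e (a ^ n) = E.e a ^ n := map_pow E.eh ⟨a, ha⟩ n

theorem e_conj {a b : P8} (ha : a ∈ L) (hb : b ∈ L) : E.e (a * b * a⁻¹) = E.e a * E.e b * (E.e a)⁻¹ := by
  rw [E.mul (L.mul_mem ha hb) (L.inv_mem ha), E.mul ha hb, E.e_inv ha]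

theorem eq_iff {a b : P8} (ha : a ∈ L) (hb : b ∈ L) : E.e a = E.e b ↔ a = b := by
  refine ⟨fun h => ?_, fun h => h ▸ rfl⟩
  have := E.inj (L.mul_mem ha (L.inv_mem hb))
    (by rw [E.mul ha (L.inv_mem hb), E.e_inv hb, h, mul_inv_cancel])
  exact mul_inv_eq_one.1 this

theorem ne_one {a : P8} (ha : a ∈ L) (h : a ≠ 1) : E.e a ≠ 1 := fun e => h (E.inj ha e)

theorem comm_iff {a b : P8} (ha : a ∈ L) (hb : b ∈ L) : E.e a * E.e b = E.e b * E.e a ↔ a * b = b * a := by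
  rw [← E.mul ha hb, ← E.mul hb ha, E.eq_iff (L.mul_mem ha hb) (L.mul_mem hb ha)]

theorem e_sq {a : P8} (ha : a ∈ L) (h : a * a = 1) : E.e a * E.e a = 1 := by
  rw [← E.mul ha ha, h, E.e_one]

/-- The image of `(012)`. -/
def Z : G := E.e z0

/-- The image of `(345)`. -/
def Z' : G := E.e zp

/-- The image of `(012)(345)`. -/
def Y : G := E.e (z0 * zp)

/-- The elementary abelian group of order nine. -/
def D : Subgroup G where
  carrier := {d | ∃ a b, d = E.e (dd a b)}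
  one_mem' := ⟨0, 0, by rw [dd_table.2.2.2.2.2.2.2, E.e_one]⟩
  mul_mem' := by
    rintro _ _ ⟨a, b, rfl⟩ ⟨c, d, rfl⟩
    exact ⟨a + c, b + d, by rw [← dd_table.1, E.mul (dd_mem a b) (dd_mem c d)]⟩
  inv_mem' := by
    rintro _ ⟨a, b, rfl⟩
    refine ⟨-a, -b, ?_⟩
    rw [inv_eq_iff_mul_eq_one, ← E.mul (dd_mem a b) (dd_mem _ _), dd_table.1, add_neg_cancel, add_neg_cancel,
      dd_table.2.2.2.2.2.2.2, E.e_one]

theorem mem_D {d : G} : d ∈ E.D ↔ ∃ a b, d = E.e (dd a b) := Iff.rfl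

theorem Z_mem : E.Z ∈ E.D := ⟨1, 0, by rw [dd_table.2.2.2.2.1]; rfl⟩

theorem Z'_mem : E.Z' ∈ E.D := ⟨0, 1, by rw [dd_table.2.2.2.2.2.1]; rfl⟩

theorem Y_mem : E.Y ∈ E.D := ⟨1, 1, by rw [dd_table.2.2.2.2.2.2.1]; rfl⟩

theorem Y_eq : E.Y = E.Z * E.Z' := E.mul mem_data.1 mem_data.2.1

theorem D_comm {a b : G} (ha : a ∈ E.D) (hb : b ∈ E.D) : a * b = b * a := by
  obtain ⟨i, j, rfl⟩ := ha
  obtain ⟨k, l, rfl⟩ := hb
  rw [← E.mul (dd_mem i j) (dd_mem k l), ← E.mul (dd_mem k l) (dd_mem i j), dd_table.1, dd_table.1,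
    add_comm i, add_comm j]

theorem D_cube {a : G} (ha : a ∈ E.D) : a * a * a = 1 := by
  obtain ⟨i, j, rfl⟩ := ha
  rw [← E.mul (dd_mem i j) (dd_mem i j), dd_table.1, ← E.mul (dd_mem _ _) (dd_mem i j), dd_table.1,
    show i + i + i = 0 by revert i; decide, show j + j + j = 0 by revert j; decide,
    dd_table.2.2.2.2.2.2.2, E.e_one]

theorem card_D : Nat.card E.D = 9 := by
  rw [← Nat.card_eq_of_bijective (fun p : Fin 3 × Fin 3 => (⟨E.e (dd p.1 p.2), p.1, p.2, rfl⟩ : E.D)) ?_,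
    Nat.card_eq_fintype_card, Fintype.card_prod, Fintype.card_fin]
  constructor
  · rintro ⟨a, b⟩ ⟨c, d⟩ h
    obtain ⟨rfl, rfl⟩ := dd_table.2.1 a b c d ((E.eq_iff (dd_mem a b) (dd_mem c d)).1 (congrArg Subtype.val h))
    rfl
  · rintro ⟨_, a, b, rfl⟩
    exact ⟨(a, b), rfl⟩

theorem isPGroup_D : IsPGroup 3 E.D := IsPGroup.of_card (n := 2) (by rw [E.card_D]; rfl)

/-- Elements centralising the two generators centralise `D`. -/
theorem cent_gen {g : G} (h1 : g * E.Z = E.Z * g) (h2 : g * E.Z' = E.Z' * g) :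
    g ∈ Subgroup.centralizer (E.D : Set G) := by
  rw [Subgroup.mem_centralizer_iff]
  rintro _ ⟨a, b, rfl⟩
  unfold dd
  rw [E.mul (L.pow_mem mem_data.1 _) (L.pow_mem mem_data.2.1 _), E.e_pow mem_data.1, E.e_pow mem_data.2.1]
  exact ((Commute.pow_right h1 a.val).mul_right (Commute.pow_right h2 b.val)).eq.symm

theorem i0_inv (d : G) (hd : d ∈ E.D) : E.e i0 * d * (E.e i0)⁻¹ = d⁻¹ := by
  obtain ⟨a, b, rfl⟩ := hd
  rw [← E.e_conj mem_data.2.2.1 (dd_mem a b), ← E.e_inv (dd_mem a b),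
    E.eq_iff (L.mul_mem (L.mul_mem mem_data.2.2.1 (dd_mem a b)) (L.inv_mem mem_data.2.2.1))
      (L.inv_mem (dd_mem a b))]
  revert a b
  decide +kernel

end Emb

/-- Four groups of the stabiliser. -/
theorem mul_tt_vv : tt * vv = dt 3 6 4 5 ∧ tt * tt = 1 ∧ vv * vv = 1 ∧ tt * vv = vv * tt ∧ tt ≠ 1 ∧ vv ≠ 1 ∧
    tt ≠ vv := by decide +kernel

/-- The four group on `3,4,5,6` centralises `z0`. -/
theorem kl_data : ∀ σ ∈ kl 3 4 5 6, σ ∈ L ∧ σ * z0 = z0 * σ := by decide +kernel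

namespace Emb

variable (E : Emb G)

/-- The image of the four group on `3,4,5,6`. -/
def V : Subgroup G :=
  four (E.e tt) (E.e vv) (E.e_sq mem_data.2.2.2.2.1 mul_tt_vv.2.1) (E.e_sq mem_data.2.2.2.2.2 mul_tt_vv.2.2.1)
    ((E.comm_iff mem_data.2.2.2.2.1 mem_data.2.2.2.2.2).2 mul_tt_vv.2.2.2.1)

theorem card_V : Nat.card E.V = 4 :=
  card_four (E.ne_one mem_data.2.2.2.2.1 mul_tt_vv.2.2.2.2.1) (E.ne_one mem_data.2.2.2.2.2 mul_tt_vv.2.2.2.2.2.1)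
    fun h => mul_tt_vv.2.2.2.2.2.2 ((E.eq_iff mem_data.2.2.2.2.1 mem_data.2.2.2.2.2).1 h)

theorem mem_V {v : G} : v ∈ E.V ↔ ∃ σ ∈ kl 3 4 5 6, v = E.e σ := by
  constructor
  · intro h
    rcases mem_four.1 h with rfl | rfl | rfl | rfl
    · exact ⟨1, by simp [kl], E.e_one.symm⟩
    · exact ⟨tt, by simp [kl, tt], rfl⟩
    · exact ⟨vv, by simp [kl, vv], rfl⟩
    · exact ⟨tt * vv, by rw [mul_tt_vv.1]; simp [kl], (E.mul mem_data.2.2.2.2.1 mem_data.2.2.2.2.2).symm⟩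
  · rintro ⟨σ, hσ, rfl⟩
    refine mem_four.2 ?_
    rw [← E.mul mem_data.2.2.2.2.1 mem_data.2.2.2.2.2, mul_tt_vv.1]
    simp only [kl, List.mem_cons, List.not_mem_nil, or_false] at hσ
    rcases hσ with rfl | rfl | rfl | rfl
    · exact Or.inl E.e_one
    · exact Or.inr (Or.inl rfl)
    · exact Or.inr (Or.inr (Or.inl rfl))
    · exact Or.inr (Or.inr (Or.inr rfl))

theorem V_comm_Z {v : G} (hv : v ∈ E.V) : v * E.Z = E.Z * v := by
  obtain ⟨σ, hσ, rfl⟩ := E.mem_V.1 hv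
  exact (E.comm_iff (kl_data σ hσ).1 mem_data.1).2 (kl_data σ hσ).2

theorem four_dvd_cent_Z : 4 ∣ Nat.card (Subgroup.centralizer ({E.Z} : Set G)) :=
  E.card_V ▸ Subgroup.card_dvd_of_le fun _ hv => Subgroup.mem_centralizer_singleton_iff.2 (E.V_comm_Z hv)

end Emb

end Cfsg.Agent.Recog.AEight
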