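import Mathlib

/-!
Kernel-friendly enumeration of the permutations of eight points subject to pairwise conditions.
-/

set_option autoImplicit false

namespace Cfsg.Agent.Recog.AEight

/-- Permutations of eight points. -/
abbrev P8 : Type := Equiv.Perm (Fin 8)

/-- `List.all`, by the recursor. -/
noncomputable def allL {α : Type} (p : α → Bool) (l : List α) : Bool := List.rec true (fun a _ ih => p a && ih) l

theorem allL_iff {α : Type} {p : α → Bool} {l : List α} : allL p l = true ↔ ∀ a ∈ l, p a = true := by
  induction l with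
  | nil => simp [allL]
  | cons a l ih =>
    show (p a && allL p l) = true ↔ _
    simp [ih]

/-- `List.any`, by the recursor. -/
noncomputable def anyL {α : Type} (p : α → Bool) (l : List α) : Bool := List.rec false (fun a _ ih => p a || ih) l

theorem anyL_iff {α : Type} {p : α → Bool} {l : List α} : anyL p l = true ↔ ∃ a ∈ l, p a = true := by
  induction l with
  | nil => simp [anyL]
  | cons a l ih =>
    show (p a || anyL p l) = true ↔ _
    simp [ih]

/-- The entry at `i` of a map packed in base eight. -/
def getN (f i : ℕ) : ℕ := f / 8 ^ i % 8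

/-- Composition of packed maps. -/
def cmp (f g : ℕ) : ℕ :=
  getN f (getN g 0) + (8 * getN f (getN g 1) + (64 * getN f (getN g 2) + (512 * getN f (getN g 3) +
    (4096 * getN f (getN g 4) + (32768 * getN f (getN g 5) + (262144 * getN f (getN g 6) +
      2097152 * getN f (getN g 7)))))))

/-- A permutation, packed. -/
def code (σ : P8) : ℕ :=
  (σ 0).val + (8 * (σ 1).val + (64 * (σ 2).val + (512 * (σ 3).val + (4096 * (σ 4).val +
    (32768 * (σ 5).val + (262144 * (σ 6).val + 2097152 * (σ 7).val))))))

theorem code_get (σ : P8) (i : Fin 8) : getN (code σ) i.val = (σ i).val := by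
  have h := fun j : Fin 8 => (σ j).isLt
  have h0 := h 0; have h1 := h 1; have h2 := h 2; have h3 := h 3
  have h4 := h 4; have h5 := h 5; have h6 := h 6; have h7 := h 7
  fin_cases i <;> simp [getN, code] <;> omega

theorem code_mul (σ τ : P8) : code (σ * τ) = cmp (code σ) (code τ) := by
  have h0 : getN (code τ) 0 = (τ 0).val := code_get τ 0
  have h1 : getN (code τ) 1 = (τ 1).val := code_get τ 1
  have h2 : getN (code τ) 2 = (τ 2).val := code_get τ 2
  have h3 : getN (code τ) 3 = (τ 3).val := code_get τ 3
  have h4 : getN (code τ) 4 = (τ 4).val := code_get τ 4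
  have h5 : getN (code τ) 5 = (τ 5).val := code_get τ 5
  have h6 : getN (code τ) 6 = (τ 6).val := code_get τ 6
  have h7 : getN (code τ) 7 = (τ 7).val := code_get τ 7
  simp only [cmp, h0, h1, h2, h3, h4, h5, h6, h7, code_get]
  rfl

theorem code_inj {σ τ : P8} : code σ = code τ ↔ σ = τ := by
  refine ⟨fun h => Equiv.ext fun i => Fin.ext ?_, fun h => h ▸ rfl⟩
  rw [← code_get, ← code_get, h]

theorem beq_code {σ τ : P8} : Nat.beq (code σ) (code τ) = true ↔ σ = τ := by
  rw [← code_inj]
  exact ⟨Nat.eq_of_beq_eq_true, fun h => h ▸ Nat.beq_refl _⟩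

/-- The identity, packed. -/
def one8 : ℕ := 16434824

theorem code_one : code 1 = one8 := by decide +kernel

theorem beq_one {σ : P8} : Nat.beq (code σ) one8 = true ↔ σ = 1 := by rw [← code_one, beq_code]

/-- Membership in a list of packed maps. -/
noncomputable def memN (l : List ℕ) (f : ℕ) : Bool := anyL (fun g => Nat.beq f g) l

theorem memN_iff {l : List P8} {σ : P8} : memN (l.map code) (code σ) = true ↔ σ ∈ l := by
  simp [memN, anyL_iff, beq_code, code_inj]

/-- The points. -/
def pts : List ℕ := [0, 1, 2, 3, 4, 5, 6, 7]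

/-- The check over all injective completions obeying the pairwise condition `ok`; `used` lists the choices. -/
noncomputable def chk (ok : ℕ → ℕ → ℕ → ℕ → Bool) (q : ℕ → Bool) (is : List ℕ) :
    List (ℕ × ℕ) → ℕ → Bool :=
  List.rec (fun _ acc => q acc) (fun i _ ih used acc =>
    allL (fun a => !(ok i a i a && allL (fun p => !Nat.beq p.2 a && ok i a p.1 p.2) used) ||
      ih ((i, a) :: used) (acc + a * 8 ^ i)) pts) is

/-- The remaining part of the code. -/
def rest (σ : P8) : List (Fin 8) → ℕ
  | [] => 0
  | i :: is => (σ i).val * 8 ^ i.val + rest σ is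

theorem chk_sound (ok : ℕ → ℕ → ℕ → ℕ → Bool) (q : ℕ → Bool) (σ : P8)
    (hok : ∀ i j : Fin 8, ok i.val (σ i).val j.val (σ j).val = true) :
    ∀ (is : List (Fin 8)) (used : List (Fin 8 × Fin 8)) (acc : ℕ), is.Nodup →
      (∀ p ∈ used, σ p.1 = p.2 ∧ p.1 ∉ is) →
      chk ok q (is.map Fin.val) (used.map fun p => (p.1.val, p.2.val)) acc = true →
      q (acc + rest σ is) = true := by
  intro is
  induction is with
  | nil => intro used acc _ _ h; simpa [chk, rest] using h
  | cons i is ih =>
    intro used acc hnd hus h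
    obtain ⟨hi, hnd⟩ := List.nodup_cons.1 hnd
    change allL (fun a => !(ok i.val a i.val a && allL (fun p => !Nat.beq p.2 a && ok i.val a p.1 p.2)
      (used.map fun p => (p.1.val, p.2.val))) ||
      chk ok q (is.map Fin.val) ((i.val, a) :: used.map fun p => (p.1.val, p.2.val)) (acc + a * 8 ^ i.val)) pts =
        true at h
    have hmem : (σ i).val ∈ pts := by
      have := (σ i).isLt
      simp only [pts, List.mem_cons, List.not_mem_nil, or_false]
      omega
    have h' := allL_iff.1 h _ hmem
    have hu : allL (fun p => !Nat.beq p.2 (σ i).val && ok i.val (σ i).val p.1 p.2)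
        (used.map fun p => (p.1.val, p.2.val)) = true := by
      rw [allL_iff]
      intro x hx
      obtain ⟨p, hp, rfl⟩ := List.mem_map.1 hx
      obtain ⟨h1, h2⟩ := hus p hp
      rw [← h1, hok i p.1, Bool.and_true, Bool.not_eq_true', Bool.eq_false_iff]
      intro e
      exact σ.injective.ne (fun h : p.1 = i => h2 (h ▸ List.mem_cons_self ..))
        (Fin.ext (Nat.eq_of_beq_eq_true e))
    rw [hok i i, hu] at h'
    have := ih ((i, σ i) :: used) (acc + (σ i).val * 8 ^ i.val) hnd (fun p hp => by
      rcases List.mem_cons.1 hp with h | h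
      · subst h; exact ⟨rfl, hi⟩
      · exact ⟨(hus p h).1, fun hm => (hus p h).2 (List.mem_cons_of_mem _ hm)⟩) (by simpa using h')
    rwa [rest, ← add_assoc]

/-- A Boolean property of all permutations allowed by `ok`, checked by enumeration. -/
noncomputable def allPerm (ok : ℕ → ℕ → ℕ → ℕ → Bool) (q : ℕ → Bool) : Bool := chk ok q pts [] 0

theorem of_allPerm {ok : ℕ → ℕ → ℕ → ℕ → Bool} {q : ℕ → Bool}
    (h : allPerm ok q = true) (σ : P8)
    (hok : ∀ i j : Fin 8, ok i.val (σ i).val j.val (σ j).val = true) : q (code σ) = true := by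
  have h' := chk_sound ok q σ hok (List.finRange 8) [] 0 (List.nodup_finRange 8) (by simp)
    (by rwa [show (List.finRange 8).map Fin.val = pts from rfl])
  convert h' using 2
  simp [rest, code, List.finRange_succ]
  ring

/-- The condition of commuting with `c`. -/
def okComm (c i a j b : ℕ) : Bool :=
  (!Nat.beq (getN c i) j || Nat.beq (getN c a) b) && (!Nat.beq (getN c j) i || Nat.beq (getN c b) a)

theorem okComm_of {c σ : P8} (h : c * σ = σ * c) (i j : Fin 8) :
    okComm (code c) i.val (σ i).val j.val (σ j).val = true := by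
  have hx : ∀ x, c (σ x) = σ (c x) := fun x => Equiv.ext_iff.1 h x
  simp only [okComm, code_get, hx, Bool.and_eq_true, Bool.or_eq_true, Bool.not_eq_true']
  refine ⟨?_, ?_⟩
  · by_cases e : c i = j
    · exact Or.inr (by simp [e])
    · exact Or.inl (by simpa [Bool.eq_false_iff] using fun h => e (Fin.ext h))
  · by_cases e : c j = i
    · exact Or.inr (by simp [e])
    · exact Or.inl (by simpa [Bool.eq_false_iff] using fun h => e (Fin.ext h))

/-- The condition of stabilising a set. -/
def okStab (S : ℕ → Bool) (i a _j _b : ℕ) : Bool := S i == S a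

/-- Two pairwise conditions at once. -/
def okAnd (o₁ o₂ : ℕ → ℕ → ℕ → ℕ → Bool) (i a j b : ℕ) : Bool := o₁ i a j b && o₂ i a j b

theorem okAnd_of {o₁ o₂ : ℕ → ℕ → ℕ → ℕ → Bool} {σ : P8}
    (h₁ : ∀ i j : Fin 8, o₁ i.val (σ i).val j.val (σ j).val = true)
    (h₂ : ∀ i j : Fin 8, o₂ i.val (σ i).val j.val (σ j).val = true) (i j : Fin 8) :
    okAnd o₁ o₂ i.val (σ i).val j.val (σ j).val = true := by
  simp [okAnd, h₁ i j, h₂ i j]

/-- The increasing pairs. -/
def pairsN : List (ℕ × ℕ) :=
  [(0, 1), (0, 2), (0, 3), (0, 4), (0, 5), (0, 6), (0, 7), (1, 2), (1, 3), (1, 4), (1, 5), (1, 6), (1, 7),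
   (2, 3), (2, 4), (2, 5), (2, 6), (2, 7), (3, 4), (3, 5), (3, 6), (3, 7), (4, 5), (4, 6), (4, 7),
   (5, 6), (5, 7), (6, 7)]

/-- Parity of a packed map. -/
noncomputable def evenN (f : ℕ) : Bool :=
  List.rec true (fun p _ b => cond (Nat.blt (getN f p.1) (getN f p.2)) b (!b)) pairsN

theorem foldr_parity {α : Type*} (l : List α) (P : α → Prop) [DecidablePred P] :
    (l.map fun a => if P a then (1 : ℤˣ) else -1).prod =
      if l.foldr (fun a b => if P a then b else !b) true = true then 1 else -1 := by
  induction l with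
  | nil => simp
  | cons a l ih =>
    rw [List.map_cons, List.prod_cons, ih, List.foldr_cons]
    by_cases h : P a <;> cases l.foldr (fun a b => if P a then b else !b) true <;> simp [h]

/-- The increasing pairs of points. -/
def pairs : List (Σ _ : Fin 8, Fin 8) :=
  (List.finRange 8).flatMap fun i => ((List.finRange 8).filter fun j => decide (i < j)).map fun j => ⟨i, j⟩

theorem pairs_data : (Finset.univ.sigma fun i : Fin 8 => Finset.Ioi i) = pairs.toFinset ∧ pairs.Nodup ∧
    pairsN = pairs.map fun p => (p.1.val, p.2.val) := by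
  decide +kernel

theorem rec_eq_foldr {α : Type} (g : α → Bool → Bool) (l : List α) :
    (List.rec true (fun p _ b => g p b) l : Bool) = l.foldr g true := by
  induction l with
  | nil => rfl
  | cons a l ih => rw [List.foldr_cons, ← ih]

theorem evenN_iff {σ : P8} : evenN (code σ) = true ↔ Equiv.Perm.sign σ = 1 := by
  rw [Equiv.Perm.sign_eq_prod_prod_Ioi, Finset.prod_sigma', pairs_data.1,
    List.prod_toFinset _ pairs_data.2.1, foldr_parity pairs fun x => σ x.1 < σ x.2]
  rw [evenN, pairs_data.2.2, rec_eq_foldr, List.foldr_map]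
  have e : pairs.foldr (fun x b => cond (Nat.blt (getN (code σ) x.1.val) (getN (code σ) x.2.val)) b !b) true =
      pairs.foldr (fun a b => if σ a.1 < σ a.2 then b else !b) true := by
    congr 1
    funext x b
    rw [code_get, code_get]
    by_cases hlt : σ x.1 < σ x.2
    · rw [show Nat.blt (σ x.1).val (σ x.2).val = true from by simpa [Nat.blt_eq] using hlt, if_pos hlt]; rfl
    · rw [show Nat.blt (σ x.1).val (σ x.2).val = false from by
        simpa [Bool.eq_false_iff, Nat.blt_eq] using hlt, if_neg hlt]; rfl
  rw [e]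
  cases pairs.foldr (fun a b => if σ a.1 < σ a.2 then b else !b) true <;> simp

end Cfsg.Agent.Recog.AEight
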