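import Cfsg.Agent.Lib.Recog.AEight.Emb
import Cfsg.Agent.Lib.Block.SevenPts.AltFacts

/-!
Finite data for the homomorphism out of the alternating group of degree eight.
-/

set_option autoImplicit false
set_option maxRecDepth 100000

namespace Cfsg.Agent.Recog.AEight

open Equiv
open Cfsg.Agent.Lie.Carmichael

attribute [local instance 2000] List.decidableBAll List.decidableBEx

/-- The moved point of a Carmichael generator. -/
def pt : Fin 6 → Fin 8 := ![2, 3, 4, 5, 6, 7]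

/-- The Carmichael generators on eight points. -/
def cy8 (i : Fin 6) : P8 := cy 0 1 (pt i)

/-- Representatives carrying `6` to the points `3, …, 7`. -/
def hh : Fin 6 → P8 := ![1, cy 6 3 4, cy 6 4 3, cy 6 5 3, 1, cy 6 7 3]

/-- The stabiliser of `6`. -/
def st : List P8 := kl 3 4 5 7 ++ (kl 3 4 5 7).map (· * zp) ++ (kl 3 4 5 7).map (· * zp⁻¹)

/-- Elements of the alternating group on the last five points. -/
def gA : List P8 := [zp, cy 6 3 4, cy 6 4 3, cy 6 5 3, cy 6 7 3, dt 3 4 5 7, dt 3 5 4 7, dt 3 7 4 5, t0]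

theorem hh_mem : ∀ i, hh i ∈ gA ∨ hh i = 1 := by decide +kernel

theorem gA_mem : ∀ g ∈ gA, g ∈ L ∧ g * z0 = z0 * g := by decide +kernel

theorem st_mem : ∀ g ∈ st, g ∈ L ∧ g * z0 = z0 * g := by decide +kernel

theorem pair_step : ∀ i j : Fin 6, i ≠ 0 → j ≠ 0 → i ≠ j →
    ∃ σ ∈ st, (hh j)⁻¹ * hh i * σ * t0 ∈ st := by decide +kernel

theorem step_A : ∀ g ∈ gA, ∀ i : Fin 6, i ≠ 0 →
    ∃ j : Fin 6, j ≠ 0 ∧ g * cy8 i * g⁻¹ = cy8 j ∧ (hh j)⁻¹ * g * hh i ∈ st := by decide +kernel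

theorem step_A0 : ∀ g ∈ gA, g * cy8 0 * g⁻¹ = cy8 0 := by decide +kernel

theorem step_i : (i0 * cy8 0 * i0⁻¹ = (cy8 0)⁻¹) ∧ ∀ i : Fin 6, i ≠ 0 →
    ∃ j : Fin 6, j ≠ 0 ∧ i0 * cy8 i * i0⁻¹ = (cy8 j)⁻¹ ∧ (hh j)⁻¹ * i0 * hh i * i0 ∈ st := by decide +kernel

theorem cy8_mem : ∀ i, Perm.sign (cy8 i) = 1 := by decide +kernel

/-- Eight points as the special points and six more. -/
def ptEquiv : Pt (Fin 6) ≃ Fin 8 := ((finSuccEquiv 7).trans (Equiv.optionCongr (finSuccEquiv 6))).symm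

theorem alt_cyc : ∀ i : Fin 6, ((Equiv.altCongrHom ptEquiv (cyc i)) : P8) = cy8 i := by decide +kernel

theorem pair_data : ∀ m ∈ [(6 : Fin 8), 7], cy 3 4 m ∈ L ∧ cy 3 4 m * cy 3 4 m * cy 3 4 m = 1 ∧
    cy 3 4 m * z0 = z0 * cy 3 4 m ∧ zp * cy 3 4 m * (zp * cy 3 4 m) = 1 ∧
    i0 * cy 3 4 m * i0⁻¹ = (cy 3 4 m)⁻¹ ∧
    cy 3 4 m * (i0 * t0 * cy 3 4 m * (i0 * t0)⁻¹) * (cy 3 4 m * (i0 * t0 * cy 3 4 m * (i0 * t0)⁻¹)) = 1 ∧
    cy 3 4 m ≠ 1 ∧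
    ∃ τ ∈ kl 3 4 5 m, cy 3 4 m = τ * zp ∨ cy 3 4 m = τ * zp⁻¹ := by decide +kernel

theorem move_data : (∀ σ ∈ kl 3 4 5 7, t0 * σ * t0⁻¹ ∈ kl 3 4 5 6) ∧
    (∀ τ ∈ kl 3 4 5 7, i0 * t0 * τ * (i0 * t0)⁻¹ ∈ kl 3 4 5 6) ∧
    (∀ τ ∈ kl 3 4 5 6, i0 * t0 * τ * (i0 * t0)⁻¹ ∈ kl 3 4 5 7) ∧
    (∀ τ ∈ kl 3 4 5 6, τ ∈ L) ∧ (∀ τ ∈ kl 3 4 5 7, τ ∈ L) := by decide +kernel

theorem decomp_chk : allPerm (okStab inA)
    (fun f => !evenN f || anyL (fun a => anyL (fun h => memN (st.map code) (cmp h (cmp a f)))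
      ([1, cy 6 3 4, cy 6 4 3, cy 6 5 3, cy 6 7 3].map fun g => code g⁻¹))
      ([1, z0, z0⁻¹, i0, i0 * z0, i0 * z0⁻¹].map fun g => code g⁻¹)) = true := by
  decide +kernel

/-- The stabiliser decomposed. -/
theorem decomp {σ : P8} (hσ : σ ∈ L) :
    ∃ a ∈ [1, z0, z0⁻¹, i0, i0 * z0, i0 * z0⁻¹], ∃ h ∈ [1, cy 6 3 4, cy 6 4 3, cy 6 5 3, cy 6 7 3],
      ∃ c ∈ st, σ = a * (h * c) := by
  have hc := of_allPerm decomp_chk σ (okL hσ)
  simp only [Bool.or_eq_true, Bool.not_eq_true', Bool.eq_false_iff, ne_eq, evenN_iff, anyL_iff,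
    List.mem_map] at hc
  rcases hc with hc | ⟨_, ⟨a, ha, rfl⟩, _, ⟨h, hh', rfl⟩, hm⟩
  · exact absurd hσ.1 hc
  · rw [← code_mul, ← code_mul, memN_iff] at hm
    exact ⟨a, ha, h, hh', _, hm, by group⟩

theorem central_chk : allPerm (okAnd (okStab inA) (okComm 16434705))
    (fun f => !evenN f || Nat.beq f one8 ||
      anyL (fun g => !Nat.beq (cmp g f) (cmp f g)) ([cy 0 1 6, cy 0 1 7, cy 0 1 3, cy 0 1 4].map code)) = true := by
  decide +kernel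

theorem central {σ : P8} (hσ : σ ∈ L) (hc : ∀ i, σ * cy8 i = cy8 i * σ) : σ = 1 := by
  have h := of_allPerm central_chk σ (okAnd_of (okL hσ) (code_data.1 ▸ okComm_of (hc 0).symm))
  simp only [Bool.or_eq_true, Bool.not_eq_true', Bool.eq_false_iff, ne_eq, evenN_iff, anyL_iff, List.mem_map,
    beq_one] at h
  rcases h with (h | h) | ⟨_, ⟨g, hg, rfl⟩, h⟩
  · exact absurd hσ.1 h
  · exact h
  · refine absurd ?_ h
    rw [← code_mul, ← code_mul, beq_code]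
    simp only [List.mem_cons, List.not_mem_nil, or_false] at hg
    rcases hg with rfl | rfl | rfl | rfl
    exacts [(hc 4).symm, (hc 5).symm, (hc 1).symm, (hc 2).symm]

end Cfsg.Agent.Recog.AEight
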