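import Cfsg.Agent.Lib.Recog.AEight.CentV
import Cfsg.Agent.Lib.Recog.AEight.HomData

/-!
The alternating group of degree eight inside a group with the three-local data.
-/

set_option autoImplicit false
set_option maxRecDepth 100000

namespace Cfsg.Agent.Recog.AEight

open Equiv
open Cfsg.Agent.Lie.Carmichael

attribute [local instance 2000] List.decidableBAll List.decidableBEx

variable {G : Type*} [Group G]

/-- An element of the stabiliser in the alternating group. -/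
def sg {σ : P8} (h : σ ∈ L) : alternatingGroup (Fin 8) := ⟨σ, Perm.mem_alternatingGroup.2 (mem_L.1 h).1⟩

namespace St

variable [Finite G] (S : St G)

/-- The copy of the alternating group of degree eight. -/
theorem exists_alt : ∃ φ : alternatingGroup (Fin 8) →* G, Function.Injective φ ∧
    ∀ {σ : P8} (h : σ ∈ L), φ (sg h) = S.e σ := by
  obtain ⟨s, hs, hs1, hsZ, hsZ', hsY, hsi, hst⟩ := S.exists_s
  obtain ⟨k, hk, hcomm⟩ := S.exists_pair hs hs1 hsZ hsZ' hsY hsi hst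
  have hsv : s⁻¹ = s := inv_eq_self hs
  obtain ⟨hI, hT, hIT, -⟩ := data_s
  have hjL : i0 * t0 ∈ L := L.mul_mem mem_data.2.2.1 mem_data.2.2.2.1
  have hjt : s * S.e (i0 * t0) * s⁻¹ = S.e t0 := by
    rw [← hst, hsv, ← mul_assoc, ← mul_assoc, hs, one_mul, mul_assoc, hs, mul_one]
  have hmove : ∀ x, S.e t0 * (s * x * s⁻¹) * (S.e t0)⁻¹ = s * (S.e (i0 * t0) * x * (S.e (i0 * t0))⁻¹) * s⁻¹ := by
    intro x
    rw [← hjt]; group
  obtain ⟨m, hm, hrel⟩ : ∃ m ∈ [(6 : Fin 8), 7], ∀ σ ∈ kl 3 4 5 7, ∀ τ ∈ kl 3 4 5 m,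
      S.e σ * (s * S.e τ * s⁻¹) = s * S.e τ * s⁻¹ * S.e σ := by
    obtain ⟨m, hm, hmk⟩ : ∃ m ∈ [(6 : Fin 8), 7],
        ∀ τ ∈ kl 3 4 5 m, τ ∈ L ∧ i0 * t0 * τ * (i0 * t0)⁻¹ ∈ k := by
      simp only [List.mem_cons, List.not_mem_nil, or_false] at hk
      rcases hk with rfl | rfl
      · exact ⟨7, by simp, fun τ hτ => ⟨move_data.2.2.2.2 τ hτ, move_data.2.1 τ hτ⟩⟩
      · exact ⟨6, by simp, fun τ hτ => ⟨move_data.2.2.2.1 τ hτ, move_data.2.2.1 τ hτ⟩⟩
    refine ⟨m, hm, fun σ hσ τ hτ => ?_⟩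
    have hσL := move_data.2.2.2.2 σ hσ
    have h1 := hcomm _ (move_data.1 σ hσ) _ (hmk τ hτ).2
    rw [S.e_conj mem_data.2.2.2.1 hσL, S.e_conj hjL (hmk τ hτ).1, ← hmove] at h1
    exact (conj_comm_iff (S.e t0)).1 h1
  obtain ⟨hmL, hm3, hmz, hmp, hmi, hmj, hm1, τ₀, hτ₀, hτe⟩ := pair_data m hm
  set c : G := s * S.e (cy 3 4 m) * s⁻¹ with hc
  have hc3 : c ^ 3 = 1 := by
    rw [hc, conj_pow, ← S.e_pow hmL, pow_succ, sq, hm3, S.e_one]; group
  have hcst : ∀ σ ∈ st, S.e σ * c = c * S.e σ := by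
    have hzp : Commute (S.e zp) c := by
      rw [hc]
      show Commute S.Z' _
      rw [← hsZ]
      exact conj_comm s ((S.comm_iff mem_data.1 hmL).2 hmz.symm)
    have hkl : ∀ σ ∈ kl 3 4 5 7, Commute (S.e σ) c := by
      intro σ hσ
      have hσL := move_data.2.2.2.2 σ hσ
      have hτL : τ₀ ∈ L := by
        have : ∀ m ∈ [(6 : Fin 8), 7], ∀ τ ∈ kl 3 4 5 m, τ ∈ L := by decide +kernel
        exact this m hm τ₀ hτ₀
      have hz : Commute (S.e σ) (s * S.e zp * s⁻¹) := by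
        show Commute _ (s * S.Z' * s⁻¹)
        rw [hsZ']
        exact (S.comm_iff hσL mem_data.1).2 (st_mem σ (by simp [st, hσ])).2
      have h1 : Commute (S.e σ) (s * S.e τ₀ * s⁻¹) := hrel σ hσ τ₀ hτ₀
      rcases hτe with h | h
      · rw [hc, h, S.mul hτL mem_data.2.1, show s * (S.e τ₀ * S.e zp) * s⁻¹
          = s * S.e τ₀ * s⁻¹ * (s * S.e zp * s⁻¹) by group]
        exact h1.mul_right hz
      · rw [hc, h, S.mul hτL (L.inv_mem mem_data.2.1), S.e_inv mem_data.2.1, show s * (S.e τ₀ * (S.e zp)⁻¹) * s⁻¹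
          = s * S.e τ₀ * s⁻¹ * (s * S.e zp * s⁻¹)⁻¹ by group]
        exact h1.mul_right hz.inv_right
    intro σ hσ
    simp only [st, List.mem_append, List.mem_map] at hσ
    rcases hσ with (hσ | ⟨τ, hτ, rfl⟩) | ⟨τ, hτ, rfl⟩
    · exact (hkl σ hσ).eq
    · rw [S.mul (move_data.2.2.2.2 τ hτ) mem_data.2.1]
      exact ((hkl τ hτ).mul_left hzp).eq
    · rw [S.mul (move_data.2.2.2.2 τ hτ) (L.inv_mem mem_data.2.1), S.e_inv mem_data.2.1]
      exact ((hkl τ hτ).mul_left hzp.inv_left).eq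
  have hhL : ∀ i, hh i ∈ L ∧ hh i * z0 = z0 * hh i := fun i => by
    rcases hh_mem i with h | h
    · exact gA_mem _ h
    · rw [h]; exact ⟨L.one_mem, by simp⟩
  let x : Fin 6 → G := fun i => if i = 0 then S.Z else S.e (hh i) * c * (S.e (hh i))⁻¹
  have hx0 : x 0 = S.Z := if_pos rfl
  have hxi : ∀ i, i ≠ 0 → x i = S.e (hh i) * c * (S.e (hh i))⁻¹ := fun i hi => if_neg hi
  have hxh : ∀ i, i ≠ 0 → ∀ u, u ∈ L → (hh i)⁻¹ * u ∈ st → S.e u * c * (S.e u)⁻¹ = x i := by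
    intro i hi u hu hst'
    have h1 := hcst _ hst'
    rw [S.mul (L.inv_mem (hhL i).1) hu, S.e_inv (hhL i).1] at h1
    have h2 := mul_inv_eq_iff_eq_mul.2 h1
    rw [hxi i hi]
    conv_rhs => rw [← h2]
    group
  have hsq : ∀ {a b : G} (g : G), (a * b) ^ 2 = 1 → (g * a * g⁻¹ * (g * b * g⁻¹)) ^ 2 = 1 := by
    intro a b g h
    rw [show g * a * g⁻¹ * (g * b * g⁻¹) = g * (a * b) * g⁻¹ by group, conj_pow, h, mul_one, mul_inv_cancel]
  have hzc : (S.Z * c) ^ 2 = 1 := by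
    rw [← hsZ', hc]
    refine hsq s ?_
    show (S.e zp * S.e (cy 3 4 m)) ^ 2 = 1
    rw [← S.mul mem_data.2.1 hmL, ← S.e_pow (L.mul_mem mem_data.2.1 hmL), sq, hmp, S.e_one]
  have h2 : ∀ i j, i ≠ j → (x i * x j) ^ 2 = 1 := by
    have h0 : ∀ j, j ≠ 0 → (x 0 * x j) ^ 2 = 1 := by
      intro j hj
      have := hsq (S.e (hh j)) hzc
      rw [show S.e (hh j) * S.Z * (S.e (hh j))⁻¹ = S.Z from
        mul_inv_eq_iff_eq_mul.2 ((S.comm_iff (hhL j).1 mem_data.1).2 (hhL j).2), ← hxi j hj] at this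
      rwa [hx0]
    intro i j hij
    rcases eq_or_ne i 0 with rfl | hi
    · exact h0 j hij.symm
    rcases eq_or_ne j 0 with rfl | hj
    · exact pair_symm (h0 i hi)
    obtain ⟨σ, hσ, hσt⟩ := pair_step i j hi hj hij
    have hu : hh i * σ ∈ L := L.mul_mem (hhL i).1 (st_mem σ hσ).1
    have hut : hh i * σ * t0 ∈ L := L.mul_mem hu mem_data.2.2.2.1
    have e1 := hxh i hi _ hu (by simpa [inv_mul_cancel_left] using hσ)
    have e2 := hxh j hj _ hut (by simpa [mul_assoc] using hσt)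
    rw [S.mul hu mem_data.2.2.2.1] at e2
    rw [← e1, ← e2, show S.e (hh i * σ) * S.e t0 * c * (S.e (hh i * σ) * S.e t0)⁻¹
      = S.e (hh i * σ) * (S.e t0 * c * (S.e t0)⁻¹) * (S.e (hh i * σ))⁻¹ by group]
    refine hsq _ ?_
    rw [hc, hmove]
    refine hsq s ?_
    rw [← S.e_conj hjL hmL, ← S.mul hmL (L.mul_mem (L.mul_mem hjL hmL) (L.inv_mem hjL)), ← S.e_pow
      (L.mul_mem hmL (L.mul_mem (L.mul_mem hjL hmL) (L.inv_mem hjL))), sq, hmj, S.e_one]
  have h3 : ∀ i, x i ^ 3 = 1 := by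
    intro i
    rcases eq_or_ne i 0 with rfl | hi
    · rw [hx0, pow_succ, sq]; exact S.D_cube S.Z_mem
    · rw [hxi i hi, conj_pow, hc3, mul_one, mul_inv_cancel]
  obtain ⟨φ₀, hφ₀⟩ := Cfsg.Agent.Block.SevenPts.exists_altHom x h3 h2
  let A8 := Equiv.altCongrHom ptEquiv
  let φ : alternatingGroup (Fin 8) →* G := φ₀.comp A8.symm.toMonoidHom
  have hA : ∀ i, ((A8 (cyc i)) : P8) = cy8 i := alt_cyc
  have hφ : ∀ i, φ (A8 (cyc i)) = x i := fun i => by simp [φ, hφ₀]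
  have hgen : ∀ {f g : alternatingGroup (Fin 8) →* G}, (∀ i, f (A8 (cyc i)) = g (A8 (cyc i))) → f = g := by
    intro f g h
    ext a
    have := DFunLike.congr_fun (Cfsg.Agent.Lie.Carmichael.hom_ext (f := f.comp A8.toMonoidHom)
      (g := g.comp A8.toMonoidHom) h) (A8.symm a)
    simpa using this
  have hinj : Function.Injective φ := by
    haveI : IsSimpleGroup (alternatingGroup (Fin 8)) := alternatingGroup.isSimpleGroup (by simp)
    rcases φ.normal_ker.eq_bot_or_eq_top with e | e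
    · exact (MonoidHom.ker_eq_bot_iff φ).1 e
    · refine absurd ?_ (S.ne_one mem_data.1 (by decide +kernel))
      rw [show S.e z0 = x 0 from hx0.symm, ← hφ 0]
      exact MonoidHom.mem_ker.1 (e ▸ Subgroup.mem_top _)
  have hgL : ∀ g ∈ gA, g ∈ L := fun g hg => (gA_mem g hg).1
  let Q : P8 → Prop := fun σ => ∃ h : σ ∈ L, ∀ i,
    S.e σ * φ (A8 (cyc i)) * (S.e σ)⁻¹ = φ (sg h * A8 (cyc i) * (sg h)⁻¹)
  have hQall : ∀ {σ : P8} (h : σ ∈ L), Q σ → ∀ y, S.e σ * φ y * (S.e σ)⁻¹ = φ (sg h * y * (sg h)⁻¹) := by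
    intro σ h hQ y
    exact DFunLike.congr_fun (hgen (f := (MulAut.conj (S.e σ)).toMonoidHom.comp φ)
      (g := φ.comp (MulAut.conj (sg h)).toMonoidHom) hQ.2) y
  have hQmul : ∀ {a b : P8}, Q a → Q b → Q (a * b) := by
    rintro a b ha hb
    refine ⟨L.mul_mem ha.1 hb.1, fun i => ?_⟩
    rw [S.mul ha.1 hb.1, show S.e a * S.e b * φ (A8 (cyc i)) * (S.e a * S.e b)⁻¹
      = S.e a * (S.e b * φ (A8 (cyc i)) * (S.e b)⁻¹) * (S.e a)⁻¹ by group, hb.2 i, hQall ha.1 ha]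
    congr 1
  have hval : ∀ (j : Fin 6) (a b : alternatingGroup (Fin 8)), (a : P8) = cy8 j → b = A8 (cyc j) → a = b :=
    fun j a b ha hb => Subtype.ext (ha.trans (by rw [hb, hA]))
  have hQz : Q z0 := by
    refine ⟨mem_data.1, fun i => ?_⟩
    have : sg mem_data.1 = A8 (cyc 0) := hval 0 _ _ rfl rfl
    rw [this, map_mul, map_mul, map_inv, hφ 0, hx0]
    rfl
  have hQ1 : Q 1 := ⟨L.one_mem, fun i => by
    rw [show sg L.one_mem = 1 from Subtype.ext rfl, S.e_one]; simp⟩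
  have hQA : ∀ g ∈ gA, Q g := by
    intro g hg
    refine ⟨hgL g hg, fun i => ?_⟩
    rw [hφ]
    rcases eq_or_ne i 0 with rfl | hi
    · rw [hval 0 (sg (hgL g hg) * A8 (cyc 0) * (sg (hgL g hg))⁻¹) _ (by
        show g * ((A8 (cyc 0)) : P8) * g⁻¹ = _
        rw [hA, step_A0 g hg]) rfl, hφ, hx0]
      exact mul_inv_eq_iff_eq_mul.2 ((S.comm_iff (hgL g hg) mem_data.1).2 (gA_mem g hg).2)
    · obtain ⟨j, hj, hje, hjs⟩ := step_A g hg i hi
      rw [hval j (sg (hgL g hg) * A8 (cyc i) * (sg (hgL g hg))⁻¹) _ (by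
        show g * ((A8 (cyc i)) : P8) * g⁻¹ = _
        rw [hA, hje]) rfl, hφ, hxi i hi, ← hxh j hj (g * hh i) (L.mul_mem (hgL g hg) (hhL i).1)
        (by rwa [← mul_assoc]), S.mul (hgL g hg) (hhL i).1]
      group
  have hci : S.e i0 * c * (S.e i0)⁻¹ = c⁻¹ := by
    have hI0 : S.e i0 = s * S.e i0 * s⁻¹ := by rw [hsi, mul_inv_cancel_right]
    calc S.e i0 * c * (S.e i0)⁻¹
        = s * S.e i0 * s⁻¹ * c * (s * S.e i0 * s⁻¹)⁻¹ := by rw [← hI0]
      _ = s * (S.e i0 * S.e (cy 3 4 m) * (S.e i0)⁻¹) * s⁻¹ := by rw [hc]; group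
      _ = c⁻¹ := by rw [← S.e_conj mem_data.2.2.1 hmL, hmi, S.e_inv hmL, hc]; group
  have hQi : Q i0 := by
    refine ⟨mem_data.2.2.1, fun i => ?_⟩
    rw [hφ]
    rcases eq_or_ne i 0 with rfl | hi
    · rw [show sg mem_data.2.2.1 * A8 (cyc 0) * (sg mem_data.2.2.1)⁻¹ = (A8 (cyc 0))⁻¹ from Subtype.ext (by
        show i0 * ((A8 (cyc 0)) : P8) * i0⁻¹ = ((A8 (cyc 0)) : P8)⁻¹
        rw [hA, step_i.1]), map_inv, hφ, hx0]
      exact S.i0_inv _ S.Z_mem
    · obtain ⟨j, hj, hje, hjs⟩ := step_i.2 i hi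
      have huL : i0 * hh i * i0 ∈ L := L.mul_mem (L.mul_mem mem_data.2.2.1 (hhL i).1) mem_data.2.2.1
      rw [show sg mem_data.2.2.1 * A8 (cyc i) * (sg mem_data.2.2.1)⁻¹ = (A8 (cyc j))⁻¹ from Subtype.ext (by
        show i0 * ((A8 (cyc i)) : P8) * i0⁻¹ = ((A8 (cyc j)) : P8)⁻¹
        rw [hA, hA, hje]), map_inv, hφ, ← hxh j hj _ huL (by simpa [mul_assoc] using hjs), hxi i hi,
        S.mul (L.mul_mem mem_data.2.2.1 (hhL i).1) mem_data.2.2.1, S.mul mem_data.2.2.1 (hhL i).1]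
      calc S.e i0 * (S.e (hh i) * c * (S.e (hh i))⁻¹) * (S.e i0)⁻¹
          = S.e i0 * S.e (hh i) * (S.e i0 * ((S.e i0)⁻¹ * c * S.e i0) * (S.e i0)⁻¹) *
              (S.e i0 * S.e (hh i))⁻¹ := by group
        _ = S.e i0 * S.e (hh i) * (S.e i0 * c⁻¹ * (S.e i0)⁻¹) * (S.e i0 * S.e (hh i))⁻¹ := by
            rw [show (S.e i0)⁻¹ * c * S.e i0 = c⁻¹ by
              have := hci
              rwa [inv_eq_self (S.e_sq mem_data.2.2.1 hI)] at this ⊢]
        _ = _ := by group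
  have hQst : ∀ g ∈ st, Q g := by
    intro g hg
    have hk : ∀ τ ∈ kl 3 4 5 7, τ = 1 ∨ τ ∈ gA := by decide +kernel
    have hQk : ∀ τ ∈ kl 3 4 5 7, Q τ := fun τ hτ => by
      rcases hk τ hτ with rfl | h
      · exact hQ1
      · exact hQA τ h
    have hzp : Q zp := hQA zp (by simp [gA])
    simp only [st, List.mem_append, List.mem_map] at hg
    rcases hg with (h | ⟨τ, hτ, rfl⟩) | ⟨τ, hτ, rfl⟩
    · exact hQk g h
    · exact hQmul (hQk τ hτ) hzp
    · rw [show zp⁻¹ = zp * zp by decide +kernel]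
      exact hQmul (hQk τ hτ) (hQmul hzp hzp)
  have hQL : ∀ {σ : P8}, σ ∈ L → Q σ := by
    intro σ hσ
    obtain ⟨a, ha, h, hh', r, hr, rfl⟩ := decomp hσ
    have hzi : Q z0⁻¹ := by
      rw [show z0⁻¹ = z0 * z0 by decide +kernel]; exact hQmul hQz hQz
    have hQa : Q a := by
      simp only [List.mem_cons, List.not_mem_nil, or_false] at ha
      rcases ha with rfl | rfl | rfl | rfl | rfl | rfl
      exacts [hQ1, hQz, hzi, hQi, hQmul hQi hQz, hQmul hQi hzi]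
    have hQh : Q h := by
      simp only [List.mem_cons, List.not_mem_nil, or_false] at hh'
      rcases hh' with rfl | rfl | rfl | rfl | rfl
      · exact hQ1
      all_goals exact hQA _ (by simp [gA])
    exact hQmul hQa (hQmul hQh (hQst r hr))
  refine ⟨φ, hinj, fun {σ} hσ => ?_⟩
  set u := (φ (sg hσ))⁻¹ * S.e σ with hu
  have hcent : ∀ y, u * φ y * u⁻¹ = φ y := by
    intro y
    have := hQall hσ (hQL hσ) y
    rw [hu, show (φ (sg hσ))⁻¹ * S.e σ * φ y * ((φ (sg hσ))⁻¹ * S.e σ)⁻¹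
      = (φ (sg hσ))⁻¹ * (S.e σ * φ y * (S.e σ)⁻¹) * φ (sg hσ) by group, this, map_mul, map_mul, map_inv]
    group
  obtain ⟨l, hl, hle⟩ := S.range u (by
    have := hcent (A8 (cyc 0))
    rw [hφ, hx0] at this
    rw [this]; exact Subgroup.mem_zpowers _)
  have hl1 : l = 1 := central hl fun i => by
    have h := hcent (A8 (cyc i))
    rw [← hle, hQall hl (hQL hl)] at h
    have := congrArg Subtype.val (hinj h)
    change l * ((A8 (cyc i)) : P8) * l⁻¹ = ((A8 (cyc i)) : P8) at this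
    rw [hA] at this
    exact mul_inv_eq_iff_eq_mul.1 this
  rw [hl1, S.e_one, hu] at hle
  exact inv_mul_eq_one.1 hle.symm

end St

end Cfsg.Agent.Recog.AEight
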