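import Cfsg.Agent.Lib.Recog.AEight.Enum

/-!
Finite facts about the stabiliser `(S₃ × S₅)⁺` of three points inside the alternating group of degree eight.
-/

set_option autoImplicit false
set_option maxRecDepth 100000

namespace Cfsg.Agent.Recog.AEight

open Equiv

/-- A three-cycle. -/
def cy (a b c : Fin 8) : P8 := swap a b * swap b c

/-- A double transposition. -/
def dt (a b c d : Fin 8) : P8 := swap a b * swap c d

/-- The four group on four points. -/
def kl (a b c d : Fin 8) : List P8 := [1, dt a b c d, dt a c b d, dt a d b c]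

def z0 : P8 := cy 0 1 2
def zp : P8 := cy 3 4 5
def i0 : P8 := dt 0 1 3 4
def t0 : P8 := dt 3 4 6 7
def tt : P8 := dt 3 4 5 6
def vv : P8 := dt 3 5 4 6
def w0 : P8 := dt 0 3 1 4 * dt 2 5 6 7

theorem code_data : code z0 = 16434705 ∧ code zp = 16373896 ∧ code zp⁻¹ = 16398984 ∧
    code (z0 * zp) = 16373777 ∧ code tt = 16201864 ∧ code vv = 15854216 := by
  decide +kernel

/-- The stabiliser of the first three points in the alternating group. -/
def L : Subgroup P8 where
  carrier := {σ | Perm.sign σ = 1 ∧ ∀ i : Fin 8, (σ i).val < 3 ↔ i.val < 3}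
  one_mem' := ⟨map_one _, fun _ => Iff.rfl⟩
  mul_mem' := fun {a b} ha hb => ⟨by rw [map_mul, ha.1, hb.1, mul_one],
    fun i => (ha.2 (b i)).trans (hb.2 i)⟩
  inv_mem' := fun {a} ha => ⟨by rw [map_inv, ha.1, inv_one], fun i => by
    have := ha.2 (a⁻¹ i)
    rw [Perm.coe_inv, Equiv.apply_symm_apply] at this
    exact this.symm⟩

theorem mem_L {σ : P8} : σ ∈ L ↔ Perm.sign σ = 1 ∧ ∀ i : Fin 8, (σ i).val < 3 ↔ i.val < 3 := Iff.rfl

instance (σ : P8) : Decidable (σ ∈ L) := decidable_of_iff _ mem_L.symm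

/-- The first three points. -/
def inA (i : ℕ) : Bool := Nat.blt i 3

theorem okL {σ : P8} (h : σ ∈ L) (i j : Fin 8) : okStab inA i.val (σ i).val j.val (σ j).val = true := by
  have h' := (mem_L.1 h).2 i
  rw [okStab, beq_iff_eq, Bool.eq_iff_iff]
  simp only [inA, Nat.blt_eq]
  exact h'.symm

/-- Membership of a packed map in the stabiliser. -/
noncomputable def inLB (f : ℕ) : Bool := evenN f && allL (fun i => Nat.blt (getN f i) 3 == Nat.blt i 3) pts

theorem mem_L_of {σ : P8} (h : inLB (code σ) = true) : σ ∈ L := by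
  simp only [inLB, Bool.and_eq_true, evenN_iff, allL_iff, beq_iff_eq] at h
  refine ⟨h.1, fun i => ?_⟩
  have := h.2 i.val (by fin_cases i <;> simp [pts])
  rw [code_get] at this
  rw [← Nat.blt_eq, this, Nat.blt_eq]

/-- Generators of the stabiliser used as conjugators. -/
def gL : List P8 := [t0, i0, cy 3 4 6, cy 5 6 7]

theorem gL_code : gL.map code = [14596232, 16431233, 15657096, 12535432] ∧
    allL (fun g => inLB g) (gL.map code) = true := by
  decide +kernel

theorem gL_mem : (∀ g ∈ gL, g ∈ L) ∧ gL.map code = [14596232, 16431233, 15657096, 12535432] :=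
  ⟨fun g hg => mem_L_of (allL_iff.1 gL_code.2 _ (List.mem_map_of_mem hg)), gL_code.1⟩

theorem normal_three_chk : allPerm (okStab inA)
    (fun f => !Nat.beq (cmp f (cmp f f)) one8 || !evenN f || Nat.beq f one8 ||
      anyL (fun g => !(Nat.beq (cmp g f) (cmp f g) || Nat.beq (cmp g f) (cmp f (cmp f g))))
        [14596232, 16431233, 15657096, 12535432] ||
      memN ([z0, z0⁻¹].map code) f) = true := by
  decide +kernel

/-- The only normal subgroup of order three is generated by `z0`. -/
theorem normal_three {σ : P8} (hσ : σ ∈ L) (h1 : σ ≠ 1) (h3 : σ * σ * σ = 1)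
    (hn : ∀ g ∈ gL, g * σ * g⁻¹ = σ ∨ g * σ * g⁻¹ = σ * σ) : σ = z0 ∨ σ = z0⁻¹ := by
  have h := of_allPerm normal_three_chk σ (okL hσ)
  rw [← gL_mem.2] at h
  simp only [← code_mul, Bool.or_eq_true, Bool.not_eq_true', Bool.eq_false_iff, ne_eq, beq_one, evenN_iff,
    anyL_iff, List.mem_map, memN_iff] at h
  rcases h with (((h | h) | h) | h) | h
  · exact absurd (by rw [← mul_assoc]; exact h3) h
  · exact absurd hσ.1 h
  · exact absurd h h1
  · obtain ⟨_, ⟨g, hg, rfl⟩, e⟩ := h
    simp only [← code_mul, beq_code] at e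
    refine absurd ?_ e
    rcases hn g hg with e' | e'
    · exact Or.inl (mul_inv_eq_iff_eq_mul.1 e')
    · exact Or.inr ((mul_inv_eq_iff_eq_mul.1 e').trans (mul_assoc _ _ _))
  · simpa using h

theorem centY_chk : allPerm (okAnd (okStab inA) (okComm 16373777))
    (fun f => !Nat.beq (cmp f f) one8 || !evenN f || Nat.beq f one8) = true := by
  decide +kernel

/-- No involution of the stabiliser centralises the product of the two three-cycles. -/
theorem centY {σ : P8} (hσ : σ ∈ L) (hc : z0 * zp * σ = σ * (z0 * zp)) (h2 : σ * σ = 1) : σ = 1 := by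
  have h := of_allPerm centY_chk σ (okAnd_of (okL hσ) (code_data.2.2.2.1 ▸ okComm_of hc))
  simp only [← code_mul, Bool.or_eq_true, Bool.not_eq_true', Bool.eq_false_iff, ne_eq, beq_one, evenN_iff] at h
  rcases h with (h | h) | h
  · exact absurd h2 h
  · exact absurd hσ.1 h
  · exact h

theorem centK_chk : allPerm (okAnd (okStab inA) (okAnd (okComm 16201864) (okComm 15854216)))
    (fun f => !evenN f || (Nat.beq (cmp 16434705 f) (cmp f 16434705) &&
      (memN ((kl 3 4 5 6).map code) f ||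
        (!Nat.beq (cmp f f) one8 && Nat.beq (cmp (cmp f f) (cmp (cmp f f) (cmp f f))) one8)))) = true := by
  decide +kernel

/-- The centraliser of the four group on `3,4,5,6` in the stabiliser. -/
theorem centK {σ : P8} (hσ : σ ∈ L) (h1 : tt * σ = σ * tt) (h2 : vv * σ = σ * vv) :
    z0 * σ = σ * z0 ∧ (σ ∈ kl 3 4 5 6 ∨ (σ * σ ≠ 1 ∧ (σ * σ) * ((σ * σ) * (σ * σ)) = 1)) := by
  have h := of_allPerm centK_chk σ (okAnd_of (okL hσ)
    (okAnd_of (code_data.2.2.2.2.1 ▸ okComm_of h1) (code_data.2.2.2.2.2 ▸ okComm_of h2)))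
  rw [← code_data.1] at h
  simp only [← code_mul, Bool.or_eq_true, Bool.and_eq_true, Bool.not_eq_true', Bool.eq_false_iff, ne_eq,
    beq_one, evenN_iff, beq_code, memN_iff] at h
  exact h.resolve_left (fun h => h hσ.1)

/-- Conjugators for the three-cycles on the last five points. -/
def hB : List P8 := [1, cy 5 6 7, cy 5 7 6, cy 4 6 7, cy 3 6 7, dt 4 6 5 7, cy 4 6 5, cy 4 7 5, cy 3 6 5,
  cy 3 7 5, dt 3 6 4 7, cy 3 6 4, cy 3 7 4, dt 3 6 5 7, cy 3 7 6]

theorem hB_chk : allL (fun g => inLB g && Nat.beq (cmp 16434705 g) (cmp g 16434705)) (hB.map code) = true := by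
  decide +kernel

theorem hB_mem : ∀ h ∈ hB, h ∈ L ∧ z0 * h = h * z0 := fun h hh => by
  have := allL_iff.1 hB_chk _ (List.mem_map_of_mem hh)
  rw [Bool.and_eq_true, ← code_data.1, ← code_mul, ← code_mul, beq_code] at this
  exact ⟨mem_L_of this.1, this.2⟩

theorem hB_code : hB.map (fun h => code (h * zp * h⁻¹)) = [16373896, 15657096, 8059016, 16108680, 15947400, 8309896, 15907976, 10141320, 15907976, 10141320, 12535432, 15682184, 8112776, 13825672, 10213000] := by
  decide +kernel

theorem inverter_chk : allPerm (okStab inA)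
    (fun f => !Nat.beq (cmp f f) one8 || !evenN f || Nat.beq (cmp 16434705 f) (cmp f 16434705) ||
      anyL (fun g => Nat.beq (cmp g f) (cmp f g)) [16373896, 15657096, 8059016, 16108680, 15947400, 8309896, 15907976, 10141320, 15907976, 10141320, 12535432, 15682184, 8112776, 13825672, 10213000]) = true := by
  decide +kernel

/-- An involution inverting `z0` centralises a conjugate of `zp`. -/
theorem inverter {σ : P8} (hσ : σ ∈ L) (h2 : σ * σ = 1) (hn : z0 * σ ≠ σ * z0) :
    ∃ h ∈ hB, h * zp * h⁻¹ * σ = σ * (h * zp * h⁻¹) := by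
  have h := of_allPerm inverter_chk σ (okL hσ)
  rw [← code_data.1, ← hB_code] at h
  simp only [← code_mul, Bool.or_eq_true, Bool.not_eq_true', Bool.eq_false_iff, ne_eq, beq_one, evenN_iff,
    anyL_iff, List.mem_map, beq_code] at h
  rcases h with ((h | h) | h) | ⟨_, ⟨g, hg, rfl⟩, e⟩
  · exact absurd h2 h
  · exact absurd hσ.1 h
  · exact absurd h hn
  · simp only [← code_mul, beq_code] at e
    exact ⟨g, hg, e⟩

/-- Words in an element and its conjugates by `zp`, packed. -/
def wordN (f : ℕ) : List ℕ :=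
  let a := cmp 16373896 (cmp f 16398984)
  let b := cmp 16373896 (cmp a 16398984)
  let w := [f, cmp f a, cmp f b, cmp f (cmp f a), cmp f (cmp a b), cmp f (cmp f b), cmp f (cmp a (cmp f b))]
  w ++ w.map fun g => cmp g g

/-- The same words, as permutations. -/
def wordP (σ : P8) : List P8 :=
  let a := zp * (σ * zp⁻¹)
  let b := zp * (a * zp⁻¹)
  let w := [σ, σ * a, σ * b, σ * (σ * a), σ * (a * b), σ * (σ * b), σ * (a * (σ * b))]
  w ++ w.map fun g => g * g

theorem wordN_eq (σ : P8) : wordN (code σ) = (wordP σ).map code := by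
  simp [wordN, wordP, code_mul, code_data.2.1, code_data.2.2.1]

theorem threeFree_chk : allPerm (okAnd (okStab inA) (okComm 16434705))
    (fun f => !evenN f || memN ((kl 3 4 5 6).map code) f || memN ((kl 3 4 5 7).map code) f ||
      anyL (fun w => !Nat.beq w one8 && Nat.beq (cmp w (cmp w w)) one8) (wordN f)) = true := by
  decide +kernel

/-- A `zp`-invariant subgroup of `C(z0)` without elements of order three lies in one of two four groups. -/
theorem threeFree {σ : P8} (hσ : σ ∈ L) (hc : z0 * σ = σ * z0) (X : Subgroup P8) (hX : σ ∈ X)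
    (hinv : ∀ x ∈ X, zp * x * zp⁻¹ ∈ X) (h3 : ∀ x ∈ X, x * x * x = 1 → x = 1) :
    σ ∈ kl 3 4 5 6 ∨ σ ∈ kl 3 4 5 7 := by
  have h := of_allPerm threeFree_chk σ (okAnd_of (okL hσ) (code_data.1 ▸ okComm_of hc))
  rw [wordN_eq] at h
  simp only [Bool.or_eq_true, Bool.not_eq_true', Bool.eq_false_iff, ne_eq, evenN_iff,
    anyL_iff, List.mem_map, memN_iff, Bool.and_eq_true] at h
  rcases h with ((h | h) | h) | ⟨_, ⟨g, hg, rfl⟩, hne, he⟩
  · exact absurd hσ.1 h
  · exact Or.inl h
  · exact Or.inr h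
  · simp only [← code_mul, beq_one] at hne he
    have ha : zp * (σ * zp⁻¹) ∈ X := by simpa [mul_assoc] using hinv σ hX
    have hb : zp * (zp * (σ * zp⁻¹) * zp⁻¹) ∈ X := by simpa [mul_assoc] using hinv _ ha
    have hw : ∀ g' ∈ [σ, σ * (zp * (σ * zp⁻¹)), σ * (zp * (zp * (σ * zp⁻¹) * zp⁻¹)),
        σ * (σ * (zp * (σ * zp⁻¹))), σ * (zp * (σ * zp⁻¹) * (zp * (zp * (σ * zp⁻¹) * zp⁻¹))),
        σ * (σ * (zp * (zp * (σ * zp⁻¹) * zp⁻¹))),
        σ * (zp * (σ * zp⁻¹) * (σ * (zp * (zp * (σ * zp⁻¹) * zp⁻¹))))], g' ∈ X := by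
      intro g' hg'
      simp only [List.mem_cons, List.not_mem_nil, or_false] at hg'
      rcases hg' with e | e | e | e | e | e | e <;> subst e
      exacts [hX, X.mul_mem hX ha, X.mul_mem hX hb, X.mul_mem hX (X.mul_mem hX ha),
        X.mul_mem hX (X.mul_mem ha hb), X.mul_mem hX (X.mul_mem hX hb),
        X.mul_mem hX (X.mul_mem ha (X.mul_mem hX hb))]
    have hgX : g ∈ X := by
      rcases List.mem_append.1 hg with hg | hg
      · exact hw g hg
      · obtain ⟨g', hg', rfl⟩ := List.mem_map.1 hg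
        exact X.mul_mem (hw g' hg') (hw g' hg')
    exact absurd (h3 g hgX (by rw [mul_assoc]; exact he)) hne

end Cfsg.Agent.Recog.AEight
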