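import Cfsg.Agent.Lib.Recog.AEight.Emb

/-!
The three-local data of the alternating group of degree eight, normalised.
-/

set_option autoImplicit false
set_option maxRecDepth 100000

namespace Cfsg.Agent.Recog.AEight

open Equiv

attribute [local instance 2000] List.decidableBAll List.decidableBEx

variable (G : Type*) [Group G]

/-- Normalised three-local data. -/
structure St extends Emb G where
  range : ∀ g : G, g * toEmb.Z * g⁻¹ ∈ Subgroup.zpowers toEmb.Z → ∃ l ∈ L, toEmb.e l = g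
  three : ∀ Q : Subgroup G, IsPGroup 3 Q → Nat.card Q ≤ 9
  cent_D : ∀ g, g * toEmb.Z = toEmb.Z * g → g * toEmb.Z' = toEmb.Z' * g → g ∈ toEmb.D
  card_y : Nat.card (Subgroup.centralizer ({toEmb.Y} : Set G)) = 18
  normal_y : ∀ g, g * toEmb.Y = toEmb.Y * g → ∀ d ∈ toEmb.D, g * d * g⁻¹ ∈ toEmb.D

variable {G}

/-- The two blocks inside eight points. -/
def rho : Perm (Fin 3) × Perm (Fin 5) →* P8 :=
  (finSumFinEquiv : Fin 3 ⊕ Fin 5 ≃ Fin 8).permCongrHom.toMonoidHom.comp (Perm.sumCongrHom (Fin 3) (Fin 5))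

theorem blk_left (a : Fin 3) : ((finSumFinEquiv : Fin 3 ⊕ Fin 5 ≃ Fin 8) (Sum.inl a)).val = a.val := rfl

theorem blk_right (b : Fin 5) : ((finSumFinEquiv : Fin 3 ⊕ Fin 5 ≃ Fin 8) (Sum.inr b)).val = 3 + b.val := rfl

theorem rho_injective : Function.Injective rho :=
  (finSumFinEquiv : Fin 3 ⊕ Fin 5 ≃ Fin 8).permCongrHom.injective.comp Perm.sumCongrHom_injective

/-- The pairs of equal sign. -/
abbrev Ker : Subgroup (Perm (Fin 3) × Perm (Fin 5)) :=
  (((Equiv.Perm.sign).comp (MonoidHom.fst (Equiv.Perm (Fin 3)) (Equiv.Perm (Fin 5)))) *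
    ((Equiv.Perm.sign).comp (MonoidHom.snd (Equiv.Perm (Fin 3)) (Equiv.Perm (Fin 5))))).ker

theorem sign_rho (p : Perm (Fin 3) × Perm (Fin 5)) : Perm.sign (rho p) = Perm.sign p.1 * Perm.sign p.2 := by
  show Perm.sign ((finSumFinEquiv : Fin 3 ⊕ Fin 5 ≃ Fin 8).permCongr (Perm.sumCongr p.1 p.2)) = _
  rw [Perm.sign_permCongr, Perm.sign_sumCongr]

theorem rho_mem {p : Perm (Fin 3) × Perm (Fin 5)} (hp : p ∈ Ker) : rho p ∈ L := by
  refine mem_L.2 ⟨by rw [sign_rho]; exact hp, fun i => ?_⟩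
  obtain ⟨s, rfl⟩ := (finSumFinEquiv : Fin 3 ⊕ Fin 5 ≃ Fin 8).surjective i
  show ((finSumFinEquiv : Fin 3 ⊕ Fin 5 ≃ Fin 8).permCongr (Perm.sumCongr p.1 p.2) (finSumFinEquiv s)).val < 3 ↔ _
  rw [Equiv.permCongr_apply, Equiv.symm_apply_apply]
  rcases s with a | b
  · exact iff_of_true (by simp only [Equiv.sumCongr_apply, Sum.map_inl, blk_left]; exact (p.1 a).isLt)
      (by rw [blk_left]; exact a.isLt)
  · exact iff_of_false (by simp only [Equiv.sumCongr_apply, Sum.map_inr, blk_right]; omega)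
      (by rw [blk_right]; omega)

theorem exists_rho {σ : P8} (hσ : σ ∈ L) : ∃ p : Ker, rho p.1 = σ := by
  let f : Fin 3 ⊕ Fin 5 ≃ Fin 8 := finSumFinEquiv
  have h : f.symm.permCongr σ ∈ (Perm.sumCongrHom (Fin 3) (Fin 5)).range := by
    refine Perm.mem_sumCongrHom_range_of_perm_mapsTo_inl ?_
    rintro _ ⟨a, rfl⟩
    have hlt : (σ (f (Sum.inl a))).val < 3 :=
      ((mem_L.1 hσ).2 _).2 (lt_of_eq_of_lt (blk_left a) a.isLt)
    refine ⟨⟨_, hlt⟩, ?_⟩
    apply f.injective
    rw [Equiv.permCongr_apply, Equiv.symm_symm, Equiv.apply_symm_apply]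
    exact Fin.ext (blk_left _)
  obtain ⟨p, hp⟩ := h
  have hρ : rho p = σ := by
    show f.permCongr (Perm.sumCongrHom (Fin 3) (Fin 5) p) = σ
    rw [hp]
    ext x
    simp
  refine ⟨⟨p, ?_⟩, hρ⟩
  show Perm.sign p.1 * Perm.sign p.2 = 1
  rw [← sign_rho, hρ]
  exact (mem_L.1 hσ).1

/-- The two blocks give the stabiliser. -/
noncomputable def kerEquiv : Ker ≃* L :=
  MulEquiv.ofBijective ((rho.comp Ker.subtype).codRestrict L fun p => rho_mem p.2)
    ⟨fun p q h => Subtype.ext (rho_injective (congrArg Subtype.val h)),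
      fun σ => (exists_rho σ.2).imp fun _ hp => Subtype.ext hp⟩

/-- The packed elements of the group of order nine. -/
noncomputable def ddCodes : List ℕ :=
  [code (dd 0 0), code (dd 0 1), code (dd 0 2), code (dd 1 0), code (dd 1 1), code (dd 1 2), code (dd 2 0),
    code (dd 2 1), code (dd 2 2)]

theorem mem_ddCodes {σ : P8} : memN ddCodes (code σ) = true ↔ ∃ a b, σ = dd a b := by
  have : ddCodes = ([dd 0 0, dd 0 1, dd 0 2, dd 1 0, dd 1 1, dd 1 2, dd 2 0, dd 2 1, dd 2 2] : List P8).map code :=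
    rfl
  rw [this, memN_iff]
  refine ⟨fun h => ?_, ?_⟩
  · simp only [List.mem_cons, List.not_mem_nil, or_false] at h
    rcases h with h | h | h | h | h | h | h | h | h <;> exact ⟨_, _, h⟩
  · rintro ⟨a, b, rfl⟩
    fin_cases a <;> fin_cases b <;> simp

theorem ddCodes_eq : ddCodes = [16434824, 16373896, 16398984, 16434705, 16373777, 16398865, 16434754, 16373826,
    16398914] := by
  decide +kernel

theorem norm_D_sq_chk : allPerm (okStab inA)
    (fun f => !evenN f || !anyL (fun d => Nat.beq (cmp f 16373896) (cmp d f)) [16434824, 16373896, 16398984,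
        16434705, 16373777, 16398865, 16434754, 16373826, 16398914] ||
      memN [16434824, 16373896, 16398984, 16434705, 16373777, 16398865, 16434754, 16373826, 16398914]
        (cmp f f)) = true := by
  decide +kernel

theorem norm_D_sq {σ : P8} (hσ : σ ∈ L) {a b : Fin 3} (h : σ * zp * σ⁻¹ = dd a b) :
    ∃ c d, σ * σ = dd c d := by
  have hc := of_allPerm norm_D_sq_chk σ (okL hσ)
  rw [← ddCodes_eq, ← code_data.2.1] at hc
  simp only [← code_mul, Bool.or_eq_true, Bool.not_eq_true', Bool.eq_false_iff, ne_eq, evenN_iff, anyL_iff] at hc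
  rcases hc with (hc | hc) | hc
  · exact absurd hσ.1 hc
  · refine absurd ⟨code (dd a b), ?_, ?_⟩ hc
    · fin_cases a <;> fin_cases b <;> simp [ddCodes]
    · rw [← code_mul, beq_code]
      exact mul_inv_eq_iff_eq_mul.1 h
  · exact mem_ddCodes.1 hc

namespace Emb

variable (E : Emb G)

/-- Conjugates of the embedding. -/
def conjBy (g : G) : Emb G where
  e σ := g⁻¹ * E.e σ * g
  mul {a b} ha hb := by rw [E.mul ha hb]; group
  inj {a} ha h := E.inj ha (by
    have := congrArg (fun x => g * x * g⁻¹) h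
    simpa [mul_assoc] using this)

end Emb

/-- A subgroup of order nine in a group with Sylow order nine is the image of another one under conjugation
inside any subgroup containing both. -/
theorem conj_of_nine [Finite G] (P : Sylow 3 G) (hP : Nat.card P = 9) {A B N : Subgroup G} (hA : Nat.card A = 9)
    (hB : Nat.card B = 9) (hAN : A ≤ N) (hBN : B ≤ N) : ∃ g ∈ N, ∀ a, a ∈ A ↔ g * a * g⁻¹ ∈ B := by
  haveI : Fact (Nat.Prime 3) := ⟨Nat.prime_three⟩
  have key : ∀ A : Subgroup G, Nat.card A = 9 → A ≤ N → ∃ Q : Sylow 3 N, (Q : Subgroup N) = A.subgroupOf N := by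
    intro A hA hAN
    obtain ⟨Q, hQ⟩ := (IsPGroup.of_card (n := 2) (by rw [hA]; rfl) : IsPGroup 3 A).exists_le_sylow
    have hQc : Nat.card Q = 9 := by rw [Nat.card_congr (Sylow.equiv Q P).toEquiv, hP]
    have hQA : A = (Q : Subgroup G) := Subgroup.eq_of_le_of_card_ge hQ (by rw [hA]; exact hQc.le)
    exact ⟨Q.subtype (hQA ▸ hAN), by rw [Sylow.coe_subtype, hQA]⟩
  obtain ⟨Q1, hQ1⟩ := key A hA hAN
  obtain ⟨Q2, hQ2⟩ := key B hB hBN
  obtain ⟨n, hn⟩ := MulAction.exists_smul_eq N Q1 Q2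
  refine ⟨n, n.2, fun a => ?_⟩
  constructor
  · intro ha
    have : n * ⟨a, hAN ha⟩ * n⁻¹ ∈ (Q2 : Subgroup N) := by
      rw [← hn, Sylow.coe_subgroup_smul]
      exact Subgroup.mem_map.2 ⟨⟨a, hAN ha⟩, by rw [hQ1]; exact ha, rfl⟩
    rwa [hQ2] at this
  · intro ha
    have haN : a ∈ N := by
      have := N.mul_mem (N.mul_mem (N.inv_mem n.2) (hBN ha)) n.2
      simpa [mul_assoc] using this
    have : n * ⟨a, haN⟩ * n⁻¹ ∈ (Q2 : Subgroup N) := by rw [hQ2]; exact ha
    rw [← hn, Sylow.coe_subgroup_smul] at this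
    obtain ⟨b, hb, hbe⟩ := Subgroup.mem_map.1 this
    have : b = ⟨a, haN⟩ := (MulAut.conj n).injective hbe
    rw [this, hQ1] at hb
    exact hb

/-- The six elements off the two fixed lines. -/
theorem dd_six : ∀ a b : Fin 3, (a ≠ 0 ∧ b ≠ 0) →
    (∀ c d : Fin 3, c ≠ 0 → d ≠ 0 → ∃ u ∈ [1, i0, t0, i0 * t0], u * dd a b * u⁻¹ = dd c d) := by
  decide +kernel

theorem dd_z0 : ∀ a : Fin 3, a ≠ 0 → ∃ u ∈ [1, i0], u * z0 * u⁻¹ = dd a 0 := by decide +kernel

theorem us_mem : ∀ u ∈ [1, i0, t0, i0 * t0], u ∈ L := by decide +kernel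

set_option maxHeartbeats 2000000 in
/-- The normalised data. -/
theorem exists_St [Finite G] (P : Sylow 3 G) (D : Subgroup G) (hDP : D = P) (y z : G)
    (hgen : Subgroup.closure {y, z} = D) (hcard : Nat.card D = 9) (hexp : ∀ a ∈ D, a ^ 3 = 1)
    (hC : Subgroup.centralizer (D : Set G) = D)
    (eN : Subgroup.normalizer (D : Set G) ⧸ D.subgroupOf (Subgroup.normalizer (D : Set G)) ≃* DihedralGroup 4)
    (hyn : (D.subgroupOf (Subgroup.centralizer ({y} : Set G))).Normal)
    (hycard : Nat.card (Subgroup.centralizer ({y} : Set G)) = 18)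
    (eL : Subgroup.normalizer (Subgroup.zpowers z : Set G) ≃* Ker) :
    Nonempty (St G) := by
  haveI : Fact (Nat.Prime 3) := ⟨Nat.prime_three⟩
  set N := Subgroup.normalizer (Subgroup.zpowers z : Set G) with hN
  let q : L ≃* N := kerEquiv.symm.trans eL.symm
  classical
  let E0 : Emb G :=
    { e := fun σ => if h : σ ∈ L then (q ⟨σ, h⟩ : G) else 1
      mul := fun {a b} ha hb => by
        rw [dif_pos ha, dif_pos hb, dif_pos (L.mul_mem ha hb), ← Subgroup.coe_mul, ← map_mul]
        rfl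
      inj := fun {a} ha h => by
        rw [dif_pos ha, OneMemClass.coe_eq_one, MulEquiv.map_eq_one_iff] at h
        exact congrArg Subtype.val h }
  have he : ∀ {σ} (h : σ ∈ L), E0.e σ = (q ⟨σ, h⟩ : G) := fun h => dif_pos h
  have heN : ∀ g ∈ N, ∃ σ ∈ L, E0.e σ = g := fun g hg =>
    ⟨(q.symm ⟨g, hg⟩ : P8), (q.symm ⟨g, hg⟩).2, by rw [he (q.symm ⟨g, hg⟩).2, Subtype.coe_eta, q.apply_symm_apply]⟩
  have hsylow : Nat.card P = 9 := by rw [← hcard, hDP]
  have hyD : y ∈ D := hgen ▸ Subgroup.subset_closure (Set.mem_insert _ _)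
  have hzD : z ∈ D := hgen ▸ Subgroup.subset_closure (Set.mem_insert_of_mem _ rfl)
  have hDcomm : ∀ a ∈ D, ∀ b ∈ D, a * b = b * a := fun a ha b hb => by
    rw [← hC] at hb
    exact Subgroup.mem_centralizer_iff.1 hb a ha
  have hz1 : z ≠ 1 := by
    rintro rfl
    have hle : D ≤ Subgroup.zpowers y := by
      rw [← hgen, Subgroup.closure_le]
      rintro x (rfl | rfl)
      · exact Subgroup.mem_zpowers _
      · exact Subgroup.one_mem _
    have h1 := Subgroup.card_le_of_le hle
    rw [hcard, Nat.card_zpowers] at h1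
    have := Nat.le_of_dvd (by norm_num) (orderOf_dvd_of_pow_eq_one (hexp y hyD))
    omega
  have hz3 : z * z * z = 1 := by rw [← hexp z hzD, pow_succ, sq]
  have hgenz : ∀ x ∈ Subgroup.zpowers z, x ≠ 1 → Subgroup.zpowers x = Subgroup.zpowers z := by
    intro x hx hx1
    refine le_antisymm (Subgroup.zpowers_le.2 hx) (Subgroup.zpowers_le.2 ?_)
    rcases mem_zpowers_three hz3 hx with rfl | rfl | rfl
    · exact absurd rfl hx1
    · exact Subgroup.mem_zpowers _
    · exact Subgroup.mem_zpowers_iff.2 ⟨2, by rw [zpow_two, ← mul_assoc, hz3, one_mul]⟩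
  have hnorm : ∀ g, g * z * g⁻¹ ∈ Subgroup.zpowers z → g ∈ N := by
    intro g hg
    have hne : g * z * g⁻¹ ≠ 1 := fun h => hz1 (conj_eq_one_iff.1 h)
    rw [hN, Subgroup.mem_normalizer_iff]
    intro h
    conv_rhs => rw [← hgenz _ hg hne]
    rw [Subgroup.mem_zpowers_iff, Subgroup.mem_zpowers_iff]
    simp only [← MulAut.conj_apply, ← map_zpow, (MulAut.conj g).injective.eq_iff]
  have hDN : D ≤ N := fun d hd => hnorm d (by
    rw [hDcomm d hd z hzD, mul_inv_cancel_right]; exact Subgroup.mem_zpowers z)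
  obtain ⟨σz, hσz, hσze⟩ := heN z (hDN hzD)
  have hσ3 : σz * σz * σz = 1 := E0.inj (L.mul_mem (L.mul_mem hσz hσz) hσz) (by
    rw [E0.mul (L.mul_mem hσz hσz) hσz, E0.mul hσz hσz, hσze, hz3])
  have hσ1 : σz ≠ 1 := fun h => hz1 (by rw [← hσze, h, E0.e_one])
  have hZ0 : E0.Z ∈ Subgroup.zpowers z := by
    rcases normal_three hσz hσ1 hσ3 (fun g hg => by
      have hgL := gL_mem.1 g hg
      have hgN : E0.e g ∈ N := by rw [he hgL]; exact SetLike.coe_mem _
      rw [hN, Subgroup.mem_normalizer_iff] at hgN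
      have hmem := (hgN z).1 (Subgroup.mem_zpowers z)
      rw [← hσze, ← E0.e_conj hgL hσz, hσze] at hmem
      have hcL := L.mul_mem (L.mul_mem hgL hσz) (L.inv_mem hgL)
      rcases mem_zpowers_three hz3 hmem with h | h | h
      · exact absurd (conj_eq_one_iff.1 (E0.inj hcL h)) hσ1
      · exact Or.inl ((E0.eq_iff hcL hσz).1 (h.trans hσze.symm))
      · refine Or.inr ((E0.eq_iff hcL (L.mul_mem hσz hσz)).1 ?_)
        rw [h, E0.mul hσz hσz, hσze]) with h | h
    · rw [Emb.Z, ← h, hσze]; exact Subgroup.mem_zpowers z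
    · rw [Emb.Z, ← inv_inv z0, ← h, E0.e_inv hσz, hσze]; exact inv_mem (Subgroup.mem_zpowers z)
  have hD0N : E0.D ≤ N := by
    rintro _ ⟨a, b, rfl⟩
    rw [he (dd_mem a b)]
    exact SetLike.coe_mem _
  obtain ⟨g, hgN, hg⟩ := conj_of_nine P hsylow hcard E0.card_D hDN hD0N
  let E := E0.conjBy g
  have heq : ∀ σ, E.e σ = g⁻¹ * E0.e σ * g := fun σ => rfl
  have hD : ∀ d, d ∈ E.D ↔ d ∈ D := by
    intro d
    rw [hg d]
    constructor
    · rintro ⟨a, b, rfl⟩
      exact ⟨a, b, by rw [heq]; group⟩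
    · rintro ⟨a, b, h⟩
      exact ⟨a, b, by rw [heq, ← h]; group⟩
  have hEZ : Subgroup.zpowers E.Z = Subgroup.zpowers z := by
    refine hgenz _ ?_ (E.ne_one mem_data.1 (by decide +kernel))
    have h := hgN
    rw [hN, Subgroup.mem_normalizer_iff] at h
    rw [h, show E.Z = g⁻¹ * E0.Z * g from rfl]
    simpa [mul_assoc] using hZ0
  have hrange : ∀ a, a * E.Z * a⁻¹ ∈ Subgroup.zpowers E.Z → ∃ l ∈ L, E.e l = a := by
    intro a ha
    rw [hEZ] at ha
    have haN : a ∈ N := by
      have hzE : z ∈ Subgroup.zpowers E.Z := hEZ ▸ Subgroup.mem_zpowers z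
      obtain ⟨i, hi⟩ := Subgroup.mem_zpowers_iff.1 hzE
      refine hnorm a ?_
      rw [show a * z * a⁻¹ = (a * E.Z * a⁻¹) ^ i by rw [conj_zpow, hi]]
      exact zpow_mem ha i
    obtain ⟨σ, hσ, hσe⟩ := heN (g * a * g⁻¹) (N.mul_mem (N.mul_mem hgN haN) (N.inv_mem hgN))
    exact ⟨σ, hσ, by rw [heq, hσe]; group⟩
  have hYc : Nat.card (Subgroup.centralizer ({E.Y} : Set G)) = 18 ∧
      ∀ h, h * E.Y = E.Y * h → ∀ d ∈ E.D, h * d * h⁻¹ ∈ E.D := by
    set ND := Subgroup.normalizer (D : Set G) with hND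
    have hu : ∀ u ∈ [1, i0, t0, i0 * t0], ∀ d ∈ D, E.e u * d * (E.e u)⁻¹ ∈ D := by
      intro u hu d hd
      obtain ⟨a, b, rfl⟩ := (hD d).2 hd
      obtain ⟨c, e, he'⟩ := dd_table.2.2.2.1 a b u hu
      exact (hD _).1 ⟨c, e, by rw [← E.e_conj (us_mem u hu) (dd_mem a b), he']⟩
    obtain ⟨a, b, hy⟩ := (hD y).2 hyD
    have hab : a ≠ 0 ∧ b ≠ 0 := by
      have hb : b ≠ 0 := by
        rintro rfl
        have hyz : y ∈ Subgroup.zpowers z := by
          rw [← hEZ, hy, dd, Fin.val_zero, pow_zero, mul_one, E.e_pow mem_data.1]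
          exact Subgroup.npow_mem_zpowers _ _
        have hle : D ≤ Subgroup.zpowers z := by
          rw [← hgen, Subgroup.closure_le]
          rintro x (rfl | rfl)
          · exact hyz
          · exact Subgroup.mem_zpowers _
        have h1 := Subgroup.card_le_of_le hle
        rw [hcard, Nat.card_zpowers, order_three hz3 hz1] at h1
        omega
      refine ⟨?_, hb⟩
      rintro rfl
      have hzp : ∀ c : Fin 3, c ≠ 0 → Nat.card (Subgroup.centralizer ({E.e (dd 0 c)} : Set G)) = 18 := by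
        intro c hc
        obtain rfl | hne := eq_or_ne c b
        · rw [← hy]; exact hycard
        · have h : ∀ b c : Fin 3, b ≠ 0 → c ≠ 0 → c ≠ b → i0 * dd 0 b * i0⁻¹ = dd 0 c := by decide +kernel
          rw [← h b c hb hc hne, E.e_conj mem_data.2.2.1 (dd_mem 0 b), card_cent_conj, ← hy]
          exact hycard
      obtain ⟨n, hn, hnN⟩ : ∃ n ∈ ND, n ∉ N := by
        by_contra hall
        push Not at hall
        have hsq : ∀ n ∈ ND, n * n ∈ D := by
          intro n hn
          obtain ⟨σ, hσ, rfl⟩ := hrange n (by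
            have := hall n hn
            rw [hN, Subgroup.mem_normalizer_iff] at this
            rw [hEZ]
            exact (this _).1 (hEZ ▸ Subgroup.mem_zpowers E.Z))
          rw [hND, Subgroup.mem_normalizer_iff] at hn
          obtain ⟨c, d, hcd⟩ := (hD _).2 ((hn E.Z').1 ((hD _).1 E.Z'_mem))
          rw [Emb.Z', ← E.e_conj hσ mem_data.2.1,
            E.eq_iff (L.mul_mem (L.mul_mem hσ mem_data.2.1) (L.inv_mem hσ)) (dd_mem c d)] at hcd
          obtain ⟨c', d', hsq⟩ := norm_D_sq hσ hcd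
          exact (hD _).1 ⟨c', d', by rw [← E.mul hσ hσ, hsq]⟩
        have : ∀ x : DihedralGroup 4, x * x = 1 := by
          intro x
          obtain ⟨n, hn⟩ := QuotientGroup.mk_surjective (eN.symm x)
          rw [← eN.apply_symm_apply x, ← map_mul, ← hn, ← QuotientGroup.mk_mul, eN.map_eq_one_iff,
            QuotientGroup.eq_one_iff, Subgroup.mem_subgroupOf]
          exact hsq n n.2
        exact absurd (this (DihedralGroup.r 1)) (by decide)
      letI : MulAction ND G := MulAction.compHom G ((MulAut.conj : G →* MulAut G).comp ND.subtype)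
      have hsmul : ∀ (m : ND) (x : G), m • x = (m : G) * x * (m : G)⁻¹ := fun m x => rfl
      have horb : MulAction.orbit ND E.Z =
          (fun p : Fin 3 × Fin 3 => E.e (dd p.1 p.2)) '' {p | p.1 ≠ 0} := by
        ext x
        constructor
        · rintro ⟨m, rfl⟩
          change m • E.Z ∈ _
          rw [hsmul]
          have hm : ∀ h, h ∈ D ↔ (m : G) * h * (m : G)⁻¹ ∈ D := Subgroup.mem_normalizer_iff.1 m.2
          obtain ⟨c, d, hcd⟩ := (hD _).2 ((hm E.Z).1 ((hD _).1 E.Z_mem))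
          refine ⟨(c, d), ?_, hcd.symm⟩
          rintro (rfl : c = 0)
          have hd : d ≠ 0 := by
            rintro rfl
            rw [dd_table.2.2.2.2.2.2.2, E.e_one, conj_eq_one_iff] at hcd
            exact E.ne_one mem_data.1 (by decide +kernel) hcd
          have h4 := E.four_dvd_cent_Z
          rw [← card_cent_conj (m : G), hcd, hzp d hd] at h4
          norm_num at h4
        · rintro ⟨⟨c, d⟩, hc, rfl⟩
          have hmem : ∀ u ∈ [1, i0, t0, i0 * t0], E.e u ∈ ND := by
            intro u hu'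
            rw [hND]
            exact Subgroup.mem_normalizer_fintype (hu u hu')
          rcases eq_or_ne d 0 with rfl | hd
          · obtain ⟨u, hu', he'⟩ := dd_z0 c hc
            refine ⟨⟨E.e u, hmem u (by simp only [List.mem_cons, List.not_mem_nil, or_false] at hu' ⊢; tauto)⟩, ?_⟩
            change E.e u * E.Z * (E.e u)⁻¹ = E.e (dd c 0)
            rw [← he', E.e_conj (us_mem u (by simp only [List.mem_cons, List.not_mem_nil, or_false] at hu' ⊢; tauto))
              mem_data.1]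
            rfl
          · have hm := hn
            rw [hND, Subgroup.mem_normalizer_iff] at hm
            obtain ⟨a', b', hab'⟩ := (hD _).2 ((hm E.Z).1 ((hD _).1 E.Z_mem))
            have hb' : b' ≠ 0 := by
              rintro rfl
              refine hnN (hnorm n ?_)
              obtain ⟨i, hi⟩ := Subgroup.mem_zpowers_iff.1 (hEZ ▸ Subgroup.mem_zpowers z : z ∈ Subgroup.zpowers E.Z)
              rw [show n * z * n⁻¹ = (n * E.Z * n⁻¹) ^ i by rw [conj_zpow, hi]]
              refine zpow_mem ?_ i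
              rw [hab', dd, Fin.val_zero, pow_zero, mul_one, E.e_pow mem_data.1, ← hEZ]
              exact Subgroup.npow_mem_zpowers _ _
            have ha' : a' ≠ 0 := by
              rintro rfl
              have h4 := E.four_dvd_cent_Z
              rw [← card_cent_conj n, hab', hzp b' hb'] at h4
              norm_num at h4
            obtain ⟨u, hu', he'⟩ := dd_six a' b' ⟨ha', hb'⟩ c d hc hd
            refine ⟨⟨E.e u * n, ND.mul_mem (hmem u hu') hn⟩, ?_⟩
            change E.e u * n * E.Z * (E.e u * n)⁻¹ = E.e (dd c d)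
            rw [← he', E.e_conj (us_mem u hu') (dd_mem a' b'), ← hab']
            group
      have hcard6 : (MulAction.orbit ND E.Z).ncard = 6 := by
        rw [horb, Set.ncard_image_of_injective _ (fun p q h => by
          obtain ⟨h1, h2⟩ := dd_table.2.1 _ _ _ _ ((E.eq_iff (dd_mem _ _) (dd_mem _ _)).1 h)
          exact Prod.ext h1 h2)]
        rw [Set.ncard_eq_toFinset_card']
        decide
      have hle : D.subgroupOf ND ≤ MulAction.stabilizer ND E.Z := by
        intro m hm
        rw [MulAction.mem_stabilizer_iff, hsmul]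
        change (m : G) * E.Z * (m : G)⁻¹ = E.Z
        rw [E.D_comm ((hD (m : G)).2 hm) E.Z_mem, mul_inv_cancel_right]
      have h8 := Subgroup.index_dvd_of_le hle
      rw [MulAction.index_stabilizer, hcard6, Subgroup.index_eq_card, Nat.card_congr eN.toEquiv,
        DihedralGroup.nat_card] at h8
      norm_num at h8
    obtain ⟨u, hu', he'⟩ := dd_table.2.2.1 a b hab.1 hab.2
    have huL := us_mem u hu'
    have hyY : y = E.e u * E.Y * (E.e u)⁻¹ := by
      rw [hy, ← he', E.e_conj huL (dd_mem 1 1), dd_table.2.2.2.2.2.2.1]; rfl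
    refine ⟨by rw [← hycard, hyY, card_cent_conj], fun h hh d hd => ?_⟩
    have hc : E.e u * h * (E.e u)⁻¹ ∈ Subgroup.centralizer ({y} : Set G) := by
      rw [Subgroup.mem_centralizer_singleton_iff, hyY]
      exact conj_comm (E.e u) hh
    have hdD := hu u hu' d ((hD d).1 hd)
    have hDc : D ≤ Subgroup.centralizer ({y} : Set G) := fun x hx =>
      Subgroup.mem_centralizer_singleton_iff.2 (hDcomm x hx y hyD)
    have := hyn.conj_mem ⟨_, hDc hdD⟩ hdD ⟨_, hc⟩
    rw [Subgroup.mem_subgroupOf] at this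
    have h2 : E.e u * (h * d * h⁻¹) * (E.e u)⁻¹ ∈ D := by
      convert this using 1
      simp only [Subgroup.coe_mul, Subgroup.coe_inv]
      group
    have huinv : ∀ v ∈ [1, i0, t0, i0 * t0], v⁻¹ ∈ [1, i0, t0, i0 * t0] := by decide +kernel
    have h3 := hu u⁻¹ (huinv u hu') _ h2
    rw [E.e_inv huL] at h3
    refine (hD _).2 ?_
    simpa [mul_assoc] using h3
  refine ⟨{ toEmb := E, range := hrange, three := ?_, cent_D := ?_, card_y := hYc.1, normal_y := hYc.2 }⟩
  · intro Q hQ
    obtain ⟨Q', hQ'⟩ := hQ.exists_le_sylow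
    exact (Subgroup.card_le_of_le hQ').trans ((Nat.card_congr (Sylow.equiv Q' P).toEquiv).trans hsylow).le
  · intro a h1 h2
    rw [hD, ← hC, Subgroup.mem_centralizer_iff]
    intro d hd
    exact Subgroup.mem_centralizer_iff.1 (E.cent_gen h1 h2) d ((hD d).2 hd)

end Cfsg.Agent.Recog.AEight
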