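import Cfsg.Agent.Lib.Recog.AEight.Setup

/-!
The involution interchanging the two lines, and the two kinds of involutions.
-/

set_option autoImplicit false
set_option maxRecDepth 100000

namespace Cfsg.Agent.Recog.AEight

open Equiv

attribute [local instance 2000] List.decidableBAll List.decidableBEx

variable {G : Type*} [Group G]

theorem data_s : i0 * i0 = 1 ∧ t0 * t0 = 1 ∧ i0 * t0 = t0 * i0 ∧ i0 ≠ 1 ∧ t0 ≠ 1 ∧ i0 ≠ t0 ∧
    i0 * t0 * z0 * (i0 * t0)⁻¹ = z0⁻¹ ∧ i0 * t0 * zp * (i0 * t0)⁻¹ = zp ∧ t0 * zp * t0⁻¹ = zp⁻¹ ∧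
    t0 * z0 = z0 * t0 ∧ z0 ≠ zp ∧ z0 ≠ zp⁻¹ ∧ z0 ≠ 1 ∧ zp ≠ 1 ∧ z0 * zp = zp * z0 ∧
    i0 * z0 ≠ z0 * i0 ∧ z0 * (z0 * zp) = z0 * zp * z0 := by
  decide +kernel

theorem dd_small : ∀ a : Fin 3, a ≠ 0 → dd a 0 = z0 ∨ dd a 0 = z0⁻¹ := by decide +kernel

theorem dd_small' : ∀ a : Fin 3, a ≠ 0 → dd 0 a = zp ∨ dd 0 a = zp⁻¹ := by decide +kernel

/-- An involution centralising a conjugate of `(012)`. -/
def ZT (S : Emb G) (u : G) : Prop := ∃ g : G, g * u * g⁻¹ * S.Z = S.Z * (g * u * g⁻¹)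

/-- An involution centralising a conjugate of `(012)(345)`. -/
def YT (S : Emb G) (u : G) : Prop := ∃ g : G, g * u * g⁻¹ * S.Y = S.Y * (g * u * g⁻¹)

namespace St

variable [Finite G] (S : St G)

theorem eq_one_of_cent {u : G} (h : ∀ d ∈ S.D, u * d = d * u) (hu : u * u = 1) : u = 1 := by
  have hd := S.D_cube (S.cent_D u (h _ S.Z_mem) (h _ S.Z'_mem))
  rwa [hu, one_mul] at hd

theorem conj_z_ne (g : G) (a b : Fin 3) (ha : a ≠ 0) (hb : b ≠ 0) : g * S.Z * g⁻¹ ≠ S.e (dd a b) := by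
  intro h
  obtain ⟨u, hu, he⟩ := dd_table.2.2.1 a b ha hb
  have h4 := S.four_dvd_cent_Z
  rw [← card_cent_conj g, h, ← he, S.e_conj (us_mem u hu) (dd_mem 1 1), card_cent_conj, dd_table.2.2.2.2.2.2.1] at h4
  change 4 ∣ Nat.card (Subgroup.centralizer ({S.Y} : Set G)) at h4
  rw [S.card_y] at h4
  norm_num at h4

/-- An involution interchanging the two three-cycles. -/
theorem exists_s : ∃ s : G, s * s = 1 ∧ s ≠ 1 ∧ s * S.Z * s⁻¹ = S.Z' ∧ s * S.Z' * s⁻¹ = S.Z ∧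
    s * S.Y = S.Y * s ∧ s * S.e i0 = S.e i0 * s ∧ s * S.e t0 * s⁻¹ = S.e (i0 * t0) := by
  haveI : Fact (Nat.Prime 2) := ⟨Nat.prime_two⟩
  obtain ⟨⟨s₀, hs₀⟩, hord⟩ := exists_prime_orderOf_dvd_card'
    (G := Subgroup.centralizer ({S.Y} : Set G)) 2 (by rw [S.card_y]; norm_num)
  rw [Subgroup.orderOf_mk] at hord
  rw [Subgroup.mem_centralizer_singleton_iff] at hs₀
  have hsq : s₀ * s₀ = 1 := by rw [← sq, ← hord, pow_orderOf_eq_one]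
  have hne : s₀ ≠ 1 := by rintro rfl; simp at hord
  have hnD := S.normal_y s₀ hs₀
  have hfix : s₀ * S.Y * s₀⁻¹ = S.Y := by rw [hs₀, mul_inv_cancel_right]
  obtain ⟨a, b, hab⟩ := hnD _ S.Z_mem
  have hZ' : s₀ * S.Z' * s₀⁻¹ = (s₀ * S.Z * s₀⁻¹)⁻¹ * S.Y := by
    rw [← hfix, S.Y_eq]; group
  have hflip : ∀ x, s₀ * (s₀ * x * s₀⁻¹) * s₀⁻¹ = x := fun x => by
    rw [inv_eq_self hsq, ← mul_assoc, ← mul_assoc, hsq, one_mul, mul_assoc, hsq, mul_one]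
  have hswap : s₀ * S.Z * s₀⁻¹ = S.Z' := by
    have ha : a = 0 := by
      by_contra ha
      have hb : b = 0 := by
        by_contra hb
        exact conj_z_ne S s₀ a b ha hb hab
      subst hb
      obtain ⟨l, hl, hle⟩ := S.range s₀ (by
        rw [hab, dd, Fin.val_zero, pow_zero, mul_one, S.e_pow mem_data.1]
        exact Subgroup.npow_mem_zpowers _ _)
      refine hne ?_
      rw [← hle] at hsq hs₀ ⊢
      rw [centY hl ((S.comm_iff hl (L.mul_mem mem_data.1 mem_data.2.1)).1 hs₀).symm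
        (S.inj (L.mul_mem hl hl) (by rw [S.mul hl hl, hsq])), S.e_one]
    subst ha
    have hb : b ≠ 0 := by
      rintro rfl
      rw [dd_table.2.2.2.2.2.2.2, S.e_one, conj_eq_one_iff] at hab
      exact S.ne_one mem_data.1 data_s.2.2.2.2.2.2.2.2.2.2.2.2.1 hab
    rcases dd_small' b hb with h | h
    · rw [hab, h]; rfl
    · exfalso
      have h1 : s₀ * S.Z * s₀⁻¹ = S.Z'⁻¹ := by rw [hab, h, S.e_inv mem_data.2.1]; rfl
      have h2 : s₀ * S.Z' * s₀⁻¹ = S.Z' * S.Y := by rw [hZ', h1, inv_inv]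
      have h3 : S.Z = (s₀ * S.Z' * s₀⁻¹)⁻¹ := by
        conv_lhs => rw [← hflip S.Z, h1]
        group
      rw [h2, S.Y_eq, Emb.Z, Emb.Z', ← S.mul mem_data.1 mem_data.2.1,
        ← S.mul mem_data.2.1 (L.mul_mem mem_data.1 mem_data.2.1),
        ← S.e_inv (L.mul_mem mem_data.2.1 (L.mul_mem mem_data.1 mem_data.2.1)),
        S.eq_iff mem_data.1 (L.inv_mem (L.mul_mem mem_data.2.1 (L.mul_mem mem_data.1 mem_data.2.1)))] at h3
      exact absurd h3 (by decide +kernel)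
  obtain ⟨d, hd, hdi⟩ : ∃ d ∈ S.D, s₀ * S.e i0 * s₀⁻¹ = d * S.e i0 := by
    refine ⟨s₀ * S.e i0 * s₀⁻¹ * (S.e i0)⁻¹, ?_, by group⟩
    have key : ∀ x ∈ S.D, s₀ * S.e i0 * s₀⁻¹ * (S.e i0)⁻¹ * x = x * (s₀ * S.e i0 * s₀⁻¹ * (S.e i0)⁻¹) := by
      intro x hx
      have h1 : S.e i0 * x⁻¹ * (S.e i0)⁻¹ = x := by rw [S.i0_inv _ (S.D.inv_mem hx), inv_inv]
      have hy : s₀⁻¹ * x⁻¹ * s₀ ∈ S.D := by
        have := hnD _ (S.D.inv_mem hx)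
        rwa [inv_eq_self hsq] at this ⊢
      have hii := inv_eq_self (S.e_sq mem_data.2.2.1 data_s.1)
      have hix : (S.e i0)⁻¹ * x * S.e i0 = x⁻¹ := by
        have := S.i0_inv x hx
        rwa [hii] at this ⊢
      refine mul_inv_eq_iff_eq_mul.1 ?_
      calc s₀ * S.e i0 * s₀⁻¹ * (S.e i0)⁻¹ * x * (s₀ * S.e i0 * s₀⁻¹ * (S.e i0)⁻¹)⁻¹
          = s₀ * (S.e i0 * (s₀⁻¹ * ((S.e i0)⁻¹ * x * S.e i0) * s₀) * (S.e i0)⁻¹) * s₀⁻¹ := by group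
        _ = s₀ * (S.e i0 * (s₀⁻¹ * x⁻¹ * s₀) * (S.e i0)⁻¹) * s₀⁻¹ := by rw [hix]
        _ = x := by rw [S.i0_inv _ hy]; group
    exact S.cent_D _ (key _ S.Z_mem) (key _ S.Z'_mem)
  have hd3 : d * d * (d * d) = d := by rw [← mul_assoc, S.D_cube hd, one_mul]
  have hdinv : s₀ * d * s₀⁻¹ = d⁻¹ := by
    refine eq_inv_of_mul_eq_one_left ?_
    have h := hflip (S.e i0)
    rw [hdi] at h
    refine mul_eq_right.1 (?_ : s₀ * d * s₀⁻¹ * d * S.e i0 = S.e i0)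
    calc s₀ * d * s₀⁻¹ * d * S.e i0 = s₀ * d * s₀⁻¹ * (d * S.e i0) := mul_assoc _ _ _
      _ = s₀ * d * s₀⁻¹ * (s₀ * S.e i0 * s₀⁻¹) := by rw [hdi]
      _ = s₀ * (d * S.e i0) * s₀⁻¹ := by group
      _ = _ := h
  have hx : d * d ∈ S.D := S.D.mul_mem hd hd
  have hxinv : s₀ * (d * d) * s₀⁻¹ = (d * d)⁻¹ := by
    rw [mul_inv_rev, ← hdinv]; group
  have hconj : ∀ w ∈ S.D, s₀ * (d * d) * w * (s₀ * (d * d))⁻¹ = s₀ * w * s₀⁻¹ := fun w hw =>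
    calc s₀ * (d * d) * w * (s₀ * (d * d))⁻¹ = s₀ * (d * d * w) * (d * d)⁻¹ * s₀⁻¹ := by group
      _ = _ := by rw [S.D_comm hx hw]; group
  have h2 : s₀ * (d * d) * (s₀ * (d * d)) = 1 := by
    calc s₀ * (d * d) * (s₀ * (d * d)) = (s₀ * (d * d) * s₀⁻¹) * (s₀ * s₀) * (d * d) := by group
      _ = 1 := by rw [hxinv, hsq, mul_one, inv_mul_cancel]
  have hswap' : s₀ * S.Z' * s₀⁻¹ = S.Z := by rw [← hswap]; exact hflip _
  have hsi : s₀ * (d * d) * S.e i0 * (s₀ * (d * d))⁻¹ = S.e i0 := by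
    have h := S.i0_inv _ hx
    calc s₀ * (d * d) * S.e i0 * (s₀ * (d * d))⁻¹
        = s₀ * (d * d) * (S.e i0 * (d * d) * (S.e i0)⁻¹)⁻¹⁻¹⁻¹ * S.e i0 * s₀⁻¹ := by group
      _ = s₀ * (d * d) * (d * d)⁻¹⁻¹ * S.e i0 * s₀⁻¹ := by rw [h]; group
      _ = s₀ * d * s₀⁻¹ * (s₀ * S.e i0 * s₀⁻¹) := by rw [inv_inv, mul_assoc s₀ (d * d), hd3]; group
      _ = S.e i0 := by rw [hdinv, hdi, inv_mul_cancel_left]
  have hsZ : s₀ * (d * d) * S.Z * (s₀ * (d * d))⁻¹ = S.Z' := (hconj _ S.Z_mem).trans hswap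
  have hsZ' : s₀ * (d * d) * S.Z' * (s₀ * (d * d))⁻¹ = S.Z := (hconj _ S.Z'_mem).trans hswap'
  have hsY : s₀ * (d * d) * S.Y * (s₀ * (d * d))⁻¹ = S.Y := (hconj _ S.Y_mem).trans hfix
  generalize s₀ * (d * d) = s at h2 hsi hsZ hsZ' hsY
  have hne' : s ≠ 1 := by
    rintro rfl
    rw [one_mul, inv_one, mul_one] at hsZ
    exact data_s.2.2.2.2.2.2.2.2.2.2.1 ((S.eq_iff mem_data.1 mem_data.2.1).1 hsZ)
  refine ⟨s, h2, hne', hsZ, hsZ', mul_inv_eq_iff_eq_mul.1 hsY, mul_inv_eq_iff_eq_mul.1 hsi, ?_⟩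
  obtain ⟨-, -, hit, -, -, -, hjz, hjp, htp, htz, -⟩ := data_s
  have hjL : i0 * t0 ∈ L := L.mul_mem mem_data.2.2.1 mem_data.2.2.2.1
  have hJZ : S.e (i0 * t0) * S.Z * (S.e (i0 * t0))⁻¹ = S.Z⁻¹ := by
    rw [Emb.Z, ← S.e_conj hjL mem_data.1, hjz, S.e_inv mem_data.1]
  have hJP : S.e (i0 * t0) * S.Z' * (S.e (i0 * t0))⁻¹ = S.Z' := by
    rw [Emb.Z', ← S.e_conj hjL mem_data.2.1, hjp]
  have hTP : S.e t0 * S.Z' * (S.e t0)⁻¹ = S.Z'⁻¹ := by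
    rw [Emb.Z', ← S.e_conj mem_data.2.2.2.1 mem_data.2.1, htp, S.e_inv mem_data.2.1]
  have hTZ : S.e t0 * S.Z * (S.e t0)⁻¹ = S.Z :=
    mul_inv_eq_iff_eq_mul.2 ((S.comm_iff mem_data.2.2.2.1 mem_data.1).2 htz)
  have hA : s * S.e t0 * s⁻¹ * S.Z * (s * S.e t0 * s⁻¹)⁻¹ = S.Z⁻¹ := by
    rw [← hsZ']
    calc s * S.e t0 * s⁻¹ * (s * S.Z' * s⁻¹) * (s * S.e t0 * s⁻¹)⁻¹
        = s * (S.e t0 * S.Z' * (S.e t0)⁻¹) * s⁻¹ := by group
      _ = _ := by rw [hTP]; group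
  have hB : s * S.e t0 * s⁻¹ * S.Z' * (s * S.e t0 * s⁻¹)⁻¹ = S.Z' := by
    rw [← hsZ]
    calc s * S.e t0 * s⁻¹ * (s * S.Z * s⁻¹) * (s * S.e t0 * s⁻¹)⁻¹
        = s * (S.e t0 * S.Z * (S.e t0)⁻¹) * s⁻¹ := by group
      _ = _ := by rw [hTZ]
  have hjj : (S.e (i0 * t0))⁻¹ = S.e (i0 * t0) := inv_eq_self (S.e_sq hjL (by decide +kernel))
  have hc : s * S.e t0 * s⁻¹ * (S.e (i0 * t0))⁻¹ ∈ S.D := by
    refine S.cent_D _ (mul_inv_eq_iff_eq_mul.1 ?_) (mul_inv_eq_iff_eq_mul.1 ?_)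
    · calc s * S.e t0 * s⁻¹ * (S.e (i0 * t0))⁻¹ * S.Z * (s * S.e t0 * s⁻¹ * (S.e (i0 * t0))⁻¹)⁻¹
          = s * S.e t0 * s⁻¹ * ((S.e (i0 * t0))⁻¹ * S.Z * (S.e (i0 * t0))⁻¹⁻¹) * (s * S.e t0 * s⁻¹)⁻¹ := by group
        _ = (s * S.e t0 * s⁻¹ * S.Z * (s * S.e t0 * s⁻¹)⁻¹)⁻¹ := by rw [hjj, hJZ]; group
        _ = _ := by rw [hA, inv_inv]
    · calc s * S.e t0 * s⁻¹ * (S.e (i0 * t0))⁻¹ * S.Z' * (s * S.e t0 * s⁻¹ * (S.e (i0 * t0))⁻¹)⁻¹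
          = s * S.e t0 * s⁻¹ * ((S.e (i0 * t0))⁻¹ * S.Z' * (S.e (i0 * t0))⁻¹⁻¹) * (s * S.e t0 * s⁻¹)⁻¹ := by group
        _ = _ := by rw [hjj, hJP, hB]
  have hI : S.e i0 * (s * S.e t0 * s⁻¹ * (S.e (i0 * t0))⁻¹) * (S.e i0)⁻¹
      = s * S.e t0 * s⁻¹ * (S.e (i0 * t0))⁻¹ := by
    refine mul_inv_eq_iff_eq_mul.2 ?_
    have c1 : Commute (S.e i0) (s * S.e t0 * s⁻¹) := by
      have := conj_comm s ((S.comm_iff mem_data.2.2.1 mem_data.2.2.2.1).2 hit)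
      rwa [hsi] at this
    exact (c1.mul_right ((Commute.inv_right ((S.comm_iff mem_data.2.2.1 hjL).2
      (by rw [mul_assoc, ← hit]))))).eq
  rw [S.i0_inv _ hc] at hI
  refine mul_inv_eq_one.1 ?_
  have h3 := S.D_cube hc
  generalize s * S.e t0 * s⁻¹ * (S.e (i0 * t0))⁻¹ = c at hI h3 ⊢
  rwa [show c * c = 1 from inv_eq_iff_mul_eq_one.1 hI, one_mul] at h3

include S in
/-- A three-subgroup centralising an involution has order at most three. -/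
theorem le_three {u : G} (hu : u * u = 1) (hne : u ≠ 1) (Q : Subgroup G) (hQ : IsPGroup 3 Q)
    (hc : ∀ q ∈ Q, q * u = u * q) : Nat.card Q ≤ 3 := by
  haveI : Fact (Nat.Prime 3) := ⟨Nat.prime_three⟩
  obtain ⟨n, hn⟩ := hQ.exists_card_eq
  have hn2 : n ≤ 2 := (Nat.pow_le_pow_iff_right (by norm_num : 1 < 3)).1
    ((hn.symm.trans_le (S.three Q hQ)).trans_eq (by norm_num))
  rcases eq_or_lt_of_le hn2 with rfl | hlt
  · exfalso
    obtain ⟨P, hP⟩ := S.isPGroup_D.exists_le_sylow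
    obtain ⟨R, hR⟩ := hQ.exists_le_sylow
    have hPD : S.D = (P : Subgroup G) := Subgroup.eq_of_le_of_card_ge hP (by rw [S.card_D]; exact S.three _ P.2)
    have hRQ : Q = (R : Subgroup G) := Subgroup.eq_of_le_of_card_ge hR (by rw [hn]; exact S.three _ R.2)
    obtain ⟨w, hw⟩ := MulAction.exists_smul_eq G P R
    have hcent : ∀ d ∈ S.D, w⁻¹ * u * w * d = d * (w⁻¹ * u * w) := by
      intro d hd
      have hwd : w * d * w⁻¹ ∈ Q := by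
        rw [hRQ, ← hw, Sylow.coe_subgroup_smul]
        exact Subgroup.mem_map.2 ⟨d, hPD ▸ hd, rfl⟩
      have := conj_comm w⁻¹ (hc _ hwd).symm
      simpa [mul_assoc] using this
    have h1 := S.eq_one_of_cent hcent (by
      calc w⁻¹ * u * w * (w⁻¹ * u * w) = w⁻¹ * (u * u) * w := by group
        _ = 1 := by rw [hu]; group)
    refine hne ?_
    have := congrArg (fun x => w * x * w⁻¹) h1
    simpa [mul_assoc] using this
  · rw [hn]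
    exact (Nat.pow_le_pow_right (by norm_num) (show n ≤ 1 by omega)).trans_eq (pow_one 3)

theorem excl {u : G} (hu : u * u = 1) (hne : u ≠ 1) (hz : ZT S.toEmb u) (hy : YT S.toEmb u) : False := by
  haveI : Fact (Nat.Prime 3) := ⟨Nat.prime_three⟩
  obtain ⟨g, hg⟩ := hz
  obtain ⟨h, hh⟩ := hy
  set C := Subgroup.centralizer ({u} : Set G) with hCdef
  have hcube : ∀ x, x ∈ S.D → ∀ k : G, k⁻¹ * x * k * (k⁻¹ * x * k) * (k⁻¹ * x * k) = 1 := fun x hx k => by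
    calc k⁻¹ * x * k * (k⁻¹ * x * k) * (k⁻¹ * x * k) = k⁻¹ * (x * x * x) * k := by group
      _ = 1 := by rw [S.D_cube hx]; group
  have hne' : ∀ x : G, x ≠ 1 → ∀ k : G, k⁻¹ * x * k ≠ 1 := fun x hx k e => hx (by
    have h0 := congrArg (fun w => k * w * k⁻¹) e
    simpa [mul_assoc] using h0)
  have hmem : ∀ (x k : G), k * u * k⁻¹ * x = x * (k * u * k⁻¹) → k⁻¹ * x * k ∈ C := fun x k e => by
    rw [hCdef, Subgroup.mem_centralizer_singleton_iff]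
    have := conj_comm k⁻¹ e
    simpa [mul_assoc] using this.symm
  have key : ∀ a : C, orderOf a = 3 → ∃ P : Sylow 3 C, (P : Subgroup C) = Subgroup.zpowers a := by
    intro a ha
    have hz3 : Nat.card (Subgroup.zpowers a) = 3 := by rw [Nat.card_zpowers, ha]
    have hp : IsPGroup 3 (Subgroup.zpowers a) := IsPGroup.of_card (n := 1) (by rw [hz3]; rfl)
    obtain ⟨P, hP⟩ := hp.exists_le_sylow
    refine ⟨P, (Subgroup.eq_of_le_of_card_ge hP ?_).symm⟩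
    rw [hz3, ← Subgroup.card_map_of_injective C.subtype_injective]
    refine S.le_three hu hne _ (P.2.map C.subtype) ?_
    rintro _ ⟨c, -, rfl⟩
    exact Subgroup.mem_centralizer_singleton_iff.1 c.2
  have hZ1 : S.Z ≠ 1 := S.ne_one mem_data.1 data_s.2.2.2.2.2.2.2.2.2.2.2.2.1
  have hY1 : S.Y ≠ 1 := S.ne_one (L.mul_mem mem_data.1 mem_data.2.1) (by decide +kernel)
  obtain ⟨P, hP⟩ := key ⟨_, hmem _ g hg⟩ (by
    rw [Subgroup.orderOf_mk]; exact order_three (hcube _ S.Z_mem g) (hne' _ hZ1 g))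
  obtain ⟨Q, hQ⟩ := key ⟨_, hmem _ h hh⟩ (by
    rw [Subgroup.orderOf_mk]; exact order_three (hcube _ S.Y_mem h) (hne' _ hY1 h))
  obtain ⟨c, hc⟩ := MulAction.exists_smul_eq C P Q
  have hin : c * ⟨_, hmem _ g hg⟩ * c⁻¹ ∈ (Q : Subgroup C) := by
    rw [← hc, Sylow.coe_subgroup_smul]
    exact Subgroup.mem_map.2 ⟨_, hP ▸ Subgroup.mem_zpowers _, rfl⟩
  rw [hQ] at hin
  have hin' := Subgroup.mem_map_of_mem C.subtype hin
  rw [MonoidHom.map_zpowers] at hin'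
  change (c : G) * (g⁻¹ * S.Z * g) * (c : G)⁻¹ ∈ Subgroup.zpowers (h⁻¹ * S.Y * h) at hin'
  have h4 := S.four_dvd_cent_Z
  rcases mem_zpowers_three (hcube _ S.Y_mem h) hin' with e | e | e
  · exact hne' _ hZ1 g (conj_eq_one_iff.1 e)
  · refine conj_z_ne S (h * c * g⁻¹) 1 1 (by decide) (by decide) ?_
    rw [dd_table.2.2.2.2.2.2.1]
    calc h * c * g⁻¹ * S.Z * (h * c * g⁻¹)⁻¹ = h * ((c : G) * (g⁻¹ * S.Z * g) * (c : G)⁻¹) * h⁻¹ := by group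
      _ = S.Y := by rw [e]; group
  · refine conj_z_ne S (h * c * g⁻¹) 2 2 (by decide) (by decide) ?_
    rw [show dd 2 2 = dd 1 1 * dd 1 1 by rw [dd_table.1]; rfl, S.mul (dd_mem 1 1) (dd_mem 1 1),
      dd_table.2.2.2.2.2.2.1]
    calc h * c * g⁻¹ * S.Z * (h * c * g⁻¹)⁻¹ = h * ((c : G) * (g⁻¹ * S.Z * g) * (c : G)⁻¹) * h⁻¹ := by group
      _ = S.Y * S.Y := by rw [e]; group

omit [Finite G] in
theorem ZT_conj {u : G} (g : G) (h : ZT S.toEmb u) : ZT S.toEmb (g * u * g⁻¹) := by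
  obtain ⟨k, hk⟩ := h
  exact ⟨k * g⁻¹, by simpa [mul_assoc] using hk⟩

omit [Finite G] in
theorem YT_conj {u : G} (g : G) (h : YT S.toEmb u) : YT S.toEmb (g * u * g⁻¹) := by
  obtain ⟨k, hk⟩ := h
  exact ⟨k * g⁻¹, by simpa [mul_assoc] using hk⟩

/-- Involutions of the stabiliser centralise a conjugate of `(012)`. -/
theorem ZT_of_mem {σ : P8} (hσ : σ ∈ L) (h2 : σ * σ = 1) : ZT S.toEmb (S.e σ) := by
  by_cases hc : z0 * σ = σ * z0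
  · exact ⟨1, by simpa [Emb.Z] using (S.comm_iff hσ mem_data.1).2 hc.symm⟩
  · obtain ⟨h, hh, he⟩ := inverter hσ h2 hc
    have hL := (hB_mem h hh).1
    obtain ⟨s, hs, -, hsZ, hsZ', -⟩ := S.exists_s
    refine ⟨s * (S.e h)⁻¹, ?_⟩
    have h1 := (S.comm_iff (L.mul_mem (L.mul_mem hL mem_data.2.1) (L.inv_mem hL)) hσ).2 he
    rw [S.e_conj hL mem_data.2.1] at h1
    have h2' := conj_comm (s * (S.e h)⁻¹) h1
    have : s * (S.e h)⁻¹ * (S.e h * S.e zp * (S.e h)⁻¹) * (s * (S.e h)⁻¹)⁻¹ = S.Z := by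
      rw [← hsZ']; simp [Emb.Z', mul_assoc]
    rw [this] at h2'
    exact h2'.symm

end St

end Cfsg.Agent.Recog.AEight
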