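import Cfsg.Agent.Lib.Recog.AEight.CentW

/-!
The copy is the whole group.
-/

set_option autoImplicit false

namespace Cfsg.Agent.Recog.AEight

open Equiv

variable {G : Type*} [Group G] [Finite G]

namespace Cp

variable (C : Cp G)

theorem G0_top : C.G0 = ⊤ := by
  obtain ⟨-, ht2, -, -, ht1, -⟩ := mul_tt_vv
  obtain ⟨hws, hts, -, -, -, hys⟩ := even_data
  refine eq_top_iff.2 fun g _ => ?_
  by_contra hg
  set w := C.F w0 with hw
  set u := g * C.F tt * g⁻¹ with hu
  have huG : u ∉ C.G0 := fun h => hg (C.mem_of_conj_tt h)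
  have hww : w * w = 1 := C.F_sq hws w0_data.2.1
  have huu : u * u = 1 := by
    rw [hu, show g * C.F tt * g⁻¹ * (g * C.F tt * g⁻¹) = g * (C.F tt * C.F tt) * g⁻¹ by group, C.F_sq hts ht2]
    group
  have hwp : ∀ i : ℕ, w * (u * w) ^ i * w⁻¹ = ((u * w) ^ i)⁻¹ := fun i => by
    rw [← conj_pow, ← inv_pow]
    congr 1
    rw [mul_inv_rev u w, inv_eq_self huu, mul_assoc, mul_assoc, mul_inv_cancel, mul_one, inv_eq_self hww]
  have hup : ∀ i : ℕ, u * (u * w) ^ i * u⁻¹ = ((u * w) ^ i)⁻¹ := fun i => by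
    rw [← conj_pow, ← inv_pow]
    congr 1
    rw [mul_inv_rev u w, ← mul_assoc, huu, one_mul, inv_eq_self huu, inv_eq_self hww]
  obtain ⟨m, hm⟩ | ⟨m, hm⟩ := Nat.even_or_odd (orderOf (u * w))
  · have hpos := orderOf_pos (u * w)
    set k := (u * w) ^ m with hk
    have hkk : k * k = 1 := by rw [hk, ← pow_add, ← hm, pow_orderOf_eq_one]
    have hk1 : k ≠ 1 := pow_ne_one_of_lt_orderOf (by omega) (by omega)
    have hkw : k * w = w * k := by
      have := hwp m
      rw [← hk, inv_eq_self hkk] at this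
      exact (mul_inv_eq_iff_eq_mul.1 this).symm
    have hku : k * u = u * k := by
      have := hup m
      rw [← hk, inv_eq_self hkk] at this
      exact (mul_inv_eq_iff_eq_mul.1 this).symm
    obtain ⟨σ, hσ, hσk⟩ := C.mem_G0 (C.cent_w0 hkw)
    have hσ1 : σ ≠ 1 := fun e => hk1 (by rw [← hσk, e, C.F_one])
    have hσ2 : σ * σ = 1 := (C.F_inj (by rw [map_mul, hσ, mul_one]) (map_one _)).1 (by
      rw [C.F_mul hσ hσ, hσk, hkk, C.F_one])
    obtain ⟨h, hh, rfl | rfl⟩ := two_classes hσ hσ2 hσ1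
    · exact huG (C.cent_conj_tt hh (by rw [hσk]; exact hku.symm))
    · rw [C.F_conj hh hws] at hσk
      refine huG ?_
      have h' : (C.F h)⁻¹ * u * C.F h * w = w * ((C.F h)⁻¹ * u * C.F h) := by
        have := conj_comm (C.F h)⁻¹ hku.symm
        rw [← hσk] at this
        simpa [mul_assoc, hw] using this
      have := C.G0.mul_mem (C.G0.mul_mem (C.F_mem h) (C.cent_w0 h')) (C.G0.inv_mem (C.F_mem h))
      simpa [mul_assoc] using this
  · set h := (u * w) ^ (m + 1) with hh
    have h2 : h * h = u * w := by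
      rw [hh, ← pow_add, show m + 1 + (m + 1) = orderOf (u * w) + 1 by omega, pow_succ, pow_orderOf_eq_one, one_mul]
    have hconj : h * w * h⁻¹ = u := by
      have h3 := hwp (m + 1)
      rw [← hh] at h3
      have hhi : w * h⁻¹ = h * w := by
        have h4 := congrArg Inv.inv h3
        rw [inv_inv] at h4
        calc w * h⁻¹ = (w * h * w⁻¹)⁻¹ * w := by group
          _ = h * w := by rw [h4]
      rw [mul_assoc, hhi, ← mul_assoc, h2, mul_assoc, hww, mul_one]
    exact C.toSt.excl huu (fun e => C.F_ne_one hts ht1 (conj_eq_one_iff.1 e)) (C.toSt.ZT_conj g C.ZT_tt)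
      (hconj ▸ C.toSt.YT_conj h (C.YT_of_fpf hws w0_data.2.1 w0_data.2.2.1 (by decide +kernel)))

end Cp

/-- The recognition. -/
theorem iso_alt (S : St G) : Nonempty (G ≃* alternatingGroup (Fin 8)) := by
  obtain ⟨C⟩ := S.exists_Cp
  exact ⟨(MulEquiv.ofBijective C.f ⟨C.f_inj, MonoidHom.range_eq_top.1 C.G0_top⟩).symm⟩

end Cfsg.Agent.Recog.AEight
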